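import Cfsg.Agent.Lib.FT.BG13.Tau

/-!
General lemmas for sections 15 and 16 of the local analysis.
-/

set_option autoImplicit false
set_option linter.style.haveILetI false

open Cfsg CfsgLib.Techniques Subgroup
open scoped commutatorElement

namespace CfsgLib.FT.BG15

variable {G : Type*} [Group G]

/-- The parts of an element for a set of primes and for its complement. -/
theorem exists_pi_split [Finite G] (π : Set ℕ) (x : G) :
    ∃ a b : G, a ∈ zpowers x ∧ b ∈ zpowers x ∧ a * b = x ∧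
      (∀ p : ℕ, p.Prime → p ∣ orderOf a → p ∈ π) ∧ ∀ p : ℕ, p.Prime → p ∣ orderOf b → p ∉ π := by
  suffices key : ∀ n : ℕ, n ≠ 0 → ∀ x : G, x ^ n = 1 →
      ∃ a b : G, a ∈ zpowers x ∧ b ∈ zpowers x ∧ a * b = x ∧
        (∀ p : ℕ, p.Prime → p ∣ orderOf a → p ∈ π) ∧ ∀ p : ℕ, p.Prime → p ∣ orderOf b → p ∉ π from
    key _ (orderOf_pos x).ne' x (pow_orderOf_eq_one x)
  intro n
  induction n using Nat.recOnPrimeCoprime with
  | zero => exact fun h => absurd rfl h
  | prime_pow p k hp =>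
    intro _ x hx
    have hord : ∀ q : ℕ, q.Prime → q ∣ orderOf x → q = p := fun q hq hd =>
      (Nat.prime_dvd_prime_iff_eq hq hp).1
        (hq.dvd_of_dvd_pow (hd.trans (orderOf_dvd_of_pow_eq_one hx)))
    by_cases hπ : p ∈ π
    · exact ⟨x, 1, mem_zpowers x, one_mem _, mul_one x, fun q hq hd => hord q hq hd ▸ hπ,
        fun q hq hd => absurd (by simpa using hd) hq.one_lt.ne'⟩
    · exact ⟨1, x, one_mem _, mem_zpowers x, one_mul x,
        fun q hq hd => absurd (by simpa using hd) hq.one_lt.ne',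
        fun q hq hd => hord q hq hd ▸ hπ⟩
  | coprime m n hm hn hcop hPm hPn =>
    intro _ x hx
    have hbez : (1 : ℤ) = n * Nat.gcdB m n + m * Nat.gcdA m n := by
      rw [add_comm, ← Nat.gcd_eq_gcd_ab, hcop]; rfl
    set y := x ^ ((n : ℤ) * Nat.gcdB m n) with hy
    set z := x ^ ((m : ℤ) * Nat.gcdA m n) with hz
    have hxyz : x = y * z := by rw [hy, hz, ← zpow_add, ← hbez, zpow_one]
    have hym : y ^ m = 1 := by
      rw [hy, ← zpow_natCast, ← zpow_mul, show (n : ℤ) * Nat.gcdB m n * m =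
        ((m * n : ℕ) : ℤ) * Nat.gcdB m n by push_cast; ring, zpow_mul, zpow_natCast, hx, one_zpow]
    have hzn : z ^ n = 1 := by
      rw [hz, ← zpow_natCast, ← zpow_mul, show (m : ℤ) * Nat.gcdA m n * n =
        ((m * n : ℕ) : ℤ) * Nat.gcdA m n by push_cast; ring, zpow_mul, zpow_natCast, hx, one_zpow]
    obtain ⟨a, b, ha, hb, hab, haπ, hbπ⟩ := hPm (by omega) y hym
    obtain ⟨c, d, hc, hd, hcd, hcπ, hdπ⟩ := hPn (by omega) z hzn
    have hyx : zpowers y ≤ zpowers x := zpowers_le.2 (zpow_mem (mem_zpowers x) _)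
    have hzx : zpowers z ≤ zpowers x := zpowers_le.2 (zpow_mem (mem_zpowers x) _)
    have hcomm : ∀ {u v : G}, u ∈ zpowers x → v ∈ zpowers x → Commute u v := by
      rintro _ _ ⟨i, rfl⟩ ⟨j, rfl⟩
      exact (Commute.refl x).zpow_zpow i j
    refine ⟨a * c, b * d, mul_mem (hyx ha) (hzx hc), mul_mem (hyx hb) (hzx hd), ?_, ?_, ?_⟩
    · rw [hxyz, ← hab, ← hcd, mul_assoc a c, ← mul_assoc c b, (hcomm (hzx hc) (hyx hb)).eq]
      simp [mul_assoc]
    · intro p hp h
      rcases hp.dvd_mul.1 (h.trans ((hcomm (hyx ha) (hzx hc)).orderOf_mul_dvd_mul_orderOf))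
        with h | h
      exacts [haπ p hp h, hcπ p hp h]
    · intro p hp h
      rcases hp.dvd_mul.1 (h.trans ((hcomm (hyx hb) (hzx hd)).orderOf_mul_dvd_mul_orderOf))
        with h | h
      exacts [hbπ p hp h, hdπ p hp h]

theorem centralizer_singleton_le_of_mem_zpowers {x a : G} (h : a ∈ zpowers x) :
    centralizer ({x} : Set G) ≤ centralizer ({a} : Set G) := by
  intro y hy
  obtain ⟨i, rfl⟩ := h
  exact mem_centralizer_singleton_iff.2 ((Commute.zpow_right (mem_centralizer_singleton_iff.1 hy) i).eq)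

/-- An element of prime order among the powers. -/
theorem exists_pow_prime [Finite G] {x : G} (hx : x ≠ 1) :
    ∃ p k : ℕ, p.Prime ∧ p ∣ orderOf x ∧ orderOf (x ^ k) = p := by
  obtain ⟨p, hp, hd⟩ := Nat.exists_prime_and_dvd (n := orderOf x) (by simpa [orderOf_eq_one_iff])
  refine ⟨p, orderOf x / p, hp, hd, ?_⟩
  rw [orderOf_pow, Nat.gcd_eq_right (Nat.div_dvd_of_dvd hd),
    Nat.div_div_self hd (orderOf_pos x).ne']

theorem centralizer_le_of_mem {X : Subgroup G} {x : G} (h : x ∈ X) :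
    centralizer (X : Set G) ≤ centralizer ({x} : Set G) :=
  Subgroup.centralizer_le (Set.singleton_subset_iff.2 h)

variable [Finite G]

theorem isComplIn_of_card {A B M : Subgroup G} (hA : A ≤ M) (hB : B ≤ M)
    (hn : A ≤ normalizer (B : Set G)) (hint : A ⊓ B = ⊥)
    (hc : Nat.card A * Nat.card B = Nat.card M) : IsComplIn A B M := by
  refine ⟨hA, hB, hint, fun m hm => ?_⟩
  have h := CfsgLib.Coprime.card_sup_of_inf_eq_bot hn hint
  have he : A ⊔ B = M := eq_of_le_of_card_ge (sup_le hA hB) (by rw [h, hc])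
  rw [← he, CfsgLib.Coprime.mem_sup_iff_of_le_normalizer hn] at hm
  obtain ⟨a, ha, b, hb, rfl⟩ := hm
  exact ⟨a, ha, b, hb, rfl⟩

theorem sup_eq_of_isComplIn {A B M : Subgroup G} (h : IsComplIn A B M) : A ⊔ B = M :=
  le_antisymm (sup_le h.1 h.2.1) fun m hm => by
    obtain ⟨a, ha, b, hb, rfl⟩ := h.2.2.2 m hm
    exact mul_mem_sup ha hb

theorem card_mul_card_of_isComplIn {A B M : Subgroup G} (h : IsComplIn A B M) :
    Nat.card A * Nat.card B = Nat.card M := by
  refine (Nat.card_prod A B).symm.trans (Nat.card_congr (Equiv.ofBijective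
    (fun x : A × B => (⟨(x.1 : G) * x.2, mul_mem (h.1 x.1.2) (h.2.1 x.2.2)⟩ : M)) ⟨?_, ?_⟩))
  · rintro ⟨a, b⟩ ⟨a', b'⟩ he
    have he' : (a : G) * b = a' * b' := congrArg Subtype.val he
    have h1 : (a' : G)⁻¹ * a = b' * (b : G)⁻¹ := by
      rw [eq_mul_inv_iff_mul_eq, mul_assoc, he', inv_mul_cancel_left]
    have h2 : (a' : G)⁻¹ * a ∈ A ⊓ B :=
      mem_inf.2 ⟨mul_mem (inv_mem a'.2) a.2, h1 ▸ mul_mem b'.2 (inv_mem b.2)⟩
    rw [h.2.2.1, mem_bot, inv_mul_eq_one] at h2
    refine Prod.ext (Subtype.ext h2.symm) (Subtype.ext ?_)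
    rw [h2, mul_left_cancel_iff] at he'
    exact he'
  · rintro ⟨m, hm⟩
    obtain ⟨a, ha, b, hb, rfl⟩ := h.2.2.2 m hm
    exact ⟨(⟨a, ha⟩, ⟨b, hb⟩), rfl⟩

theorem relIndex_mul_card_of_le {A M : Subgroup G} (h : A ≤ M) :
    A.relIndex M * Nat.card A = Nat.card M := by
  rw [← relIndex_bot_left A, mul_comm, relIndex_mul_relIndex _ _ _ bot_le h, relIndex_bot_left]

/-- The prime divisors of the order of an element of a subgroup. -/
theorem mem_primes_of_mem {π : Set ℕ} {H : Subgroup G} (hH : ∀ p : ℕ, p.Prime → p ∣ Nat.card H → p ∈ π)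
    {x : G} (hx : x ∈ H) {p : ℕ} (hp : p.Prime) (hd : p ∣ orderOf x) : p ∈ π :=
  hH p hp (hd.trans (Subgroup.orderOf_dvd_natCard H hx))

/-- A commutative subgroup with all elementary subgroups cyclic is cyclic. -/
theorem isCyclic_of_comm_rankLE_one {X : Subgroup G} (hodd : Odd (Nat.card X))
    (hc : IsMulCommutative X) (h : RankLE 1 X) : IsCyclic X := by
  haveI := isZGroup_of_rankLE_one hodd h
  haveI : Group.IsNilpotent X :=
    (letI : CommGroup X := { (inferInstance : Group X) with mul_comm := hc.is_comm.comm }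
     inferInstance)
  infer_instance

omit [Finite G] in
theorem pRankLE_one_of_isCyclic (p : ℕ) [Fact p.Prime] (H : Type*) [Group H] [IsCyclic H] :
    PRankLE p 1 H := by
  rw [CfsgLib.Base.pRankLE_iff]
  intro A hA
  obtain ⟨g, hg⟩ := IsCyclic.exists_generator (α := A)
  rw [← orderOf_eq_card_of_forall_mem_zpowers hg, pow_one]
  exact Nat.le_of_dvd (Fact.out : p.Prime).pos
    (orderOf_dvd_of_pow_eq_one (Subtype.ext (hA.2 g g.2)))

end CfsgLib.FT.BG15
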