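import Cfsg.Agent.Lib.FT.BG15.Hyps
import Cfsg.Agent.Lib.FT.BG15.General

/-!
The subgroup `M_F`, the standard factorisation `M = K U M_σ`.
-/

set_option autoImplicit false
set_option linter.style.haveILetI false

universe u

open Cfsg CfsgLib.OddOrder CfsgLib.Techniques Subgroup
open scoped commutatorElement

namespace CfsgLib.FT.BG15

variable {G : Type u} [Group G] [Finite G]

/-- `K* = C_{M_σ}(K)`. -/
abbrev cstar (M K : Subgroup G) : Subgroup G := sigmaCore M ⊓ centralizer (K : Set G)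

variable (hU : Upstream.{u}) (hG : IsMinSimpleOddOrder G) {M : Subgroup G} (hM : IsCoatom M)

omit hU hG hM in
theorem cstar_le_sigmaCore (M K : Subgroup G) : cstar M K ≤ sigmaCore M := inf_le_left

include hG hM in
/-- `M_F ≤ M_σ`. -/
theorem fittingHallOf_le_sigmaCore : fittingHallOf M ≤ sigmaCore M := by
  refine le_piCoreOf (fittingHallOf_le M) (le_normalizer_fittingHallOf M) fun p hp hd => ?_
  have := Fact.mk hp
  set F := fittingHallOf M with hF
  obtain ⟨P⟩ : Nonempty (Sylow p F) := inferInstance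
  haveI := isNilpotent_fittingHallOf M
  haveI hPn : (P : Subgroup F).Normal :=
    ((Group.isNilpotent_of_finite_tfae (G := F)).out 0 3 rfl rfl).1 inferInstance p inferInstance P
  have hPc : (P : Subgroup F).Characteristic := P.characteristic_of_normal hPn
  have hsyl : SylIn p ((P : Subgroup F).map F.subtype) M := by
    have h := sylIn_sylow_map P
    refine ⟨h.le.trans (fittingHallOf_le M), h.isPGroup, fun hdvd => ?_⟩
    rw [← relIndex_mul_relIndex _ _ _ h.le (fittingHallOf_le M)] at hdvd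
    rcases hp.dvd_mul.1 hdvd with hd' | hd'
    · exact h.not_dvd hd'
    · exact hp.not_dvd_one ((coprime_fittingHallOf M).gcd_eq_one ▸ Nat.dvd_gcd hd hd')
  have hne : (P : Subgroup F).map F.subtype ≠ ⊥ := sylIn_ne_bot (sylIn_sylow_map P) hd
  have hn : M ≤ normalizer (((P : Subgroup F).map F.subtype : Subgroup G) : Set G) :=
    (le_normalizer_fittingHallOf M).trans
      (CfsgLib.Base.normalizer_le_normalizer_map_subtype F _)
  exact (mem_sigma_iff hsyl).2 ⟨hd.trans (card_dvd_of_le (fittingHallOf_le M)),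
    (normalizer_eq_maximal hG hM hsyl.le hne hn).le⟩

include hU hG hM in
theorem sigmaCore_hallOf : IsPiHallOf (sigma M) (sigmaCore M) M :=
  BG13.sigmaCore_hallOf hU.bg13 hG hM

include hU hG hM in
theorem sigmaCore_ne_bot' : sigmaCore M ≠ ⊥ := sigmaCore_ne_bot hU.bg13.s1403 hG hM

include hU hG hM in
theorem sigmaCore_le_derived' : sigmaCore M ≤ ⁅M, M⁆ := sigmaCore_le_derived hU.bg13.s1403 hG hM

include hU hG hM in
/-- If `M_σ` is nilpotent it is `M_F`. -/
theorem fittingHallOf_eq_of_nilpotent (h : Group.IsNilpotent (sigmaCore M)) :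
    fittingHallOf M = sigmaCore M := by
  refine le_antisymm (fittingHallOf_le_sigmaCore hG hM) ?_
  have hS := sigmaCore_hallOf hU hG hM
  have hcop : (Nat.card (piCore (sigma M) M)).Coprime (piCore (sigma M) M).index := by
    have := CfsgLib.Coprime.coprime_of_pi hS.2.1 hS.2.2
    rwa [sigmaCore, CfsgLib.Base.card_map_subtype, Subgroup.relIndex, Subgroup.subgroupOf,
      comap_map_eq_self_of_injective M.subtype_injective] at this
  have hn : Group.IsNilpotent (piCore (sigma M) M) :=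
    haveI : Group.IsNilpotent ↥((piCore (sigma M) M).map M.subtype) := h
    Group.nilpotent_of_mulEquiv
      ((piCore (sigma M) M).equivMapOfInjective M.subtype M.subtype_injective).symm
  exact map_mono (le_fittingHall hn hcop)

include hU hG hM in
theorem fittingHallOf_eq_iff : fittingHallOf M = sigmaCore M ↔ Group.IsNilpotent (sigmaCore M) :=
  ⟨fun h => h ▸ isNilpotent_fittingHallOf M, fittingHallOf_eq_of_nilpotent hU hG hM⟩

/-! ### Prime sets -/

include hG in
theorem tau13_of_kappa {p : ℕ} (hp : p ∈ kappa M) : BG13.Tau13 M p := by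
  obtain ⟨hpp, hd, hσ, h⟩ := hp
  have := Fact.mk hpp
  obtain ⟨P⟩ : Nonempty (Sylow p M) := inferInstance
  haveI := (h P).1
  exact ⟨hpp, hσ, hd, (CfsgLib.Base.pRankLE_iff_sylow P).2
    (pRankLE_one_of_isCyclic p P)⟩

include hG in
theorem not_tau2_of_kappa {p : ℕ} (hp : p ∈ kappa M) : p ∉ tau2 M := fun h =>
  h.2.2.2 (tau13_of_kappa hG hp).2.2.2

omit hU hG hM in
theorem not_sigma_of_kappa {p : ℕ} (hp : p ∈ kappa M) : p ∉ sigma M := hp.2.2.1

/-! ### The standard factorisation -/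

variable {K U : Subgroup G}

omit hU hG hM in
theorem decomp_K_le (hD : IsSigmaDecomposition M K U) : K ≤ M := hD.hall.1

omit hU hG hM in
theorem decomp_U_le (hD : IsSigmaDecomposition M K U) : U ≤ M := hD.compl.1

omit hG hM in
theorem decomp_K_normalizer (hD : IsSigmaDecomposition M K U) :
    K ≤ normalizer (sigmaCore M : Set G) :=
  hD.hall.1.trans (le_normalizer_sigmaCore M)

include hU hG hM in
theorem K_inf_sigmaCore (hK : IsPiHallOf (kappa M) K M) : K ⊓ sigmaCore M = ⊥ :=
  CfsgLib.Base.inf_eq_bot_of_coprime (Nat.coprime_of_dvd fun p hp h1 h2 =>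
    not_sigma_of_kappa (hK.2.1 p hp h1) ((sigmaCore_hallOf hU hG hM).2.1 p hp h2))

include hU hG hM in
theorem card_K_sup_sigmaCore (hK : IsPiHallOf (kappa M) K M) :
    Nat.card ↥(K ⊔ sigmaCore M) = Nat.card K * Nat.card (sigmaCore M) :=
  CfsgLib.Coprime.card_sup_of_inf_eq_bot (hK.1.trans (le_normalizer_sigmaCore M))
    (K_inf_sigmaCore hU hG hM hK)

include hU hG hM in
theorem decomp_card (hD : IsSigmaDecomposition M K U) :
    Nat.card U * Nat.card K * Nat.card (sigmaCore M) = Nat.card M := by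
  rw [mul_assoc, ← card_K_sup_sigmaCore hU hG hM hD.hall, card_mul_card_of_isComplIn hD.compl]

include hU hG hM in
theorem decomp_U_primes (hD : IsSigmaDecomposition M K U) {p : ℕ} (hp : p.Prime)
    (hd : p ∣ Nat.card U) : p ∉ sigma M ∧ p ∉ kappa M := by
  have hS := sigmaCore_hallOf hU hG hM
  have hc := decomp_card hU hG hM hD
  constructor <;> intro h
  · refine hS.2.2 p hp h ?_
    have h1 : (sigmaCore M).relIndex M = Nat.card U * Nat.card K :=
      Nat.eq_of_mul_eq_mul_right Nat.card_pos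
        ((relIndex_mul_card_of_le (sigmaCore_le M)).trans hc.symm)
    exact h1 ▸ hd.mul_right _
  · refine hD.hall.2.2 p hp h ?_
    have h1 : K.relIndex M = Nat.card U * Nat.card (sigmaCore M) :=
      Nat.eq_of_mul_eq_mul_right (Nat.card_pos (α := K))
        ((relIndex_mul_card_of_le hD.hall.1).trans (by rw [← hc]; ring))
    exact h1 ▸ hd.mul_right _

include hU hG hM in
theorem coprime_K_U (hD : IsSigmaDecomposition M K U) : (Nat.card K).Coprime (Nat.card U) :=
  Nat.coprime_of_dvd fun p hp h1 h2 =>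
    (decomp_U_primes hU hG hM hD hp h2).2 (hD.hall.2.1 p hp h1)

include hU hG hM in
theorem coprime_U_sigmaCore (hD : IsSigmaDecomposition M K U) :
    (Nat.card U).Coprime (Nat.card (sigmaCore M)) :=
  Nat.coprime_of_dvd fun p hp h1 h2 =>
    (decomp_U_primes hU hG hM hD hp h1).1 ((sigmaCore_hallOf hU hG hM).2.1 p hp h2)

include hU hG hM in
theorem card_K_sup_U (hD : IsSigmaDecomposition M K U) :
    Nat.card ↥(K ⊔ U) = Nat.card K * Nat.card U :=
  CfsgLib.Coprime.card_sup_of_inf_eq_bot hD.normal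
    (CfsgLib.Base.inf_eq_bot_of_coprime (coprime_K_U hU hG hM hD))

include hU hG hM in
theorem coprime_KU_sigmaCore (hD : IsSigmaDecomposition M K U) :
    (Nat.card ↥(K ⊔ U)).Coprime (Nat.card (sigmaCore M)) := by
  rw [card_K_sup_U hU hG hM hD]
  refine Nat.Coprime.mul_left ?_ (coprime_U_sigmaCore hU hG hM hD)
  exact Nat.coprime_of_dvd fun p hp h1 h2 =>
    not_sigma_of_kappa (hD.hall.2.1 p hp h1) ((sigmaCore_hallOf hU hG hM).2.1 p hp h2)

include hU hG hM in
/-- `K U` is a complement of `M_σ` in `M`. -/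
theorem decomp_compl (hD : IsSigmaDecomposition M K U) : IsComplIn (K ⊔ U) (sigmaCore M) M := by
  refine isComplIn_of_card (sup_le hD.hall.1 hD.compl.1) (sigmaCore_le M)
    ((sup_le hD.hall.1 hD.compl.1).trans (le_normalizer_sigmaCore M))
    (CfsgLib.Base.inf_eq_bot_of_coprime (coprime_KU_sigmaCore hU hG hM hD)) ?_
  rw [card_K_sup_U hU hG hM hD, mul_comm (Nat.card K)]
  exact decomp_card hU hG hM hD

include hU hG hM in
/-- `U` is a Hall subgroup of `M`. -/
theorem decomp_hall (hD : IsSigmaDecomposition M K U) :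
    IsPiHallOf {q | q.Prime ∧ q ∉ sigma M ∧ q ∉ kappa M} U M := by
  refine ⟨hD.compl.1, fun p hp hd => ⟨hp, decomp_U_primes hU hG hM hD hp hd⟩, fun p hp hπ hd => ?_⟩
  have h1 : U.relIndex M = Nat.card K * Nat.card (sigmaCore M) :=
    Nat.eq_of_mul_eq_mul_right (Nat.card_pos (α := U))
      ((relIndex_mul_card_of_le hD.compl.1).trans (by rw [← decomp_card hU hG hM hD]; ring))
  rw [h1] at hd
  rcases hp.dvd_mul.1 hd with h | h
  · exact hπ.2.2 (hD.hall.2.1 p hp h)
  · exact hπ.2.1 ((sigmaCore_hallOf hU hG hM).2.1 p hp h)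

omit hU hG hM in
theorem decomp_sup (hD : IsSigmaDecomposition M K U) : U ⊔ (K ⊔ sigmaCore M) = M :=
  sup_eq_of_isComplIn hD.compl

omit hU hG hM in
/-- `U M_σ` is normal in `M`. -/
theorem decomp_normal (hD : IsSigmaDecomposition M K U) :
    M ≤ normalizer ((U ⊔ sigmaCore M : Subgroup G) : Set G) := by
  conv_lhs => rw [← decomp_sup hD]
  refine sup_le (le_sup_left.trans le_normalizer) (sup_le ?_ (le_sup_right.trans le_normalizer))
  exact CfsgLib.Coprime.le_normalizer_sup_sup hD.normal (hD.hall.1.trans (le_normalizer_sigmaCore M))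

include hU hG hM in
theorem U_sup_sigmaCore_primes (hD : IsSigmaDecomposition M K U) {p : ℕ} (hp : p.Prime)
    (hd : p ∣ Nat.card ↥(U ⊔ sigmaCore M)) : p ∉ kappa M := by
  have h := hd.trans (CfsgLib.Coprime.card_sup_dvd (hD.compl.1.trans (le_normalizer_sigmaCore M)))
  rcases hp.dvd_mul.1 h with h | h
  · exact (decomp_U_primes hU hG hM hD hp h).2
  · exact fun hk => not_sigma_of_kappa hk ((sigmaCore_hallOf hU hG hM).2.1 p hp h)

include hU hG hM in
theorem K_inf_U_sup_sigmaCore (hD : IsSigmaDecomposition M K U) : K ⊓ (U ⊔ sigmaCore M) = ⊥ :=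
  CfsgLib.Base.inf_eq_bot_of_coprime (Nat.coprime_of_dvd fun _ hp h1 h2 =>
    U_sup_sigmaCore_primes hU hG hM hD hp h2 (hD.hall.2.1 _ hp h1))

include hU hG hM in
theorem exists_decomposition_of_hall (hKc : IsCyclic K) (hK : IsPiHallOf (kappa M) K M) :
    ∃ U : Subgroup G, IsSigmaDecomposition M K U := by
  have hS := sigmaCore_hallOf hU hG hM
  have hn := hK.1.trans (le_normalizer_sigmaCore M)
  have mk : ∀ U : Subgroup G, IsPiHallOf {q | q.Prime ∧ q ∉ kappa M ∧ q ∉ sigma M} U M →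
      K ≤ normalizer (U : Set G) → IsSigmaDecomposition M K U := by
    intro U hUh hKU
    refine ⟨hKc, hK, ?_, hKU⟩
    have hcopKS := card_K_sup_sigmaCore hU hG hM hK
    have hcop : (Nat.card U).Coprime (Nat.card ↥(K ⊔ sigmaCore M)) := by
      refine hcopKS.symm ▸ Nat.Coprime.mul_right ?_ ?_
      · exact Nat.coprime_of_dvd fun p hp h1 h2 => (hUh.2.1 p hp h1).2.1 (hK.2.1 p hp h2)
      · exact Nat.coprime_of_dvd fun p hp h1 h2 => (hUh.2.1 p hp h1).2.2 (hS.2.1 p hp h2)
    have hle : K ⊔ sigmaCore M ≤ M := sup_le hK.1 (sigmaCore_le M)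
    have hint := CfsgLib.Base.inf_eq_bot_of_coprime hcop
    -- `U (K M_σ)` is everything
    have hnU : K ≤ normalizer ((U ⊔ sigmaCore M : Subgroup G) : Set G) :=
      CfsgLib.Coprime.le_normalizer_sup_sup hKU hn
    have hsup : K ⊔ (U ⊔ sigmaCore M) = M := by
      refine eq_of_le_of_card_ge (sup_le hK.1 (sup_le hUh.1 (sigmaCore_le M))) ?_
      refine Nat.le_of_dvd Nat.card_pos ?_
      rw [← relIndex_mul_card_of_le (sup_le hK.1 (sup_le hUh.1 (sigmaCore_le M)))]
      suffices h1 : (K ⊔ (U ⊔ sigmaCore M)).relIndex M = 1 by rw [h1, one_mul]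
      refine Nat.eq_one_iff_not_exists_prime_dvd.2 fun p hp hd => ?_
      by_cases hk : p ∈ kappa M
      · exact hK.2.2 p hp hk (hd.trans (relIndex_dvd_of_le_left M le_sup_left))
      by_cases hs : p ∈ sigma M
      · exact hS.2.2 p hp hs
          (hd.trans (relIndex_dvd_of_le_left M (le_sup_right.trans le_sup_right)))
      · exact hUh.2.2 p hp ⟨hp, hk, hs⟩
          (hd.trans (relIndex_dvd_of_le_left M (le_sup_left.trans le_sup_right)))
    refine ⟨hUh.1, hle, hint, fun m hm => ?_⟩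
    rw [← hsup, CfsgLib.Coprime.mem_sup_iff_of_le_normalizer hnU] at hm
    obtain ⟨k, hk, x, hx, rfl⟩ := hm
    obtain ⟨a, ha, s, hs, rfl⟩ :=
      (CfsgLib.Coprime.mem_sup_iff_of_le_normalizer (hUh.1.trans (le_normalizer_sigmaCore M))).1 hx
    refine ⟨k * a * k⁻¹, (mem_normalizer_iff.1 (hKU hk) a).1 ha, k * s, mul_mem_sup hk hs, ?_⟩
    group
  by_cases hK1 : K = ⊥
  · haveI := maximal_solvable hG hM
    obtain ⟨H, hH, -⟩ :=
      CfsgLib.Coprime.hallD_of_solvable (G := M) {q | q.Prime ∧ q ∉ kappa M ∧ q ∉ sigma M}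
    exact ⟨_, mk _ (CfsgLib.Coprime.piHallOf_map_subtype hH) (hK1 ▸ bot_le)⟩
  · obtain ⟨-, ⟨U, -, hUh, hKU, -⟩, -⟩ := hU.s1430 hG M hM K hK hK1
    exact ⟨U, mk U hUh hKU⟩

include hU hG hM in
theorem exists_decomposition : ∃ K U : Subgroup G, IsSigmaDecomposition M K U := by
  obtain ⟨⟨K, hK⟩, hc⟩ := hU.s1351 hG M hM
  exact ⟨K, exists_decomposition_of_hall hU hG hM (hc K hK) hK⟩

include hU hG hM in
theorem K_ne_bot_iff (hK : IsPiHallOf (kappa M) K M) : K ≠ ⊥ ↔ (kappa M).Nonempty := by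
  constructor
  · intro h
    obtain ⟨p, hp, hd⟩ := Nat.exists_prime_and_dvd (n := Nat.card K)
      (fun e => h (eq_bot_of_card_eq K e))
    exact ⟨p, hK.2.1 p hp hd⟩
  · rintro ⟨p, hp⟩ rfl
    exact hK.2.2 p hp.1 hp (by rw [relIndex_bot_left]; exact hp.2.1)

end CfsgLib.FT.BG15
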