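import Cfsg.Agent.Lib.FT.BG15.Hyps
import Cfsg.Agent.Lib.FT.BG13.Discharge
import Cfsg.Agent.Lib.FT.BG13.S139
import Cfsg.Agent.Lib.FT.BG13.S1411
import Cfsg.Agent.Lib.FT.BG13.S1412
import Cfsg.Agent.Lib.FT.BG13.PartnersStmts
import Cfsg.Agent.Lib.FT.BG13.Support
import Cfsg.Agent.Lib.FT.BG13.TypePStmts
import Cfsg.Agent.Lib.FT.BG12.Regular
import Cfsg.Agent.Lib.FT.BG12.Tau2Elements
import Cfsg.Agent.Lib.FT.BG12.Tau2Nonabelian
import Cfsg.Agent.Lib.FT.Discharge10
import Cfsg.Agent.Lib.FT.Discharge1444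
import Cfsg.Agent.Lib.FT.Sigma10

/-!
What sections 15 and 16 assume, proved.
-/

set_option autoImplicit false

universe u

open Cfsg

namespace CfsgLib.FT.BG15

theorem tau2HatAbelian : Tau2HatAbelian.{u} := fun {_} _ _ hG M hM E hE =>
  ⟨BG12.hatTau2 M E, BG12.hatTau2_le M E, BG12.hatTau2_comm BG13.up hG hM hE,
    BG12.le_normalizer_hatTau2 hE, fun _ hx hh hτ => BG12.mem_hatTau2 hx hh hτ⟩

theorem sigmaDisjoint : SigmaDisjoint.{u} := fun {_} _ _ hG M N hM hN h =>
  (BG13.stmtS1378_of BG13.upstream hG).2 M N hM hN h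

/-- The inputs of sections 15 and 16. -/
theorem upstream : Upstream.{u} where
  bg13 := BG13.upstream
  s1408 := stmtS1408_of stmtS1403
  s1412 := stmtS1412_of stmtS1403 stmtS1444 BG13.stmtS1448'
  s1419 := BG12.stmtS1419_of BG13.up
  s1421 := BG12.stmtS1421_of BG13.up
  tau2 := tau2HatAbelian
  sigmaDisjoint := sigmaDisjoint
  s1429 := BG13.stmtS1429_of BG13.upstream
  s1430 := BG13.stmtS1430_of BG13.upstream
  s1431 := BG13.stmtS1431_of BG13.upstream
  s1432 := BG13.stmtS1432_of BG13.upstream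
  s1434 := BG13.stmtS1434_of BG13.upstream
  s1435 := BG13.stmtS1435_of BG13.upstream
  s1436 := BG13.stmtS1436_of BG13.upstream
  s1351 := BG13.stmtS1351_of BG13.upstream
  s1366 := BG13.stmtS1366_of BG13.upstream
  s1367 := BG13.stmtS1367_of BG13.upstream
  s1368 := BG13.stmtS1368_of BG13.upstream
  s1369 := BG13.stmtS1369_of BG13.upstream
  s1374 := BG13.stmtS1374_of BG13.upstream
  s1375 := BG13.stmtS1375_of BG13.upstream
  s1453 := stmtS1453

end CfsgLib.FT.BG15
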