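import Cfsg.Agent.Lib.FT.BG15.Hyps
import Cfsg.Agent.Lib.FT.BG15.General
import Cfsg.Agent.Lib.Base.ThompsonFPF
import Cfsg.Agent.Lib.PGroups.Basic

/-!
BG Theorem 15.2, the group theory: a prime action with fixed points of prime order inside the
derived subgroup on a group which is not nilpotent.
-/

set_option autoImplicit false
set_option linter.style.haveILetI false
set_option maxHeartbeats 400000

universe u

open Cfsg CfsgLib.Techniques Subgroup
open scoped Pointwise
open scoped commutatorElement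

namespace CfsgLib.FT.BG15

variable {X : Type u} [Group X] [Finite X]

/-- Fixed points of a coprime action on a quotient. -/
theorem inf_centralizer_map {N S A : Subgroup X} [N.Normal] (hNS : N ≤ S)
    (hcop : (Nat.card A).Coprime (Nat.card N)) (hsolv : Group.IsSolvable A ∨ Group.IsSolvable N) :
    S.map (QuotientGroup.mk' N) ⊓ centralizer ((A.map (QuotientGroup.mk' N) : Subgroup _) : Set _) =
      (S ⊓ centralizer (A : Set X)).map (QuotientGroup.mk' N) := by
  set φ := QuotientGroup.mk' N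
  refine le_antisymm ?_ ?_
  · rintro _ ⟨⟨k, hk, rfl⟩, hc⟩
    obtain ⟨c, hcA, hkc⟩ := CfsgLib.Coprime.exists_centralizing_in_coset (A := A) (N := N) (k := k)
      (fun a _ => le_normalizer_of_normal (K := ⊤) (mem_top a)) hcop hsolv fun a ha => by
        have h1 : φ a * φ k = φ k * φ a :=
          mem_centralizer_iff.1 hc (φ a) (mem_map_of_mem φ ha)
        rw [← QuotientGroup.eq_one_iff, ← QuotientGroup.mk'_apply, map_mul, map_inv, map_mul,
          map_mul, map_inv]
        show (φ k)⁻¹ * (φ a * φ k * (φ a)⁻¹) = 1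
        rw [h1, mul_inv_cancel_right, inv_mul_cancel]
    refine ⟨c, mem_inf.2 ⟨?_, hcA⟩, ?_⟩
    · have := mul_mem hk (hNS hkc)
      rwa [mul_inv_cancel_left] at this
    · rw [eq_comm, QuotientGroup.mk'_eq_mk']
      exact ⟨k⁻¹ * c, hkc, by group⟩
  · rintro _ ⟨k, hk, rfl⟩
    refine mem_inf.2 ⟨mem_map_of_mem φ (mem_inf.1 hk).1, mem_centralizer_iff.2 ?_⟩
    rintro _ ⟨a, ha, rfl⟩
    rw [← map_mul, ← map_mul, mem_centralizer_iff.1 (mem_inf.1 hk).2 a ha]

omit [Finite X] in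
/-- A join of commuting nilpotent subgroups is nilpotent. -/
theorem isNilpotent_sup_of_commute {A B : Subgroup X} (hA : Group.IsNilpotent A)
    (hB : Group.IsNilpotent B) (hc : A ≤ centralizer (B : Set X)) :
    Group.IsNilpotent ↥(A ⊔ B) := by
  have hcomm : ∀ (a : A) (b : B), Commute (A.subtype a) (B.subtype b) := fun a b =>
    (mem_centralizer_iff.1 (hc a.2) b b.2).symm
  have hr : (MonoidHom.noncommCoprod A.subtype B.subtype hcomm).range = A ⊔ B := by
    rw [MonoidHom.noncommCoprod_range, range_subtype, range_subtype]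
  rw [← hr]
  exact Group.nilpotent_of_surjective _
    (MonoidHom.rangeRestrict_surjective (MonoidHom.noncommCoprod A.subtype B.subtype hcomm))

/-- The hypotheses of BG 15.2 on `X = S R`. -/
structure PrimeSetting (S R : Subgroup X) (q : ℕ) : Prop where
  solv : Group.IsSolvable X
  odd : Odd (Nat.card X)
  normal : S.Normal
  sup : S ⊔ R = ⊤
  cop : (Nat.card R).Coprime (Nat.card S)
  ne : R ≠ ⊥
  prime : ∀ x ∈ R, x ≠ 1 → S ⊓ centralizer ({x} : Set X) = S ⊓ centralizer (R : Set X)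
  card : Nat.card ↥(S ⊓ centralizer (R : Set X)) = q
  hq : q.Prime
  fix_le : S ⊓ centralizer (R : Set X) ≤ ⁅S, S⁆

variable {S R : Subgroup X} {q : ℕ}

theorem PrimeSetting.quot_prime (h : PrimeSetting S R q) {N : Subgroup X} [N.Normal] (hNS : N ≤ S)
    {x : X} (hx : x ∈ R) (hx1 : x ≠ 1) :
    S.map (QuotientGroup.mk' N) ⊓ centralizer ({QuotientGroup.mk' N x} : Set (X ⧸ N)) =
      (S ⊓ centralizer (R : Set X)).map (QuotientGroup.mk' N) := by
  haveI := h.solv
  rw [← BG13.centralizer_zpowers', ← MonoidHom.map_zpowers,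
    inf_centralizer_map hNS ((h.cop.coprime_dvd_left (card_dvd_of_le (zpowers_le.2 hx)))
      |>.coprime_dvd_right (card_dvd_of_le hNS)) (Or.inr inferInstance),
    BG13.centralizer_zpowers', h.prime x hx hx1]

/-- The main step: modulo `N` the group `S` is nilpotent and `R` has no fixed point. -/
theorem PrimeSetting.nilpotent_quot (h1445 : StmtS1445.{u}) (h : PrimeSetting S R q)
    {N : Subgroup X} [N.Normal] (hNS : N ≤ S)
    (hF : fittingOf (S.map (QuotientGroup.mk' N)) ⊓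
      (S ⊓ centralizer (R : Set X)).map (QuotientGroup.mk' N) = ⊥) :
    Group.IsNilpotent (S.map (QuotientGroup.mk' N)) ∧ S ⊓ centralizer (R : Set X) ≤ N := by
  haveI := h.solv
  haveI := h.normal
  set φ := QuotientGroup.mk' N with hφ
  have hsurj : Function.Surjective φ := QuotientGroup.mk'_surjective N
  haveI : Group.IsSolvable (X ⧸ N) := Group.isSolvable_of_surjective hsurj
  haveI : (S.map φ).Normal := h.normal.map φ hsurj
  have hcop : (Nat.card (S.map φ)).Coprime (Nat.card (R.map φ)) :=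
    (h.cop.symm.coprime_dvd_left (card_map_dvd S φ)).coprime_dvd_right (card_map_dvd R φ)
  have hC : S.map φ ⊓ centralizer ((R.map φ : Subgroup _) : Set (X ⧸ N)) =
      (S ⊓ centralizer (R : Set X)).map φ :=
    inf_centralizer_map hNS (h.cop.coprime_dvd_right (card_dvd_of_le hNS)) (Or.inr inferInstance)
  set F := fittingOf (S.map φ) with hFdef
  set C := (S ⊓ centralizer (R : Set X)).map φ with hCdef
  have h45 : ⁅S.map φ, R.map φ⁆ ≤ F := h1445 (h.odd.of_dvd_nat (card_quotient_dvd_card N))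
    (S.map φ) (R.map φ) (by rw [← Subgroup.map_sup, h.sup, map_top_of_surjective φ hsurj]) hcop
    (by
      rintro _ ⟨x, hx, rfl⟩ hx1
      rw [hC, h.quot_prime hNS hx fun e => hx1 (by rw [e, map_one])])
    (le_bot_iff.1 (le_trans (le_inf inf_le_left (le_trans (le_inf
      (inf_le_left.trans (CfsgLib.OddOrder.fittingOf_le _)) inf_le_right) hC.le)) hF.le))
  have hsup := CfsgLib.Coprime.commutator_sup_centralizer (A := R.map φ) (K := S.map φ)
    (fun a _ => le_normalizer_of_normal (K := ⊤) (mem_top a)) hcop.symm (Or.inr inferInstance)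
  rw [hC] at hsup
  have hle : S.map φ ≤ C ⊔ F := by
    rw [← hsup, sup_comm C]
    exact sup_le_sup_right h45 _
  have hCS : C ≤ S.map φ := map_mono inf_le_left
  have hCn : C ≤ normalizer (F : Set (X ⧸ N)) :=
    hCS.trans (CfsgLib.OddOrder.le_normalizer_fittingOf _)
  have hCF : C ≤ F := by
    refine le_trans (map_mono h.fix_le) ?_
    rw [map_commutator]
    refine le_trans (commutator_mono hle hle) ?_
    rw [commutator_le]
    intro a ha b hb
    obtain ⟨c, hc, f, hf, rfl⟩ := (CfsgLib.Coprime.mem_sup_iff_of_le_normalizer hCn).1 ha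
    obtain ⟨d, hd, g, hg, rfl⟩ := (CfsgLib.Coprime.mem_sup_iff_of_le_normalizer hCn).1 hb
    have hcd : c * d = d * c := by
      haveI := Fact.mk h.hq
      obtain ⟨c', hc', rfl⟩ := hc
      obtain ⟨d', hd', rfl⟩ := hd
      haveI : IsCyclic ↥(S ⊓ centralizer (R : Set X)) := isCyclic_of_prime_card h.card
      letI := IsCyclic.commGroup (α := ↥(S ⊓ centralizer (R : Set X)))
      rw [← map_mul, ← map_mul]
      exact congrArg φ (congrArg Subtype.val
        (mul_comm (⟨c', hc'⟩ : ↥(S ⊓ centralizer (R : Set X))) ⟨d', hd'⟩))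
    have hf' := fun (x : X ⧸ N) (hx : x ∈ C) (y : X ⧸ N) (hy : y ∈ F) =>
      (mem_normalizer_iff.1 (hCn hx) y).1 hy
    rw [commutatorElement_def, show c * f * (d * g) * (c * f)⁻¹ * (d * g)⁻¹ =
      c * f * c⁻¹ * (c * d * g * (c * d)⁻¹) * (c * d * f⁻¹ * (c * d)⁻¹) * (c * d * c⁻¹ * g⁻¹ * d⁻¹) by
        group]
    refine mul_mem (mul_mem (mul_mem (hf' c hc f hf) (hf' _ (mul_mem hc hd) g hg))
      (hf' _ (mul_mem hc hd) _ (inv_mem hf))) ?_
    rw [hcd, show d * c * c⁻¹ * g⁻¹ * d⁻¹ = d * g⁻¹ * d⁻¹ by group]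
    exact hf' d hd _ (inv_mem hg)
  have hC1 : C = ⊥ := le_bot_iff.1 ((le_inf hCF le_rfl).trans hF.le)
  refine ⟨?_, ?_⟩
  · rw [hC1, bot_sup_eq] at hle
    exact CfsgLib.Base.isNilpotent_of_le hle (CfsgLib.OddOrder.isNilpotent_fittingOf _)
  · rw [← QuotientGroup.ker_mk' N, ← hφ, ← Subgroup.map_eq_bot_iff]
    exact hC1

/-- `O_q(S)` is a normal Sylow subgroup of `S` with nilpotent quotient. -/
theorem PrimeSetting.exists_sylow (h1445 : StmtS1445.{u}) (h : PrimeSetting S R q) :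
    ∃ Q : Subgroup X, Q.Normal ∧ Q ≤ S ∧ IsPGroup q Q ∧ ¬ q ∣ Q.relIndex S ∧
      S ⊓ centralizer (R : Set X) ≤ Q ∧
      ∀ D : Subgroup X, D ≤ S → Q ⊓ D = ⊥ → Group.IsNilpotent D := by
  haveI := h.solv
  haveI := h.normal
  haveI := Fact.mk h.hq
  set Q := piCoreOf {q} S with hQ
  have hQn : Q.Normal := by
    rw [← normalizer_eq_top_iff, eq_top_iff]
    refine le_trans ?_ (CfsgLib.Base.normalizer_le_normalizer_map_subtype S _)
    rw [normalizer_eq_top_iff.2 h.normal]
  have hQS : Q ≤ S := CfsgLib.OddOrder.piCoreOf_le _ _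
  have hQp : IsPGroup q Q := CfsgLib.Coprime.piSubgroup_singleton_iff.1
    fun p hp hd => CfsgLib.OddOrder.piCoreOf_primes {q} S p hp hd
  set φ := QuotientGroup.mk' Q with hφ
  haveI : Group.IsNilpotent ↥(fittingOf (S.map φ)) := CfsgLib.OddOrder.isNilpotent_fittingOf _
  have hF0 : ¬ q ∣ Nat.card (fittingOf (S.map φ)) := by
    intro hd
    set F := fittingOf (S.map φ) with hF
    obtain ⟨P⟩ : Nonempty (Sylow q F) := inferInstance
    haveI hPn : (P : Subgroup F).Normal :=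
      ((Group.isNilpotent_of_finite_tfae (G := F)).out 0 3 rfl rfl).1 inferInstance q inferInstance P
    have hPc : (P : Subgroup F).Characteristic := P.characteristic_of_normal hPn
    set P' := (P : Subgroup F).map F.subtype with hP'
    have hne : P' ≠ ⊥ := sylIn_ne_bot (sylIn_sylow_map P) hd
    have hPS : S.map φ ≤ normalizer (P' : Set (X ⧸ Q)) :=
      (CfsgLib.OddOrder.le_normalizer_fittingOf _).trans
        (CfsgLib.Base.normalizer_le_normalizer_map_subtype F _)
    have hle : P'.comap φ ≤ Q := by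
      refine CfsgLib.OddOrder.le_piCoreOf ?_ ?_
        (CfsgLib.Coprime.piSubgroup_singleton_iff.2 ((P.isPGroup'.map F.subtype).comap_of_ker_isPGroup
          φ (by rw [hφ, QuotientGroup.ker_mk']; exact hQp)))
      · refine le_trans (comap_mono ((map_subtype_le _).trans (CfsgLib.OddOrder.fittingOf_le _))) ?_
        rw [hφ, QuotientGroup.comap_map_mk', sup_eq_right.2 hQS]
      · intro s hs
        refine mem_normalizer_iff.2 fun y => ?_
        simp only [mem_comap, map_mul, map_inv]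
        exact mem_normalizer_iff.1 (hPS (mem_map_of_mem φ hs)) (φ y)
    refine hne (le_bot_iff.1 ?_)
    rw [← map_comap_eq_self_of_surjective (QuotientGroup.mk'_surjective Q) P']
    exact (map_mono hle).trans (QuotientGroup.map_mk'_self Q).le
  obtain ⟨hnil, hC⟩ := h.nilpotent_quot h1445 hQS (N := Q) (by
    refine CfsgLib.Base.inf_eq_bot_of_coprime (Nat.Coprime.coprime_dvd_right
      (card_map_dvd _ φ) ?_)
    rw [h.card]
    exact ((h.hq.coprime_iff_not_dvd).2 hF0).symm)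
  refine ⟨Q, hQn, hQS, hQp, fun hd => hF0 ?_, hC, fun D hDS hQD => ?_⟩
  · have hF : fittingOf (S.map φ) = S.map φ := by
      refine le_antisymm (CfsgLib.OddOrder.fittingOf_le _) ?_
      exact CfsgLib.Base.le_map_fittingSubgroup le_rfl le_normalizer hnil
    rw [hF, hφ, CfsgLib.Coprime.card_map_mk']
    exact hd
  · haveI := hnil
    have hinj : Function.Injective ((φ.comp S.subtype).comp (inclusion hDS)) := by
      rw [← MonoidHom.ker_eq_bot_iff, eq_bot_iff]
      intro d hd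
      have h1 : (d : X) ∈ Q := by
        rw [← QuotientGroup.eq_one_iff]
        exact hd
      exact Subtype.ext (mem_bot.1 (hQD ▸ mem_inf.2 ⟨h1, d.2⟩))
    let ψ : D →* S.map φ :=
      ((φ.comp S.subtype).comp (inclusion hDS)).codRestrict _ fun d => mem_map_of_mem φ (hDS d.2)
    exact Group.nilpotent_of_mulEquiv
      (MonoidHom.ofInjective (f := ψ) fun a b e => hinj (congrArg Subtype.val e)).symm

/-- BG 15.2 for `X`. -/
theorem PrimeSetting.main (h1445 : StmtS1445.{u}) (h1446 : StmtS1446.{u}) (h : PrimeSetting S R q)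
    (hnil : ¬ Group.IsNilpotent S) :
    (Nat.card R).Prime ∧ ∃ Q : Subgroup X, Q.Normal ∧ Q ≤ S ∧ IsPGroup q Q ∧ ¬ q ∣ Q.relIndex S ∧
      S ⊓ centralizer (R : Set X) ≤ Q ∧
      (∀ D : Subgroup X, IsComplIn Q D S →
        ¬ S ⊓ centralizer (R : Set X) ≤ Q ⊓ centralizer (D : Set X)) ∧
      ∀ D : Subgroup X, IsComplIn Q D S → Group.IsNilpotent D ∧
        (Q ⊓ centralizer (D : Set X)).Normal ∧ Q ⊓ centralizer (D : Set X) < Q ∧
        Nat.card Q = Nat.card ↥(Q ⊓ centralizer (D : Set X)) * q ^ Nat.card R ∧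
        (∀ a ∈ Q, ∀ b ∈ Q, a ^ q ∈ Q ⊓ centralizer (D : Set X) ∧
          a * b * a⁻¹ * b⁻¹ ∈ Q ⊓ centralizer (D : Set X)) ∧
        ⁅D, D⁆ ≤ centralizer (Q : Set X) ∧
        ∀ N : Subgroup X, Q ⊓ centralizer (D : Set X) < N → N < Q → ¬ N.Normal := by
  haveI := h.solv
  haveI := h.normal
  haveI := Fact.mk h.hq
  obtain ⟨Q, hQn, hQS, hQp, hQi, hCQ, hQD⟩ := h.exists_sylow h1445
  set C := S ⊓ centralizer (R : Set X) with hC
  have hRS : R ≤ normalizer (S : Set X) := fun a _ => le_normalizer_of_normal (K := ⊤) (mem_top a)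
  -- an invariant complement
  obtain ⟨D₀, hD₀, hRD⟩ := CfsgLib.Coprime.exists_invariant_piHall (π := {p | p.Prime ∧ p ≠ q}) hRS
    h.cop (Or.inr inferInstance) (CfsgLib.Coprime.hallD_of_solvable _)
  have hD₀q : ¬ q ∣ Nat.card D₀ := fun hd => (hD₀.2.1 q h.hq hd).2 rfl
  have hQcop : (Nat.card Q).Coprime (Nat.card D₀) := by
    obtain ⟨k, hk⟩ := IsPGroup.iff_card.1 hQp
    rw [hk]
    exact Nat.Coprime.pow_left k ((h.hq.coprime_iff_not_dvd).2 hD₀q)
  have hQD₀ : Q ⊓ D₀ = ⊥ := CfsgLib.Base.inf_eq_bot_of_coprime hQcop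
  have hDn : ∀ A : Subgroup X, A ≤ normalizer (Q : Set X) := fun A a _ =>
    le_normalizer_of_normal (K := ⊤) (mem_top a)
  have hsup : D₀ ⊔ Q = S := by
    refine eq_of_le_of_card_ge (sup_le hD₀.1 hQS) (Nat.le_of_dvd Nat.card_pos ?_)
    rw [← relIndex_mul_card_of_le (sup_le hD₀.1 hQS)]
    suffices h1 : (D₀ ⊔ Q).relIndex S = 1 by rw [h1, one_mul]
    refine Nat.eq_one_iff_not_exists_prime_dvd.2 fun p hp hd => ?_
    by_cases hpq : p = q
    · exact hQi (hpq ▸ hd.trans (relIndex_dvd_of_le_left S le_sup_right))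
    · exact hD₀.2.2 p hp ⟨hp, hpq⟩ (hd.trans (relIndex_dvd_of_le_left S le_sup_left))
  have hD₀n : Group.IsNilpotent D₀ := hQD D₀ hD₀.1 hQD₀
  have hQnil : Group.IsNilpotent Q := hQp.isNilpotent
  have hD₀ne : D₀ ≠ ⊥ := fun e => hnil (by rw [e, bot_sup_eq] at hsup; rwa [← hsup])
  have hnotc : ¬ D₀ ≤ centralizer (Q : Set X) := fun hc =>
    hnil (hsup ▸ isNilpotent_sup_of_commute hD₀n hQnil hc)
  -- the Frattini subgroup of `Q`
  set Φ := (frattini Q).map Q.subtype with hΦ
  have hΦQ : Φ ≤ Q := map_subtype_le _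
  haveI hΦn : Φ.Normal := by
    rw [← normalizer_eq_top_iff, eq_top_iff]
    refine le_trans ?_ (CfsgLib.Base.normalizer_le_normalizer_map_subtype Q _)
    rw [normalizer_eq_top_iff.2 hQn]
  have hcommΦ : ∀ a ∈ Q, ∀ b ∈ Q, a * b * a⁻¹ * b⁻¹ ∈ Φ := fun a ha b hb =>
    ⟨⁅(⟨a, ha⟩ : Q), ⟨b, hb⟩⁆, CfsgLib.PGroups.commutator_le_frattini hQp
      (commutator_mem_commutator (mem_top _) (mem_top _)), rfl⟩
  have hpowΦ : ∀ a ∈ Q, a ^ q ∈ Φ := fun a ha =>
    ⟨(⟨a, ha⟩ : Q) ^ q, CfsgLib.PGroups.pow_mem_frattini hQp _, rfl⟩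
  have hCΦ : C ⊓ Φ = ⊥ := by
    by_contra hne
    have hle : C ≤ Φ := by
      have hd := card_dvd_of_le (inf_le_left : C ⊓ Φ ≤ C)
      rw [h.card] at hd
      rcases h.hq.eq_one_or_self_of_dvd _ hd with h1 | h1
      · exact absurd (eq_bot_of_card_eq _ h1) hne
      · exact inf_eq_left.1 (eq_of_le_of_card_ge inf_le_left (by rw [h.card, h1]))
    obtain ⟨hn, -⟩ := h.nilpotent_quot h1445 (hΦQ.trans hQS) (N := Φ) (by
      rw [((C.map_eq_bot_iff)).2 (by rwa [QuotientGroup.ker_mk']), inf_bot_eq])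
    refine hnotc (CfsgLib.Coprime.le_centralizer_of_trivial_mod_frattini (hDn D₀) ?_ ?_)
    · exact hQcop.symm.coprime_dvd_right (card_subgroup_dvd_card _)
    · intro a ha k hk
      have := BG13.map_commutatorElement_eq_one (QuotientGroup.mk' Φ) hn (hD₀.1 ha) (hQS hk)
        ((hQcop.symm.coprime_dvd_left (orderOf_dvd_natCard D₀ ha)).coprime_dvd_right
          (orderOf_dvd_natCard Q hk))
      rwa [QuotientGroup.mk'_apply, QuotientGroup.eq_one_iff] at this
  have hD₀Φ : D₀ ≤ centralizer (Φ : Set X) := by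
    have hfpf : CfsgLib.Base.IsFPF R (D₀ ⊔ Φ) := by
      refine ⟨CfsgLib.Coprime.le_normalizer_sup_sup hRD
        (fun a _ => le_normalizer_of_normal (K := ⊤) (mem_top a)), fun a ha ha1 => ?_⟩
      refine le_bot_iff.1 (le_trans (le_inf ?_ ?_) hCΦ.le)
      · rw [show C = S ⊓ centralizer ({a} : Set X) from (h.prime a ha ha1).symm]
        exact inf_le_inf_right _ (sup_le hD₀.1 (hΦQ.trans hQS))
      · have h1 : (D₀ ⊔ Φ) ⊓ centralizer ({a} : Set X) ≤ Q := by
          refine le_trans ?_ hCQ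
          rw [show C = S ⊓ centralizer ({a} : Set X) from (h.prime a ha ha1).symm]
          exact inf_le_inf_right _ (sup_le hD₀.1 (hΦQ.trans hQS))
        refine le_trans (le_inf inf_le_left h1) fun x hx => ?_
        obtain ⟨hx1, hx2⟩ := mem_inf.1 hx
        rw [CfsgLib.Coprime.mem_sup_iff_of_le_normalizer
          (fun a _ => le_normalizer_of_normal (K := ⊤) (mem_top a))] at hx1
        obtain ⟨d, hd, f, hf, rfl⟩ := hx1
        have hdQ : d ∈ Q := by
          have := mul_mem hx2 (inv_mem (hΦQ hf))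
          rwa [mul_inv_cancel_right] at this
        rw [mem_bot.1 (hQD₀.le (mem_inf.2 ⟨hdQ, hd⟩)), one_mul]
        exact hf
    have hn := hfpf.isNilpotent h.ne
    intro a ha
    refine mem_centralizer_iff.2 fun b hb => ?_
    exact (CfsgLib.OddOrder.commute_of_isNilpotent hn (mem_sup_left ha) (mem_sup_right hb)
      ((hQcop.symm.coprime_dvd_left (orderOf_dvd_natCard D₀ ha)).coprime_dvd_right
        (orderOf_dvd_natCard Q (hΦQ hb)))).symm
  set Q₀ := Q ⊓ centralizer (D₀ : Set X) with hQ₀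
  have hΦQ₀ : Φ ≤ Q₀ := le_inf hΦQ fun b hb =>
    mem_centralizer_iff.2 fun a ha => (mem_centralizer_iff.1 (hD₀Φ ha) b hb).symm
  have hQ₀n : Q₀.Normal := by
    have hQQ₀ : Q ≤ normalizer (Q₀ : Set X) := by
      rw [le_normalizer_iff_commutator_le_left, commutator_le]
      exact fun a ha b hb => hΦQ₀ (hcommΦ a (mem_inf.1 ha).1 b hb)
    have hD₀Q₀ : D₀ ≤ normalizer (Q₀ : Set X) :=
      CfsgLib.Coprime.le_normalizer_inf_inf (hDn D₀)
        (CfsgLib.Coprime.le_normalizer_centralizer le_normalizer)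
    have hRQ₀ : R ≤ normalizer (Q₀ : Set X) :=
      CfsgLib.Coprime.le_normalizer_inf_inf (hDn R) (CfsgLib.Coprime.le_normalizer_centralizer hRD)
    rw [← normalizer_eq_top_iff, eq_top_iff, ← h.sup, ← hsup]
    exact sup_le (sup_le hD₀Q₀ hQQ₀) hRQ₀
  have hQ₀lt : Q₀ < Q := lt_of_le_of_ne inf_le_left fun e => hnotc fun a ha =>
    mem_centralizer_iff.2 fun b hb =>
      (mem_centralizer_iff.1 (mem_inf.1 (e.symm.le hb : b ∈ Q₀)).2 a ha).symm
  have hCQ₀ : ¬ C ≤ Q₀ := fun hle => by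
    obtain ⟨hn, -⟩ := h.nilpotent_quot h1445 (hQ₀lt.le.trans hQS) (N := Q₀) (by
      rw [((C.map_eq_bot_iff)).2 (by rwa [QuotientGroup.ker_mk']), inf_bot_eq])
    refine hQ₀lt.not_ge fun b hb => ?_
    obtain ⟨c, hc, hbc⟩ := CfsgLib.Coprime.exists_centralizing_in_coset (A := D₀) (N := Q₀) (k := b)
      (fun a _ => le_normalizer_of_normal (K := ⊤) (mem_top a))
      (hQcop.symm.coprime_dvd_right (card_dvd_of_le inf_le_left)) (Or.inr inferInstance) fun a ha => by
        have h1 := BG13.map_commutatorElement_eq_one (QuotientGroup.mk' Q₀) hn (hD₀.1 ha) (hQS hb)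
          ((hQcop.symm.coprime_dvd_left (orderOf_dvd_natCard D₀ ha)).coprime_dvd_right
            (orderOf_dvd_natCard Q hb))
        rw [QuotientGroup.mk'_apply, QuotientGroup.eq_one_iff, commutatorElement_def] at h1
        have h2 := hQ₀n.conj_mem _ h1 b⁻¹
        rwa [show b⁻¹ * (a * b * a⁻¹ * b⁻¹) * b⁻¹⁻¹ = b⁻¹ * (a * b * a⁻¹) by group] at h2
    have hcQ : c ∈ Q₀ :=
      mem_inf.2 ⟨by simpa using mul_mem hb (hQ₀lt.le hbc), hc⟩
    simpa using mul_mem hcQ (inv_mem hbc)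
  -- the action on the chief factor
  set ψ := QuotientGroup.mk' Q₀ with hψ
  have hψ1 : ∀ {A : Subgroup X}, A ⊓ Q₀ = ⊥ → A ≠ ⊥ → A.map ψ ≠ ⊥ := fun {A} h1 hA e => hA (by
    rw [Subgroup.map_eq_bot_iff, hψ, QuotientGroup.ker_mk'] at e
    exact le_bot_iff.1 ((le_inf le_rfl e).trans h1.le))
  have hchief : ∀ N : Subgroup X, N.Normal → Q₀ < N → N ≤ Q →
      (Nat.card R).Prime ∧ Nat.card N = Nat.card Q₀ * q ^ Nat.card R ∧
        ⁅D₀.map ψ, D₀.map ψ⁆ ≤ centralizer ((N.map ψ : Subgroup _) : Set (X ⧸ Q₀)) := by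
    intro N hN hQ₀N hNQ
    have hNcard : Nat.card N = Nat.card Q₀ * Nat.card (N.map ψ) := by
      rw [hψ, CfsgLib.Coprime.card_map_mk', mul_comm, relIndex_mul_card_of_le hQ₀N.le]
    have hN1 : N.map ψ ≠ ⊥ := fun e => hQ₀N.not_ge (by
      rw [Subgroup.map_eq_bot_iff, hψ, QuotientGroup.ker_mk'] at e; exact e)
    have hDR : D₀ ⊓ R = ⊥ := CfsgLib.Base.inf_eq_bot_of_coprime
      (h.cop.coprime_dvd_right (card_dvd_of_le hD₀.1)).symm
    have hnrm : ∀ A : Subgroup X, A.map ψ ≤ normalizer ((N.map ψ : Subgroup _) : Set (X ⧸ Q₀)) :=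
      fun A a _ => haveI := hN.map ψ (QuotientGroup.mk'_surjective Q₀)
        le_normalizer_of_normal (K := ⊤) (mem_top a)
    have hNp : IsPGroup q (N.map ψ) := (hQp.to_le hNQ).map ψ
    haveI : Group.IsSolvable (X ⧸ Q₀) :=
      Group.isSolvable_of_surjective (QuotientGroup.mk'_surjective Q₀)
    obtain ⟨hp, hcard, hder⟩ := h1446 (D₀.map ψ) (R.map ψ) (N.map ψ)
      (hψ1 (le_bot_iff.1 ((inf_le_inf_left _ inf_le_left).trans (inf_comm D₀ Q ▸ hQD₀).le)) hD₀ne)
      (hψ1 (CfsgLib.Base.inf_eq_bot_of_coprime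
        (h.cop.coprime_dvd_right (card_dvd_of_le (hQ₀lt.le.trans hQS)))) h.ne)
      (CfsgLib.Base.inf_eq_bot_of_coprime
        ((h.cop.coprime_dvd_right (card_dvd_of_le hD₀.1)).symm.coprime_dvd_left
          (card_map_dvd _ ψ) |>.coprime_dvd_right (card_map_dvd _ ψ)))
      (by
        rintro _ ⟨r, hr, rfl⟩
        rw [mem_normalizer_iff_cj]
        show ((D₀.map ψ).map (MulAut.conj (ψ r)).toMonoidHom) = D₀.map ψ
        conv_rhs => rw [← mem_normalizer_iff_cj.1 (hRD hr)]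
        rw [map_map, cj, map_map]
        congr 1)
      (by
        rintro _ ⟨r, hr, rfl⟩ hr1
        rw [eq_bot_iff]
        rintro _ ⟨⟨d, hd, rfl⟩, hdr⟩
        have hr' : r ≠ 1 := fun e => hr1 (by rw [e, map_one])
        have h1 : ψ ⁅r, d⁆ = 1 := by
          rw [map_commutatorElement, commutatorElement_eq_one_iff_commute]
          exact mem_centralizer_singleton_iff.1 hdr |>.symm
        rw [hψ, QuotientGroup.mk'_apply, QuotientGroup.eq_one_iff] at h1
        have h2 : ⁅r, d⁆ ∈ D₀ := by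
          rw [commutatorElement_def]
          exact mul_mem ((mem_normalizer_iff.1 (hRD hr) d).1 hd) (inv_mem hd)
        have h3 : ⁅r, d⁆ = 1 := mem_bot.1 (hQD₀.le (mem_inf.2 ⟨(mem_inf.1 h1).1, h2⟩))
        have h4 : d ∈ C := (h.prime r hr hr').le (mem_inf.2 ⟨hD₀.1 hd, mem_centralizer_singleton_iff.2
          (commutatorElement_eq_one_iff_commute.1 h3).symm⟩)
        rw [mem_bot.1 (hQD₀.le (mem_inf.2 ⟨hCQ h4, hd⟩)), map_one]
        exact one_mem _)
      inferInstance ((h.odd.of_dvd_nat (card_quotient_dvd_card Q₀)).of_dvd_nat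
        (card_subgroup_dvd_card _)) hN1 hNp.isNilpotent (hnrm _) (hnrm _)
      (by
        refine Nat.Coprime.coprime_dvd_right (card_map_dvd N ψ) ?_
        rw [← Subgroup.map_sup]
        refine Nat.Coprime.coprime_dvd_left (card_map_dvd _ ψ) ?_
        refine Nat.Coprime.coprime_dvd_left (sup_comm D₀ R ▸ CfsgLib.Coprime.card_sup_dvd hRD) ?_
        exact Nat.Coprime.mul_left (h.cop.coprime_dvd_right (card_dvd_of_le (hNQ.trans hQS)))
          (hQcop.symm.coprime_dvd_right (card_dvd_of_le hNQ)))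
      (by
        rw [inf_centralizer_map hQ₀N.le (hQcop.symm.coprime_dvd_right
          (card_dvd_of_le hQ₀lt.le)) (Or.inr inferInstance), Subgroup.map_eq_bot_iff, QuotientGroup.ker_mk']
        exact inf_le_inf_right _ hNQ)
      (by
        rintro _ ⟨r, hr, rfl⟩ hr1
        have hr' : r ≠ 1 := fun e => hr1 (by rw [e, map_one])
        rw [← BG13.centralizer_zpowers', ← MonoidHom.map_zpowers,
          inf_centralizer_map hQ₀N.le ((h.cop.coprime_dvd_left (card_dvd_of_le (zpowers_le.2 hr)))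
            |>.coprime_dvd_right (card_dvd_of_le (hQ₀lt.le.trans hQS))) (Or.inr inferInstance),
          inf_centralizer_map hQ₀N.le (h.cop.coprime_dvd_right
            (card_dvd_of_le (hQ₀lt.le.trans hQS))) (Or.inr inferInstance), BG13.centralizer_zpowers']
        have h1 : ∀ s : Set X, N ⊓ centralizer s = N ⊓ (S ⊓ centralizer s) := fun s => by
          rw [← inf_assoc, inf_eq_left.2 (hNQ.trans hQS)]
        rw [h1 {r}, h.prime r hr hr', ← h1])
    have hRc : Nat.card (R.map ψ) = Nat.card R := by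
      rw [hψ, CfsgLib.Coprime.card_map_mk', ← inf_relIndex_right,
        CfsgLib.Base.inf_eq_bot_of_coprime
          (h.cop.coprime_dvd_right (card_dvd_of_le (hQ₀lt.le.trans hQS))).symm, relIndex_bot_left]
    rw [hRc] at hp hcard
    suffices hCn : Nat.card ↥(N.map ψ ⊓ centralizer ((R.map ψ : Subgroup _) : Set (X ⧸ Q₀))) = q by
      exact ⟨hp, by rw [hNcard, hcard, hCn], hder (isCyclic_of_prime_card hCn)⟩
    rw [inf_centralizer_map hQ₀N.le (h.cop.coprime_dvd_right
      (card_dvd_of_le (hQ₀lt.le.trans hQS))) (Or.inr inferInstance)]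
    have hd : Nat.card ((N ⊓ centralizer (R : Set X)).map ψ) ∣ q := by
      refine (card_map_dvd _ ψ).trans ?_
      rw [← h.card]
      exact card_dvd_of_le (inf_le_inf_right _ (hNQ.trans hQS))
    rcases h.hq.eq_one_or_self_of_dvd _ hd with e | e
    · exfalso
      apply hN1
      apply eq_bot_of_card_eq
      rw [hcard, inf_centralizer_map hQ₀N.le (h.cop.coprime_dvd_right
        (card_dvd_of_le (hQ₀lt.le.trans hQS))) (Or.inr inferInstance), e, one_pow]
    · exact e
  obtain ⟨hRp, hQcard, hQder⟩ := hchief Q hQn hQ₀lt le_rfl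
  have hder₀ : ⁅D₀, D₀⁆ ≤ centralizer (Q : Set X) := by
    intro g hg
    refine mem_centralizer_iff.2 fun b hb => ?_
    have hgD : g ∈ D₀ := commutator_le_self D₀ hg
    obtain ⟨c, hcg, hbc⟩ := CfsgLib.Coprime.exists_centralizing_in_coset (A := zpowers g) (N := Q₀)
      (k := b) (fun a _ => le_normalizer_of_normal (K := ⊤) (mem_top a))
      ((hQcop.symm.coprime_dvd_left (card_dvd_of_le (zpowers_le.2 hgD))).coprime_dvd_right
        (card_dvd_of_le inf_le_left)) (Or.inr inferInstance) (fun a ha => by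
        refine CfsgLib.OddOrder.FrobeniusAction.conj_mem_of_mem_zpowers
          (le_normalizer_of_normal (K := ⊤) (mem_top g)) ?_ ha
        rw [← QuotientGroup.eq_one_iff, ← QuotientGroup.mk'_apply, ← hψ, map_mul, map_inv, map_mul,
          map_mul, map_inv]
        have := mem_centralizer_iff.1 (hQder (by rw [← map_commutator]; exact mem_map_of_mem ψ hg))
          (ψ b) (mem_map_of_mem ψ hb)
        rw [← this, mul_inv_cancel_right, inv_mul_cancel])
    have hgc : g * c = c * g := mem_centralizer_iff.1 hcg g (mem_zpowers g)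
    have hgn := mem_centralizer_iff.1 (mem_inf.1 hbc).2 g hgD
    calc b * g = c * ((b⁻¹ * c)⁻¹ * g) := by group
      _ = c * (g * (b⁻¹ * c)⁻¹) := by
        rw [show (b⁻¹ * c)⁻¹ * g = g * (b⁻¹ * c)⁻¹ by
          rw [inv_mul_eq_iff_eq_mul, ← mul_assoc, ← hgn, mul_inv_cancel_right]]
      _ = g * b := by rw [← mul_assoc, ← hgc]; group
  suffices hall : ∀ D : Subgroup X, IsComplIn Q D S → Q ⊓ centralizer (D : Set X) = Q₀ ∧ _ from
    ⟨hRp, Q, hQn, hQS, hQp, hQi, hCQ, fun D hD => (hall D hD).1 ▸ hCQ₀, fun D hD => (hall D hD).2⟩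
  intro D hD
  have hcardD : Nat.card D = Nat.card D₀ := by
    have h1 := card_mul_card_of_isComplIn hD
    rw [← hsup, CfsgLib.Coprime.card_sup_of_inf_eq_bot (hDn D₀) (inf_comm D₀ Q ▸ hQD₀),
      mul_comm (Nat.card D₀)] at h1
    exact Nat.eq_of_mul_eq_mul_left Nat.card_pos h1
  obtain ⟨a, ha, haD⟩ := CfsgLib.Coprime.sz_conj_rel (hDn D₀) (hDn D) hQcop hcardD
    (by rw [sup_comm, hsup]; exact hD.2.1) (Or.inl inferInstance)
  have heq : Q ⊓ centralizer (D : Set X) = Q₀ := by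
    refine le_antisymm ?_ ?_ <;> intro x hx
    · obtain ⟨hxQ, hxc⟩ := mem_inf.1 hx
      have h1 : a⁻¹ * x * a ∈ Q₀ := by
        refine mem_inf.2 ⟨mul_mem (mul_mem (inv_mem ha) hxQ) ha, mem_centralizer_iff.2 fun d hd => ?_⟩
        have h2 := mem_centralizer_iff.1 hxc (a * d * a⁻¹)
          (haD ▸ Subgroup.smul_mem_pointwise_smul d (MulAut.conj a) _ hd)
        calc d * (a⁻¹ * x * a) = a⁻¹ * (a * d * a⁻¹ * x) * a := by group
          _ = a⁻¹ * (x * (a * d * a⁻¹)) * a := by rw [h2]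
          _ = a⁻¹ * x * a * d := by group
      have h3 := hQ₀n.conj_mem _ h1 a
      rwa [show a * (a⁻¹ * x * a) * a⁻¹ = x by group] at h3
    · refine mem_inf.2 ⟨(mem_inf.1 hx).1, mem_centralizer_iff.2 fun y hy => ?_⟩
      rw [← haD, SetLike.mem_coe, CfsgLib.Coprime.mem_conj_smul] at hy
      have h1 := mem_centralizer_iff.1 (mem_inf.1 (hQ₀n.conj_mem _ hx a⁻¹)).2 _ hy
      rw [inv_inv] at h1
      calc y * x = a * ((a⁻¹ * y * a) * (a⁻¹ * x * a)) * a⁻¹ := by group
        _ = a * ((a⁻¹ * x * a) * (a⁻¹ * y * a)) * a⁻¹ := by rw [h1]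
        _ = x * y := by group
  refine ⟨heq, ?_⟩
  rw [heq]
  refine ⟨hQD D hD.2.1 hD.2.2.1, hQ₀n, hQ₀lt, hQcard, fun x hx y hy =>
    ⟨hΦQ₀ (hpowΦ x hx), hΦQ₀ (hcommΦ x hx y hy)⟩, ?_, fun N h1 h2 hN => ?_⟩
  · have hmap : ⁅D, D⁆ = MulAut.conj a • ⁅D₀, D₀⁆ := by
      rw [← haD]
      simp only [CfsgLib.Coprime.conj_smul_eq_map, map_commutator]
    intro g hg
    rw [hmap, CfsgLib.Coprime.mem_conj_smul] at hg
    refine mem_centralizer_iff.2 fun b hb => ?_
    have h1 := mem_centralizer_iff.1 (hder₀ hg) (a⁻¹ * b * a) (mul_mem (mul_mem (inv_mem ha) hb) ha)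
    calc b * g = a * ((a⁻¹ * b * a) * (a⁻¹ * g * a)) * a⁻¹ := by group
      _ = a * ((a⁻¹ * g * a) * (a⁻¹ * b * a)) * a⁻¹ := by rw [h1]
      _ = g * b := by group
  exact h2.ne (eq_of_le_of_card_ge h2.le (by rw [(hchief N hN h1 h2.le).2.1, hQcard]))

end CfsgLib.FT.BG15
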