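import Cfsg.Agent.Lib.FT.BG15.PType
import Cfsg.Agent.Lib.FT.BG15.PrimeQuot

/-!
BG Theorem 15.2: the maximal subgroups with `M_F ≠ M_σ`; the orders of `K` and `K*`.
-/

set_option autoImplicit false
set_option linter.style.haveILetI false
set_option maxHeartbeats 400000

universe u

open Cfsg CfsgLib.OddOrder CfsgLib.Techniques Subgroup
open scoped commutatorElement

namespace CfsgLib.FT.BG15

variable {G : Type u} [Group G] [Finite G]
variable (hU : Upstream.{u}) (hG : IsMinSimpleOddOrder G) {M : Subgroup G} (hM : IsCoatom M)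
variable {K U : Subgroup G}

/-! ### The case `U ≠ 1` -/

include hU hG hM in
theorem sigmaCore_nilpotent_of_U (hD : IsSigmaDecomposition M K U) (hU1 : U ≠ ⊥) :
    Group.IsNilpotent (sigmaCore M) := by
  obtain ⟨p, hp, hd⟩ := Nat.exists_prime_and_dvd (fun e => hU1 (U.eq_bot_of_card_eq e))
  haveI := Fact.mk hp
  obtain ⟨hσ, hκ⟩ := decomp_U_primes hU hG hM hD hp hd
  have hpM := hd.trans (card_dvd_of_le hD.compl.1)
  obtain ⟨S⟩ : Nonempty (Sylow p M) := inferInstance
  exact (hU.s1429 hG M hM (fun h => hκ (h p hp hpM hσ)) p hpM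
    (fun h => h.elim hσ hκ) S).2.2

include hU hG hM in
theorem exists_regular (hD : IsSigmaDecomposition M K U) (hK1 : K ≠ ⊥) (hU1 : U ≠ ⊥) :
    ∃ a ∈ U, a ≠ 1 ∧ sigmaCore M ⊓ centralizer ({a} : Set G) = ⊥ := by
  obtain ⟨p, hp, hd⟩ := Nat.exists_prime_and_dvd (fun e => hU1 (U.eq_bot_of_card_eq e))
  haveI := Fact.mk hp
  obtain ⟨x, hx⟩ := exists_prime_orderOf_dvd_card' p hd
  have hdvd : p ^ 1 ∣ Monoid.exponent U := by
    rw [pow_one, ← hx]
    exact Monoid.order_dvd_exponent x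
  obtain ⟨a, ha, hao, hc⟩ := exists_regular_prime_power hU hG hM hD hK1 one_pos hdvd
  refine ⟨a, ha, fun e => hp.one_lt.ne ?_, by simpa using hc⟩
  rw [← pow_one p, ← hao, e, orderOf_one]

include hU hG hM in
theorem sigmaCore_inf_centralizer_U (hD : IsSigmaDecomposition M K U) (hK1 : K ≠ ⊥) (hU1 : U ≠ ⊥) :
    sigmaCore M ⊓ centralizer (U : Set G) = ⊥ := by
  obtain ⟨a, ha, -, hc⟩ := exists_regular hU hG hM hD hK1 hU1
  exact le_bot_iff.1 ((inf_le_inf_left _ (centralizer_le_of_mem ha)).trans hc.le)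

include hU hG hM in
/-- For `M` of type `P₂` the order of `K` is a prime. -/
theorem card_K_prime (hD : IsSigmaDecomposition M K U) (hK1 : K ≠ ⊥) (hU1 : U ≠ ⊥) :
    (Nat.card K).Prime ∧
      Nat.card (sigmaCore M) = Nat.card (cstar M K) ^ Nat.card K := by
  have hKU := coprime_KU_sigmaCore hU hG hM hD
  obtain ⟨h1, h2, -⟩ := CfsgLib.OddOrder.FrobeniusAction.main (K := U) (R := K) (M := sigmaCore M)
    hK1 hD.normal (fun k hk hk1 => U_fpf hU hG hM hD hk hk1) (sigmaCore_ne_bot' hU hG hM)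
    (sigmaCore_nilpotent_of_U hU hG hM hD hU1)
    (hD.compl.1.trans (le_normalizer_sigmaCore M)) (decomp_K_normalizer hD)
    (by rwa [sup_comm]) (sigmaCore_inf_centralizer_U hU hG hM hD hK1 hU1)
    (fun x hx hx1 => primeAction hU hG hM hD.hall hx hx1)
  exact ⟨h1, h2⟩

include hU hG hM in
theorem cstar_cyclic (hD : IsSigmaDecomposition M K U) (hK1 : K ≠ ⊥) : IsCyclic (cstar M K) := by
  obtain ⟨Mstar, ⟨hMst, h1, h2⟩, -⟩ := hU.s1366 hG M hM K U hD hK1
  obtain ⟨-, hc⟩ := hU.s1368 hG M hM K U hD hK1 Mstar hMst h1 h2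
  haveI := hc
  exact isCyclic_of_injective (inclusion (le_sup_right : cstar M K ≤ K ⊔ cstar M K))
    (inclusion_injective _)

include hU hG hM in
/-- For `M` of type `P₁` the order of `K*` is a prime. -/
theorem card_cstar_prime (hD : IsSigmaDecomposition M K U) (hK1 : K ≠ ⊥) (hUb : U = ⊥) :
    (Nat.card (cstar M K)).Prime := by
  obtain ⟨Mstar, ⟨hMst, h1, h2⟩, -⟩ := hU.s1366 hG M hM K U hD hK1
  obtain ⟨Ustar, hDs⟩ := exists_decomposition_of_hall hU hG hMst (cstar_cyclic hU hG hM hD hK1) h2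
  have hUs : Ustar ≠ ⊥ :=
    ((hU.s1369 hG M hM K U hD hK1 Mstar hMst h1 h2).1.resolve_left fun h => h hUb) Ustar hDs
  exact (card_K_prime hU hG hMst hDs (cstar_ne_bot hU hG hM hD.hall) hUs).1

/-! ### The case `U = 1` -/

include hU hG hM in
theorem U_eq_bot_of_ne (hD : IsSigmaDecomposition M K U) (hne : fittingHallOf M ≠ sigmaCore M) :
    U = ⊥ :=
  by_contra fun h =>
    hne (fittingHallOf_eq_of_nilpotent hU hG hM (sigmaCore_nilpotent_of_U hU hG hM hD h))

include hU hG hM in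
theorem K_ne_bot_of_U_bot (hD : IsSigmaDecomposition M K U) (hUb : U = ⊥) : K ≠ ⊥ := by
  intro hKb
  have h : sigmaCore M = M := by
    have := sup_eq_of_isComplIn (decomp_compl hU hG hM hD)
    rwa [hKb, hUb, bot_sup_eq, bot_sup_eq] at this
  haveI := maximal_solvable hG hM
  haveI : Nontrivial M := (M.nontrivial_iff_ne_bot).2 fun e =>
    sigmaCore_ne_bot' hU hG hM (h.trans e)
  have h1 : ⁅M, M⁆ = M :=
    le_antisymm (commutator_le_self M) (h.symm.le.trans (sigmaCore_le_derived' hU hG hM))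
  have h2 : _root_.commutator M = ⊤ := by
    refine map_injective M.subtype_injective ?_
    rw [map_subtype_commutator, ← MonoidHom.range_eq_map, range_subtype, h1]
  exact (Group.IsSolvable.commutator_lt_top_of_nontrivial M).ne h2

include hU hG hM in
theorem derived_eq_sigmaCore (hD : IsSigmaDecomposition M K U) (hUb : U = ⊥) :
    ⁅M, M⁆ = sigmaCore M := by
  rw [derived_eq hU hG hM hD (K_ne_bot_of_U_bot hU hG hM hD hUb), hUb, bot_sup_eq]

include hU hG hM in
theorem sup_sigmaCore_of_U_bot (hD : IsSigmaDecomposition M K U) (hUb : U = ⊥) :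
    sigmaCore M ⊔ K = M := by
  have := sup_eq_of_isComplIn (decomp_compl hU hG hM hD)
  rwa [hUb, sup_bot_eq, sup_comm] at this

omit [Finite G] in
theorem map_subtype_inf_centralizer {M : Subgroup G} (S A : Subgroup M) :
    (S ⊓ centralizer (A : Set M)).map M.subtype =
      S.map M.subtype ⊓ centralizer ((A.map M.subtype : Subgroup G) : Set G) := by
  ext x
  simp only [mem_map, mem_inf, mem_centralizer_iff, coe_map, Set.mem_image, SetLike.mem_coe]
  constructor
  · rintro ⟨s, ⟨hs, hc⟩, rfl⟩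
    exact ⟨⟨s, hs, rfl⟩, fun a ⟨a', ha', e⟩ => by rw [← e, ← map_mul, ← map_mul, hc a' ha']⟩
  · rintro ⟨⟨s, hs, rfl⟩, hc⟩
    exact ⟨s, ⟨hs, fun a ha => M.subtype_injective (by
      rw [map_mul, map_mul]; exact hc _ ⟨a, ha, rfl⟩)⟩, rfl⟩

/-- BG 15.2. -/
structure FCoreData (M K : Subgroup G) (q : ℕ) (Q : Subgroup G) : Prop where
  hq : q.Prime
  cstar_card : Nat.card (cstar M K) = q
  K_prime : (Nat.card K).Prime
  le : Q ≤ sigmaCore M
  normal : M ≤ normalizer (Q : Set G)
  pgroup : IsPGroup q Q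
  hall : ¬ q ∣ Q.relIndex (sigmaCore M)
  cstar_le : cstar M K ≤ Q
  le_fittingHall : Q ≤ fittingHallOf M
  mem_beta : q ∈ beta M
  cstar_not_le : ∀ D : Subgroup G, IsComplIn Q D (sigmaCore M) →
    ¬ cstar M K ≤ Q ⊓ centralizer (D : Set G)
  compl : ∀ D : Subgroup G, IsComplIn Q D (sigmaCore M) →
    Group.IsNilpotent D ∧ M ≤ normalizer ((Q ⊓ centralizer (D : Set G) : Subgroup G) : Set G) ∧
      Q ⊓ centralizer (D : Set G) < Q ∧
      Nat.card Q = Nat.card ↥(Q ⊓ centralizer (D : Set G)) * q ^ Nat.card K ∧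
      (∀ a ∈ Q, ∀ b ∈ Q, a ^ q ∈ Q ⊓ centralizer (D : Set G) ∧
        a * b * a⁻¹ * b⁻¹ ∈ Q ⊓ centralizer (D : Set G)) ∧
      ⁅D, D⁆ ≤ centralizer (Q : Set G) ∧
      ∀ N : Subgroup G, Q ⊓ centralizer (D : Set G) < N → N < Q →
        ¬ M ≤ normalizer (N : Set G)

include hU hG hM in
theorem exists_fcoreData (hD : IsSigmaDecomposition M K U) (hne : fittingHallOf M ≠ sigmaCore M) :
    ∃ q Q, FCoreData M K q Q := by
  have hUb := U_eq_bot_of_ne hU hG hM hD hne
  have hK1 := K_ne_bot_of_U_bot hU hG hM hD hUb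
  have hq := card_cstar_prime hU hG hM hD hK1 hUb
  set q := Nat.card (cstar M K) with hqdef
  haveI := Fact.mk hq
  have hS := sigmaCore_hallOf hU hG hM
  have hnotnil : ¬ Group.IsNilpotent (sigmaCore M) := fun h =>
    hne (fittingHallOf_eq_of_nilpotent hU hG hM h)
  have hKM := hD.hall.1
  have hSM := sigmaCore_le M
  set S₁ := (sigmaCore M).subgroupOf M with hS₁
  set R₁ := K.subgroupOf M with hR₁
  have hSmap : S₁.map M.subtype = sigmaCore M := map_subgroupOf_eq_of_le hSM
  have hRmap : R₁.map M.subtype = K := map_subgroupOf_eq_of_le hKM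
  have hfix : (S₁ ⊓ centralizer (R₁ : Set M)).map M.subtype = cstar M K := by
    rw [map_subtype_inf_centralizer, hSmap, hRmap]
  have hset : PrimeSetting S₁ R₁ q := by
    refine ⟨maximal_solvable hG hM, maximal_odd hG M,
      normal_subgroupOf_of_le_normalizer (le_normalizer_sigmaCore M), ?_, ?_, ?_, ?_, ?_, hq, ?_⟩
    · refine map_injective M.subtype_injective ?_
      rw [Subgroup.map_sup, hSmap, hRmap, ← MonoidHom.range_eq_map, range_subtype,
        sup_sigmaCore_of_U_bot hU hG hM hD hUb]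
    · rw [Nat.card_congr (subgroupOfEquivOfLe hKM).toEquiv,
        Nat.card_congr (subgroupOfEquivOfLe hSM).toEquiv]
      exact Nat.coprime_of_dvd fun p hp h1 h2 =>
        not_sigma_of_kappa (hD.hall.2.1 p hp h1) (hS.2.1 p hp h2)
    · intro e
      exact hK1 (by rw [← hRmap, e, Subgroup.map_bot])
    · intro x hx hx1
      refine map_injective M.subtype_injective ?_
      rw [hfix, ← BG13.centralizer_zpowers', map_subtype_inf_centralizer, hSmap,
        MonoidHom.map_zpowers, BG13.centralizer_zpowers']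
      exact primeAction hU hG hM hD.hall hx fun e => hx1 (Subtype.ext e)
    · rw [Nat.card_congr ((S₁ ⊓ centralizer (R₁ : Set M)).equivMapOfInjective M.subtype
        M.subtype_injective).toEquiv, hfix]
    · rw [← map_le_map_iff_of_injective M.subtype_injective, hfix, map_commutator, hSmap]
      refine (le_inf inf_le_left (le_trans inf_le_right ?_)).trans
        (hU.bg13.s1426 hG M hM _ (decomp_compl hU hG hM hD)).1
      rw [hUb, sup_bot_eq]
  obtain ⟨hKp, Q₁, hQn, hQS, hQp, hQi, hCQ, hCnot, hQD⟩ := hset.main stmtS1445 stmtS1446 fun h =>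
    hnotnil (by haveI := h; exact Group.nilpotent_of_mulEquiv (subgroupOfEquivOfLe hSM))
  rw [Nat.card_congr (subgroupOfEquivOfLe hKM).toEquiv] at hKp
  set Q := Q₁.map M.subtype with hQ
  have hQle : Q ≤ sigmaCore M := hSmap ▸ map_mono hQS
  have hQ1 : Q.subgroupOf M = Q₁ := comap_map_eq_self_of_injective M.subtype_injective Q₁
  have hQnorm : M ≤ normalizer (Q : Set G) := by
    rw [← hQ1] at hQn
    exact (normal_subgroupOf_iff_le_normalizer (hQle.trans hSM)).1 hQn
  have hcstar : cstar M K ≤ Q := hfix ▸ map_mono hCQ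
  have hQi' : ¬ q ∣ Q.relIndex (sigmaCore M) := by
    rwa [← hSmap, hQ, relIndex_map_map_of_injective _ _ M.subtype_injective]
  have hqσ : q ∈ sigma M :=
    hS.2.1 q hq (dvd_rfl.trans (card_dvd_of_le (cstar_le_sigmaCore M K)))
  have hQf : Q ≤ fittingHallOf M := by
    refine map_mono (f := M.subtype) ?_
    haveI := hQn
    refine le_fittingHall hQp.isNilpotent ?_
    obtain ⟨i, hi⟩ := IsPGroup.iff_card.1 hQp
    rw [hi]
    refine Nat.Coprime.pow_left i (hq.coprime_iff_not_dvd.2 fun hd => ?_)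
    have h : Q₁.index = Q.relIndex M := by rw [Subgroup.relIndex, hQ1]
    rw [h, ← relIndex_mul_relIndex _ _ _ hQle hSM] at hd
    exact (hq.dvd_mul.1 hd).elim hQi' (hS.2.2 q hq hqσ)
  have hcompl : ∀ D : Subgroup G, IsComplIn Q D (sigmaCore M) →
      IsComplIn Q₁ (D.subgroupOf M) S₁ := by
    intro D hDc
    have hDM : D ≤ M := hDc.2.1.trans hSM
    refine ⟨hQS, fun x hx => hDc.2.1 hx, ?_, fun m hm => ?_⟩
    · refine map_injective M.subtype_injective ?_
      rw [map_inf _ _ _ M.subtype_injective, map_subgroupOf_eq_of_le hDM, Subgroup.map_bot]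
      exact hDc.2.2.1
    · obtain ⟨a, ⟨a', ha', rfl⟩, b, hb, hab⟩ := hDc.2.2.2 _ hm
      exact ⟨a', ha', ⟨b, hDM hb⟩, hb, Subtype.ext hab⟩
  have hqM : q ∣ Nat.card M := hqσ.2.1
  refine ⟨q, Q, hq, rfl, hKp, hQle, hQnorm, hQp.map _, hQi', hcstar, hQf, ?_, fun D hDc hle => ?_,
    ?_⟩
  rotate_left
  · refine hCnot _ (hcompl D hDc) ?_
    rw [← map_le_map_iff_of_injective M.subtype_injective, hfix, map_subtype_inf_centralizer,
      map_subgroupOf_eq_of_le (hDc.2.1.trans hSM)]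
    exact hle
  rotate_left
  · by_contra hβ
    set S := sigmaCore M with hSdef
    obtain ⟨-, hnc, -⟩ := (hU.bg13.s1414 hG M hM).2.2.2.2 q hq hqM hβ
    obtain ⟨P', N, hNn, hN'⟩ := hnc
    haveI := hNn
    have hN : ¬ q ∣ Nat.card N ∧ ∃ j, N.index = q ^ j := by
      refine ⟨fun hd => P'.not_dvd_index (hN'.index_eq_card.symm ▸ hd), ?_⟩
      obtain ⟨j, hj⟩ := IsPGroup.iff_card.1 P'.isPGroup'
      exact ⟨j, by rw [hN'.symm.index_eq_card, hj]⟩
    refine hnotnil ?_
    set P := Q.subgroupOf S with hP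
    haveI : P.Normal := normal_subgroupOf_of_le_normalizer (hSM.trans hQnorm)
    obtain ⟨hcP, hPN⟩ : IsPGroup q P ∧ ¬ q ∣ P.index :=
      ⟨(hQp.map _).comap_subtype, hQi'⟩
    have hint : P ⊓ N = ⊥ := by
      refine CfsgLib.Base.inf_eq_bot_of_coprime ?_
      obtain ⟨i, hi⟩ := IsPGroup.iff_card.1 hcP
      rw [hi]
      exact Nat.Coprime.pow_left i (hq.coprime_iff_not_dvd.2 hN.1)
    have hsup : P ⊔ N = ⊤ := by
      refine index_eq_one.1 (Nat.eq_one_iff_not_exists_prime_dvd.2 fun p hp hd => ?_)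
      have h1 := hd.trans (index_dvd_of_le (le_sup_left : P ≤ P ⊔ N))
      obtain ⟨j, hj⟩ := hN.2
      have h2 := hd.trans (index_dvd_of_le (le_sup_right : N ≤ P ⊔ N))
      rw [hj] at h2
      exact hPN ((Nat.prime_dvd_prime_iff_eq hp hq).1 (hp.dvd_of_dvd_pow h2) ▸ h1)
    obtain ⟨D, hD1, hD2, hD3⟩ := CfsgLib.Coprime.exists_complement_in (N := Q) (S := S) hQle
      (hSM.trans hQnorm) (by
        obtain ⟨i, hi⟩ := IsPGroup.iff_card.1 (hQp.map M.subtype)
        rw [hi]
        exact Nat.Coprime.pow_left i (hq.coprime_iff_not_dvd.2 hQi'))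
    have hDN : D.subgroupOf S ≤ N := by
      refine relIndex_eq_one.1 (Nat.eq_one_iff_not_exists_prime_dvd.2 fun p hp hd => ?_)
      obtain ⟨j, hj⟩ := hN.2
      have h1 : p ∣ N.index := hd.trans (relIndex_dvd_index_of_normal N _)
      rw [hj] at h1
      have hpq := (Nat.prime_dvd_prime_iff_eq hp hq).1 (hp.dvd_of_dvd_pow h1)
      have h2 : p ∣ Nat.card (D.subgroupOf S) :=
        hd.trans (by rw [← relIndex_bot_left (D.subgroupOf S)]; exact relIndex_dvd_of_le_left _ bot_le)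
      rw [Nat.card_congr (subgroupOfEquivOfLe hD1).toEquiv, hD2, hpq] at h2
      exact hQi' h2
    have hcPN : P ≤ centralizer (N : Set S) :=
      commutator_eq_bot_iff_le_centralizer.1 (le_bot_iff.1 (hint ▸ commutator_le_inf P N))
    have hQcD : Q ≤ centralizer (D : Set G) := fun a ha => mem_centralizer_iff.2 fun d hd =>
      congrArg Subtype.val (mem_centralizer_iff.1 (hcPN (show (⟨a, hQle ha⟩ : S) ∈ P from ha))
        ⟨d, hD1 hd⟩ (hDN hd))
    have hDc : IsComplIn Q D S := by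
      refine ⟨hQle, hD1, CfsgLib.Base.inf_eq_bot_of_coprime ?_, fun m hm => ?_⟩
      · obtain ⟨i, hi⟩ := IsPGroup.iff_card.1 (hQp.map M.subtype)
        rw [hi, hD2]
        exact Nat.Coprime.pow_left i (hq.coprime_iff_not_dvd.2 hQi')
      · have hn : D ≤ normalizer (Q : Set G) := (hD1.trans hSM).trans hQnorm
        rw [← hD3, sup_comm, CfsgLib.Coprime.mem_sup_iff_of_le_normalizer hn] at hm
        obtain ⟨d, hd, a, ha, rfl⟩ := hm
        exact ⟨d * a * d⁻¹, (mem_normalizer_iff.1 (hn hd) a).1 ha, d, hd, by group⟩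
    have hDnil : Group.IsNilpotent D := by
      haveI := (hQD _ (hcompl D hDc)).1
      exact Group.nilpotent_of_mulEquiv (subgroupOfEquivOfLe (hD1.trans hSM))
    exact hD3 ▸ isNilpotent_sup_of_commute (hQp.map M.subtype).isNilpotent hDnil hQcD
  · intro D hDc
    have hDM : D ≤ M := hDc.2.1.trans hSM
    set D₁ := D.subgroupOf M with hD₁
    have hDmap : D₁.map M.subtype = D := map_subgroupOf_eq_of_le hDM
    have hQ₀ : (Q₁ ⊓ centralizer (D₁ : Set M)).map M.subtype = Q ⊓ centralizer (D : Set G) := by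
      rw [map_subtype_inf_centralizer, hDmap]
    obtain ⟨h1, h2, h3, h4, h5, h5', h6⟩ := hQD D₁ (hcompl D hDc)
    rw [Nat.card_congr (subgroupOfEquivOfLe hKM).toEquiv] at h4
    refine ⟨?_, ?_, ?_, ?_, ?_, ?_, ?_⟩
    · haveI := h1
      exact Group.nilpotent_of_mulEquiv (subgroupOfEquivOfLe hDM)
    · rw [← hQ₀]
      refine (normal_subgroupOf_iff_le_normalizer (map_subtype_le _)).1 ?_
      rw [Subgroup.subgroupOf, comap_map_eq_self_of_injective M.subtype_injective]
      exact h2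
    · rw [← hQ₀]
      exact (map_lt_map_iff_of_injective M.subtype_injective).2 h3
    · rw [← hQ₀, ← Nat.card_congr (Q₁.equivMapOfInjective M.subtype M.subtype_injective).toEquiv,
        ← Nat.card_congr ((Q₁ ⊓ centralizer (D₁ : Set M)).equivMapOfInjective M.subtype
          M.subtype_injective).toEquiv]
      exact h4
    · rintro _ ⟨a, ha, rfl⟩ _ ⟨b, hb, rfl⟩
      rw [← hQ₀]
      exact ⟨⟨_, (h5 a ha b hb).1, map_pow _ _ _⟩, ⟨_, (h5 a ha b hb).2, rfl⟩⟩
    · rw [← hDmap, ← map_commutator]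
      rintro _ ⟨g, hg, rfl⟩
      refine mem_centralizer_iff.2 ?_
      rintro _ ⟨b, hb, rfl⟩
      exact congrArg Subtype.val (mem_centralizer_iff.1 (h5' hg) b hb)
    · intro N hN1 hN2 hN3
      have hNM : N ≤ M := hN2.le.trans (hQle.trans hSM)
      refine h6 (N.subgroupOf M) ?_ ?_ (normal_subgroupOf_of_le_normalizer hN3)
      · rw [← map_lt_map_iff_of_injective M.subtype_injective, hQ₀, map_subgroupOf_eq_of_le hNM]
        exact hN1
      · rw [← map_lt_map_iff_of_injective M.subtype_injective, map_subgroupOf_eq_of_le hNM]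
        exact hN2

end CfsgLib.FT.BG15
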