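import Cfsg.Agent.Lib.FT.BG15.HallFusion

/-!
The Fitting subgroup of a maximal subgroup (BG 15.3–15.6) and fusion of nilpotent Hall subgroups.
-/

set_option autoImplicit false
set_option linter.style.haveILetI false

universe u

open Cfsg CfsgLib.OddOrder CfsgLib.Techniques Subgroup
open scoped commutatorElement Pointwise

namespace CfsgLib.FT.BG15

variable {G : Type u} [Group G] [Finite G]
variable (hU : Upstream.{u}) (hG : IsMinSimpleOddOrder G) {M : Subgroup G} (hM : IsCoatom M)

/-- The Fitting quotient map. -/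
abbrev fittingQuot (M : Subgroup G) : M →* M ⧸ fittingHall M := QuotientGroup.mk' _

omit hU hG hM in
theorem fittingHallOf_hall (M : Subgroup G) :
    IsPiHallOf {p | p.Prime ∧ p ∣ Nat.card (fittingHallOf M)} (fittingHallOf M) M :=
  ⟨fittingHallOf_le M, fun p hp hd => ⟨hp, hd⟩, fun p hp hπ hd =>
    hp.not_dvd_one ((coprime_fittingHallOf M).gcd_eq_one ▸ Nat.dvd_gcd hπ.2 hd)⟩

omit [Finite G] hU hG hM in
theorem eq_one_iff_mem_fittingHallOf {x : M} : fittingQuot M x = 1 ↔ (x : G) ∈ fittingHallOf M := by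
  rw [QuotientGroup.mk'_apply, QuotientGroup.eq_one_iff]
  exact (mem_map_iff_mem M.subtype_injective).symm

omit hU in
include hG hM in
theorem fittingHallOf_hall_sigma :
    (Nat.card (fittingHallOf M)).Coprime ((fittingHallOf M).relIndex (sigmaCore M)) :=
  (coprime_fittingHallOf M).coprime_dvd_right
    (Dvd.intro _ (relIndex_mul_relIndex _ _ _ (fittingHallOf_le_sigmaCore hG hM) (sigmaCore_le M)))

include hU hG hM in
theorem no_tau2_of_ne (hne : fittingHallOf M ≠ sigmaCore M) {p : ℕ} (hp : p ∈ tau2 M) : False := by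
  obtain ⟨K, U, hD⟩ := exists_decomposition hU hG hM
  have hUb := U_eq_bot_of_ne hU hG hM hD hne
  have hd : p ∣ Nat.card M := by
    haveI := Fact.mk hp.1
    obtain ⟨A, hAM, -, hA2⟩ := exists_elementary_sq (M := M) hp.2.2.2
    exact (dvd_pow_self p two_ne_zero).trans (hA2 ▸ card_dvd_of_le hAM)
  rw [← decomp_card hU hG hM hD, hUb, card_bot, one_mul] at hd
  rcases hp.1.dvd_mul.1 hd with h | h
  · exact not_tau2_of_kappa hG (hD.hall.2.1 p hp.1 h) hp
  · exact hp.2.1 ((sigmaCore_hallOf hU hG hM).2.1 p hp.1 h)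

include hU hG hM in
/-- When `M_F ≠ M_σ` the subgroup `M_σ` is nilpotent modulo `M_F`. -/
theorem isNilpotent_sigmaCore_quot (hne : fittingHallOf M ≠ sigmaCore M) :
    Group.IsNilpotent (((sigmaCore M).subgroupOf M).map (fittingQuot M)) := by
  obtain ⟨K, U, q, Q, -, hQ⟩ := exists_fcore hU hG hM hne
  obtain ⟨D, hDc, hsup, -⟩ := hQ.exists_compl
  have hDM : D ≤ M := hDc.2.1.trans (sigmaCore_le M)
  haveI := (hQ.compl D hDc).1
  haveI : Group.IsNilpotent (D.subgroupOf M) :=
    Group.nilpotent_of_mulEquiv (subgroupOfEquivOfLe hDM).symm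
  refine CfsgLib.Base.isNilpotent_of_le ?_
    (CfsgLib.Base.isNilpotent_map (fittingQuot M) (K := D.subgroupOf M) inferInstance)
  rintro _ ⟨x, hx, rfl⟩
  obtain ⟨a, ha, b, hb, hab⟩ := hDc.2.2.2 _ hx
  refine ⟨⟨b, hDM hb⟩, hb, ?_⟩
  have haM : a ∈ M := fittingHallOf_le M (hQ.le_fittingHall ha)
  have hxe : x = ⟨a, haM⟩ * ⟨b, hDM hb⟩ := Subtype.ext hab
  rw [hxe, map_mul, eq_one_iff_mem_fittingHallOf.2 (hQ.le_fittingHall ha : ((⟨a, haM⟩ : M) : G) ∈ _),
    one_mul]

include hU hG hM in
theorem centralizer_fittingHallOf_nilpotent :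
    Group.IsNilpotent ↥(M ⊓ centralizer (fittingHallOf M : Set G)) := by
  set C := M ⊓ centralizer (fittingHallOf M : Set G) with hC
  have hCM : C ≤ M := inf_le_left
  let g : C →* M ⧸ fittingHall M := (fittingQuot M).comp (inclusion hCM)
  have hker : g.ker ≤ center C := fun x hx => by
    have h : (x : G) ∈ fittingHallOf M := eq_one_iff_mem_fittingHallOf.1 hx
    exact mem_center_iff.2 fun y => Subtype.ext
      (mem_centralizer_iff.1 (mem_inf.1 y.2).2 x h).symm
  have hrange : Group.IsNilpotent g.range := by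
    have hrC : g.range ≤ (C.subgroupOf M).map (fittingQuot M) := by
      rintro _ ⟨x, rfl⟩
      exact mem_map_of_mem (fittingQuot M) (x := inclusion hCM x) x.2
    obtain ⟨X, hXc, hXτ, hsplit⟩ := exists_centralizer_split hU hG hM
      (fittingHallOf_le_sigmaCore hG hM) (fittingHallOf_ne_bot hU hG hM)
      (fittingHallOf_hall_sigma hG hM)
    by_cases h : fittingHallOf M = sigmaCore M
    · have hXM : X ≤ M := (le_sup_right.trans hsplit.ge).trans inf_le_left
      haveI : IsCyclic (X.subgroupOf M) :=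
        haveI := hXc; isCyclic_of_surjective _ (subgroupOfEquivOfLe hXM).symm.surjective
      haveI : IsCyclic ((X.subgroupOf M).map (fittingQuot M)) :=
        isCyclic_of_surjective _ ((fittingQuot M).subgroupMap_surjective _)
      letI := IsCyclic.commGroup (α := (X.subgroupOf M).map (fittingQuot M))
      refine CfsgLib.Base.isNilpotent_of_le (hrC.trans ?_)
        (inferInstance : Group.IsNilpotent ((X.subgroupOf M).map (fittingQuot M)))
      rintro _ ⟨x, hx, rfl⟩
      have hxC : (x : G) ∈ (sigmaCore M ⊓ centralizer (fittingHallOf M : Set G)) ⊔ X :=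
        hsplit.le hx
      rw [sup_comm, CfsgLib.Coprime.mem_sup_iff_of_le_normalizer
        (CfsgLib.Coprime.le_normalizer_inf_inf (hXM.trans (le_normalizer_sigmaCore M))
          ((le_sup_right.trans hsplit.ge).trans (inf_le_right.trans le_normalizer)))] at hxC
      obtain ⟨b, hb, a, ha, e⟩ := hxC
      have haM : a ∈ M := sigmaCore_le M (mem_inf.1 ha).1
      refine ⟨⟨b, hXM hb⟩, hb, ?_⟩
      rw [show x = ⟨b, hXM hb⟩ * ⟨a, haM⟩ from Subtype.ext e.symm, map_mul,
        eq_one_iff_mem_fittingHallOf.2 (h.ge (mem_inf.1 ha).1 : ((⟨a, haM⟩ : M) : G) ∈ _), mul_one]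
    · have hXb : X = ⊥ := by
        by_contra hX1
        obtain ⟨p, hp, hd⟩ := Nat.exists_prime_and_dvd (fun e => hX1 (X.eq_bot_of_card_eq e))
        exact no_tau2_of_ne hU hG hM h (hXτ p hp hd)
      refine CfsgLib.Base.isNilpotent_of_le (hrC.trans (map_mono fun x hx => ?_))
        (isNilpotent_sigmaCore_quot hU hG hM h)
      have := hsplit.le hx
      rw [hXb, sup_bot_eq] at this
      exact (mem_inf.1 this).1
  haveI := hrange
  exact Subgroup.isNilpotent_of_ker_le_center g.rangeRestrict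
    (by rw [MonoidHom.ker_rangeRestrict]; exact hker)

include hU hG hM in
theorem centralizer_fittingHallOf_le :
    M ⊓ centralizer (fittingHallOf M : Set G) ≤ fittingOf M :=
  CfsgLib.Base.le_map_fittingSubgroup inf_le_left
    (CfsgLib.Coprime.le_normalizer_inf_inf le_normalizer
      (CfsgLib.Coprime.le_normalizer_centralizer (le_normalizer_fittingHallOf M)))
    (centralizer_fittingHallOf_nilpotent hU hG hM)

include hU hG hM in
/-- `F(M) = C_M(M_F) M_F`. -/
theorem fittingOf_eq :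
    fittingOf M = (M ⊓ centralizer (fittingHallOf M : Set G)) ⊔ fittingHallOf M := by
  refine le_antisymm (fun z hz => ?_)
    (sup_le (centralizer_fittingHallOf_le hU hG hM) (fittingHallOf_le_fittingOf M))
  obtain ⟨a, b, ha, hb, rfl, hap, hbp⟩ :=
    exists_pi_split {p | p.Prime ∧ p ∣ Nat.card (fittingHallOf M)} z
  have haF := zpowers_le.2 hz ha
  have hbF := zpowers_le.2 hz hb
  have haMF : a ∈ fittingHallOf M :=
    BG13.le_of_normal_hall (le_normalizer_fittingHallOf M) (fittingHallOf_hall M)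
      (zpowers_le.2 (fittingOf_le M haF))
      (fun p hp hd => hap p hp (by rwa [Nat.card_zpowers] at hd)) (mem_zpowers a)
  refine mul_mem (mem_sup_right haMF) (mem_sup_left (mem_inf.2 ⟨fittingOf_le M hbF, ?_⟩))
  refine mem_centralizer_iff.2 fun f hf => ?_
  refine (commute_of_isNilpotent (isNilpotent_fittingOf M) (fittingHallOf_le_fittingOf M hf) hbF
    (Nat.coprime_of_dvd fun p hp h1 h2 => hbp p hp h2 ⟨hp, h1.trans ?_⟩)).eq
  exact Subgroup.orderOf_dvd_natCard _ hf

include hU hG hM in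
theorem second_derived_le_fittingOf : ⁅⁅M, M⁆, ⁅M, M⁆⁆ ≤ fittingOf M := by
  by_cases h : fittingHallOf M = sigmaCore M
  · exact (second_derived_le_sigmaCore hU hG hM).trans (h ▸ fittingHallOf_le_fittingOf M)
  obtain ⟨K, U, q, Q, hD', hQ⟩ := exists_fcore hU hG hM h
  obtain ⟨D, hDc, hsup, -⟩ := hQ.exists_compl
  have hUb := U_eq_bot_of_ne hU hG hM hD' h
  rw [derived_eq_sigmaCore hU hG hM hD' hUb]
  have hSM := sigmaCore_le M
  have hnQ : sigmaCore M ≤ normalizer (Q : Set G) := hSM.trans hQ.normal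
  haveI := (hQ.compl D hDc).1
  haveI := Fact.mk hQ.hq
  have hDD : Group.IsNilpotent ↥⁅D, D⁆ :=
    CfsgLib.Base.isNilpotent_of_le (commutator_le_self D) inferInstance
  have hL : Group.IsNilpotent ↥(⁅D, D⁆ ⊔ Q) :=
    isNilpotent_sup_of_commute hDD hQ.pgroup.isNilpotent (hQ.compl D hDc).2.2.2.2.2.1
  have hDQ : D ≤ normalizer (Q : Set G) := hDc.2.1.trans hnQ
  have hle : ⁅sigmaCore M, sigmaCore M⁆ ≤ ⁅D, D⁆ ⊔ Q := by
    rw [← hsup]
    exact commutator_sup_le hDQ le_sup_right
      (le_normalizer_sup (le_normalizer_commutator le_normalizer le_normalizer) hDQ) le_sup_left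
  exact CfsgLib.Base.le_map_fittingSubgroup ((commutator_le_self _).trans hSM)
    (le_normalizer_commutator (le_normalizer_sigmaCore M) (le_normalizer_sigmaCore M))
    (CfsgLib.Base.isNilpotent_of_le hle hL)

include hU hG hM in
theorem fittingOf_le_derived (hκ : (kappa M).Nonempty) : fittingOf M ≤ ⁅M, M⁆ := by
  obtain ⟨K, U, hD⟩ := exists_decomposition hU hG hM
  have hK1 : K ≠ ⊥ := (K_ne_bot_iff hU hG hM hD.hall).2 hκ
  rw [derived_eq hU hG hM hD hK1, fittingOf_eq hU hG hM]
  refine sup_le ?_ ((fittingHallOf_le_sigmaCore hG hM).trans le_sup_right)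
  obtain ⟨X, -, hXτ, hsplit⟩ := exists_centralizer_split hU hG hM
    (fittingHallOf_le_sigmaCore hG hM) (fittingHallOf_ne_bot hU hG hM)
    (fittingHallOf_hall_sigma hG hM)
  rw [hsplit]
  refine sup_le (inf_le_left.trans le_sup_right) ?_
  have hS := sigmaCore_hallOf hU hG hM
  refine BG13.le_of_normal_hall (π := {p | p.Prime ∧ p ∉ kappa M}) (decomp_normal hD)
    ⟨sup_le hD.compl.1 (sigmaCore_le M), fun p hp hd => ⟨hp, U_sup_sigmaCore_primes hU hG hM hD hp hd⟩,
      fun p hp hπ hd => ?_⟩ ((le_sup_right.trans hsplit.ge).trans inf_le_left)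
    fun p hp hd => ⟨hp, fun hk => not_tau2_of_kappa hG hk (hXτ p hp hd)⟩
  by_cases hσ : p ∈ sigma M
  · exact hS.2.2 p hp hσ (hd.trans (relIndex_dvd_of_le_left M le_sup_right))
  · exact (decomp_hall hU hG hM hD).2.2 p hp ⟨hp, hσ, hπ.2⟩
      (hd.trans (relIndex_dvd_of_le_left M le_sup_left))

include hU hG hM in
theorem derived_quot_nilpotent :
    Group.IsNilpotent ↥((_root_.commutator ↥M).map (fittingQuot M)) := by
  by_cases h : fittingHallOf M = sigmaCore M
  · set A := (_root_.commutator ↥M).map (fittingQuot M) with hA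
    have hAA : ⁅A, A⁆ = ⊥ := by
      rw [hA, ← map_commutator, Subgroup.map_eq_bot_iff]
      intro x hx
      rw [MonoidHom.mem_ker, eq_one_iff_mem_fittingHallOf, h]
      refine second_derived_le_sigmaCore hU hG hM ?_
      rw [← BG13.map_commutator_subtype M, ← map_commutator]
      exact mem_map_of_mem M.subtype hx
    haveI : IsMulCommutative A := ⟨⟨fun a b => Subtype.ext
      (commutatorElement_eq_one_iff_commute.1
        (mem_bot.1 (hAA ▸ commutator_mem_commutator a.2 b.2))).eq⟩⟩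
    exact (Subgroup.isNilpotent_iff_lowerCentralSeries A).2 ⟨1, by
      rw [Subgroup.lowerCentralSeries_succ, Subgroup.lowerCentralSeries_zero]; exact hAA⟩
  obtain ⟨K, U, q, Q, hD', hQ⟩ := exists_fcore hU hG hM h
  have hc : _root_.commutator ↥M = (sigmaCore M).subgroupOf M := by
    refine map_injective M.subtype_injective ?_
    rw [BG13.map_commutator_subtype, map_subgroupOf_eq_of_le (sigmaCore_le M),
      derived_eq_sigmaCore hU hG hM hD' (U_eq_bot_of_ne hU hG hM hD' h)]
  rw [hc]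
  exact isNilpotent_sigmaCore_quot hU hG hM h

include hU hG hM in
theorem derived_lt : ⁅M, M⁆ < M := by
  haveI := maximal_solvable hG hM
  haveI : Nontrivial M := (M.nontrivial_iff_ne_bot).2 fun e =>
    sigmaCore_ne_bot' hU hG hM (le_bot_iff.1 (e ▸ sigmaCore_le M))
  refine lt_of_le_of_ne (commutator_le_self M) fun h1 => ?_
  refine (Group.IsSolvable.commutator_lt_top_of_nontrivial M).ne (map_injective M.subtype_injective ?_)
  rw [BG13.map_commutator_subtype, ← MonoidHom.range_eq_map, range_subtype, h1]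

/-! ### The `σ'`-part of `F(M)` -/

include hU hG hM in
theorem fitting_sigma_compl :
    IsCyclic ↥(piCoreOf {q | q.Prime ∧ q ∉ sigma M} (fittingOf M)) ∧
      (∀ p : ℕ, p.Prime → p ∣ Nat.card ↥(piCoreOf {q | q.Prime ∧ q ∉ sigma M} (fittingOf M)) →
        p ∈ tau2 M) ∧
      fittingOf M = fittingOf (sigmaCore M) ⊔ piCoreOf {q | q.Prime ∧ q ∉ sigma M} (fittingOf M) := by
  set π := {q : ℕ | q.Prime ∧ q ∉ sigma M} with hπ
  set Z := piCoreOf π (fittingOf M) with hZ
  have hFn := isNilpotent_fittingOf M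
  have hZF : Z ≤ fittingOf M := piCoreOf_le π _
  have hS := sigmaCore_hallOf hU hG hM
  have hZc : Z ≤ centralizer (fittingHallOf M : Set G) := fun z hz =>
    mem_centralizer_iff.2 fun f hf =>
      (commute_of_isNilpotent hFn (fittingHallOf_le_fittingOf M hf) (hZF hz)
        (Nat.coprime_of_dvd fun p hp h1 h2 =>
          (piCoreOf_primes π _ p hp (h2.trans (Subgroup.orderOf_dvd_natCard Z hz))).2
            (hS.2.1 p hp (h1.trans (Subgroup.orderOf_dvd_natCard _
              (fittingHallOf_le_sigmaCore hG hM hf)))))).eq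
  obtain ⟨h1, h2⟩ := centralizer_sigma_compl hU hG hM (fittingHallOf_le_sigmaCore hG hM)
    (fittingHallOf_ne_bot hU hG hM) (fittingHallOf_hall_sigma hG hM)
    (hZF.trans (fittingOf_le M)) hZc fun p hp hd => (piCoreOf_primes π _ p hp hd).2
  refine ⟨h1, h2, le_antisymm (fun z hz => ?_) (sup_le ?_ hZF)⟩
  · obtain ⟨a, b, ha, hb, rfl, hap, hbp⟩ := exists_pi_split (sigma M) z
    have haF := zpowers_le.2 hz ha
    have hbF := zpowers_le.2 hz hb
    refine mul_mem (mem_sup_left ?_) (mem_sup_right ?_)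
    · have haS : a ∈ fittingOf M ⊓ sigmaCore M := mem_inf.2 ⟨haF,
        BG13.mem_sigmaCore_of_orderOf hU.bg13 hG hM (fittingOf_le M haF) hap⟩
      refine CfsgLib.Base.le_map_fittingSubgroup inf_le_right ?_
        (CfsgLib.Base.isNilpotent_of_le inf_le_left hFn) haS
      exact CfsgLib.Coprime.le_normalizer_inf_inf
        ((sigmaCore_le M).trans (le_normalizer_fittingOf M)) le_normalizer
    · exact mem_piCoreOf_nilpotent hFn hbF fun p hp hd => ⟨hp, hbp p hp hd⟩
  · refine CfsgLib.Base.le_map_fittingSubgroup ((fittingOf_le _).trans (sigmaCore_le M)) ?_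
      (isNilpotent_fittingOf _)
    exact (le_normalizer_sigmaCore M).trans (CfsgLib.Base.normalizer_le_normalizer_map_subtype _ _)

/-! ### Fusion of nilpotent Hall subgroups -/

omit hU hG hM in
theorem fusion_abelian_hall {H : Subgroup G} (hHn : Group.IsNilpotent H)
    (hHall : (Nat.card H).Coprime H.index) (hc : IsMulCommutative H) {x g : G} (hx : x ∈ H)
    (hgx : g * x * g⁻¹ ∈ H) : ∃ n ∈ normalizer (H : Set G), n * x * n⁻¹ = g * x * g⁻¹ := by
  set C := centralizer ({g * x * g⁻¹} : Set G) with hC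
  have h1 : H ≤ C := fun a ha => mem_centralizer_singleton_iff.2
    (congrArg Subtype.val (hc.is_comm.comm ⟨a, ha⟩ ⟨_, hgx⟩) :)
  have h2 : cj g H ≤ C := cj_le_iff.2 fun a ha => mem_centralizer_singleton_iff.2 (by
    rw [conj_mul, conj_mul]
    exact congrArg (fun b : H => g * (b : G) * g⁻¹) (hc.is_comm.comm ⟨a, ha⟩ ⟨x, hx⟩))
  obtain ⟨c, hcC, hce⟩ := CfsgLib.Transfer.exists_conj_nilpotent_hall h1 h2 hHn
    (CfsgLib.Base.isNilpotent_map _ hHn) (card_cj g H).symm
    (hHall.coprime_dvd_right (relIndex_dvd_index_of_le h1))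
  refine ⟨c * g, mem_normalizer_iff_cj.2 (by rw [cj_mul]; exact hce), ?_⟩
  calc c * g * x * (c * g)⁻¹ = c * (g * x * g⁻¹) * c⁻¹ := by group
    _ = g * x * g⁻¹ := by rw [mem_centralizer_singleton_iff.1 hcC, mul_inv_cancel_right]

include hU hG in
theorem fusion_nilpotent_hall {H : Subgroup G} (hHn : Group.IsNilpotent H)
    (hHall : (Nat.card H).Coprime H.index) {x g : G} (hx : x ∈ H) (hgx : g * x * g⁻¹ ∈ H) :
    ∃ n ∈ normalizer (H : Set G), n * x * n⁻¹ = g * x * g⁻¹ := by
  by_cases hc : IsMulCommutative H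
  · exact fusion_abelian_hall hHn hHall hc hx hgx
  haveI := hHn
  -- a Sylow subgroup of `H` which is not cyclic
  obtain ⟨p, hp, P, hPnc⟩ : ∃ p : ℕ, p.Prime ∧ ∃ P : Sylow p H, ¬ IsCyclic P := by
    by_contra hcon
    push Not at hcon
    haveI : IsZGroup H := ⟨fun p hp P => hcon p hp P⟩
    haveI : IsCyclic H := inferInstance
    letI := IsCyclic.commGroup (α := H)
    exact hc ⟨⟨fun a b => mul_comm a b⟩⟩
  haveI := Fact.mk hp
  set P' := (P : Subgroup H).map H.subtype with hP'
  have hP'p : IsPGroup p P' := P.isPGroup'.map _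
  have hP'H : P' ≤ H := map_subtype_le _
  haveI hPn : (P : Subgroup H).Normal :=
    ((Group.isNilpotent_of_finite_tfae (G := H)).out 0 3 rfl rfl).1 inferInstance p inferInstance P
  haveI := P.characteristic_of_normal hPn
  have hHP : H ≤ normalizer (P' : Set G) :=
    le_normalizer.trans (CfsgLib.Base.normalizer_le_normalizer_map_subtype H _)
  have hsylG : ∀ {q : ℕ}, q.Prime → ∀ {T : Subgroup G}, SylIn q T H → q ∣ Nat.card H →
      SylIn q T ⊤ := by
    intro q hq T hT hd
    refine ⟨le_top, hT.isPGroup, fun h => ?_⟩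
    rw [relIndex_top_right, ← relIndex_mul_index hT.le] at h
    rcases hq.dvd_mul.1 h with h' | h'
    · exact hT.not_dvd h'
    · exact hq.not_dvd_one (hHall.gcd_eq_one ▸ Nat.dvd_gcd hd h')
  have hP1 : P' ≠ ⊥ := fun e => hPnc (by
    rw [(map_eq_bot_iff_of_injective _ H.subtype_injective).1 e]
    exact inferInstance)
  have hpH : p ∣ Nat.card H :=
    (BG13.dvd_of_pGroup_ne_bot hP'p hP1).trans (card_dvd_of_le hP'H)
  have hPG : SylIn p P' ⊤ := hsylG hp (sylIn_sylow_map P) hpH
  obtain ⟨M, hM, hNM⟩ := exists_maximal_ge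
    (minSimple_normalizer_ne_top hG hP1 (isPGroup_ne_top hG hP'p))
  have hHM : H ≤ M := hHP.trans hNM
  have hpσ : p ∈ sigma M := (mem_sigma_iff (hPG.mono (hP'H.trans hHM) le_top)).2
    ⟨hpH.trans (card_dvd_of_le hHM), hNM⟩
  have hP'S : P' ≤ sigmaCore M :=
    BG13.pGroup_le_sigmaCore hU.bg13 hG hM hpσ hP'p (hP'H.trans hHM)
  have hσ : ∀ q : ℕ, q.Prime → q ∣ Nat.card H → q ∈ sigma M := by
    intro q hq hd
    by_contra hqσ
    haveI := Fact.mk hq
    have hqp : q ≠ p := fun e => hqσ (e ▸ hpσ)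
    obtain ⟨T, hT⟩ := exists_sylIn (p := q) H
    have hTM := hT.le.trans hHM
    have hTG := hsylG hq hT hd
    have hT1 : T ≠ ⊥ := sylIn_ne_bot hT hd
    -- `T` is cyclic and centralises `P'`
    have hTP : P' ≤ centralizer (T : Set G) := fun a ha => mem_centralizer_iff.2 fun b hb =>
      (commute_of_isNilpotent hHn (hT.le hb) (hP'H ha)
        (((BG13.coprime_of_pGroups hT.isPGroup hP'p hqp)).coprime_dvd_left
          (Subgroup.orderOf_dvd_natCard T hb) |>.coprime_dvd_right
            (Subgroup.orderOf_dvd_natCard P' ha))).eq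
    obtain ⟨L, hL, hNL⟩ := exists_maximal_ge
      (minSimple_normalizer_ne_top hG hT1 (isPGroup_ne_top hG hT.isPGroup))
    have hPL : P' ≤ L := (hTP.trans (centralizer_le_normalizer _)).trans hNL
    have hTL : T ≤ L := le_normalizer.trans hNL
    have hqL : q ∈ sigma L := (mem_sigma_iff (hTG.mono hTL le_top)).2
      ⟨(BG13.dvd_of_pGroup_ne_bot hT.isPGroup hT1).trans (card_dvd_of_le hTL), hNL⟩
    have hpL : p ∣ Nat.card L := (BG13.dvd_of_pGroup_ne_bot hP'p hP1).trans (card_dvd_of_le hPL)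
    by_cases hpσL : p ∈ sigma L
    · obtain ⟨c, hc'⟩ := hU.sigmaDisjoint hG M L hM hL ⟨p, hpσ, hpσL⟩
      rw [show L = cj c M from hc', BG13.sigma_cj] at hqL
      exact hqσ hqL
    · -- `p` has rank two in `L`, a contradiction with `C_{L_σ}(A) = 1`
      rcases BG13.tau_cases hU.bg13 hG hL hpL hpσL with ⟨-, -, -, hr⟩ | hτ
      · exact hPnc ((MulEquiv.isCyclic ((P : Subgroup H).equivMapOfInjective H.subtype
          H.subtype_injective)).2 (BG13.isCyclic_of_pGroup_le hG hr hPL hP'p))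
      · obtain ⟨A, hAP, hA, hA2⟩ := exists_elementary_sq (M := P') (p := p) fun hr => hPnc (by
          refine (MulEquiv.isCyclic ((P : Subgroup H).equivMapOfInjective H.subtype
            H.subtype_injective)).2 ?_
          exact BG13.isCyclic_of_pGroup_le hG hr le_rfl hP'p)
        have hC := (hU.bg13.s1417 hG L hL p hτ A ⟨hAP.trans hPL, hA, hA2⟩).2.2.2.1
        refine hT1 (le_bot_iff.1 fun b hb => hC.le (mem_inf.2
          ⟨BG13.pGroup_le_sigmaCore hU.bg13 hG hL hqL hT.isPGroup hTL hb,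
            mem_centralizer_iff.2 fun a ha => ?_⟩))
        exact (mem_centralizer_iff.1 (hTP (hAP ha)) b hb).symm
  have hHS : H ≤ sigmaCore M := BG13.le_sigmaCore hU.bg13 hG hM hHM hσ
  obtain ⟨n, hn, he⟩ := fusion_hall hU hG hM hHS
    (hHall.coprime_dvd_right (relIndex_dvd_index_of_le hHS)) hx hgx
  exact ⟨n, (mem_inf.1 hn).2, he⟩

end CfsgLib.FT.BG15
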