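import Cfsg.Agent.Lib.FT.BG15.FCore
import Cfsg.Agent.Lib.Transfer.NilpotentHall

/-!
BG Lemma 15.3: centralisers and fusion of Hall subgroups of `M_σ`; the Fitting subgroup.
-/

set_option autoImplicit false
set_option linter.style.haveILetI false

universe u

open Cfsg CfsgLib.OddOrder CfsgLib.Techniques Subgroup
open scoped commutatorElement Pointwise

namespace CfsgLib.FT.BG15

variable {G : Type u} [Group G] [Finite G]

/-- The `π`-core is a Hall subgroup if every prime of `π` has a normal `π`-subgroup containing a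
Sylow subgroup. -/
theorem piCoreOf_hall {π : Set ℕ} {S : Subgroup G}
    (h : ∀ p : ℕ, p.Prime → p ∈ π → ∃ V : Subgroup G, V ≤ S ∧ S ≤ normalizer (V : Set G) ∧
      (∀ r : ℕ, r.Prime → r ∣ Nat.card V → r ∈ π) ∧ ¬ p ∣ V.relIndex S) :
    IsPiHallOf π (piCoreOf π S) S := by
  refine ⟨piCoreOf_le π S, piCoreOf_primes π S, fun p hp hπ hd => ?_⟩
  obtain ⟨V, hVS, hn, hV, hnd⟩ := h p hp hπ
  exact hnd (hd.trans (relIndex_dvd_of_le_left S (le_piCoreOf hVS hn hV)))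

/-- The `π`-core of a nilpotent subgroup is a Hall subgroup. -/
theorem piCoreOf_hall_nilpotent (π : Set ℕ) {S : Subgroup G} (hS : Group.IsNilpotent S) :
    IsPiHallOf π (piCoreOf π S) S := by
  refine piCoreOf_hall fun p hp hπ => ?_
  haveI := Fact.mk hp
  haveI := hS
  obtain ⟨P⟩ : Nonempty (Sylow p S) := inferInstance
  haveI hPn : (P : Subgroup S).Normal :=
    ((Group.isNilpotent_of_finite_tfae (G := S)).out 0 3 rfl rfl).1 inferInstance p inferInstance P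
  haveI := P.characteristic_of_normal hPn
  refine ⟨(P : Subgroup S).map S.subtype, map_subtype_le _,
    le_normalizer.trans (CfsgLib.Base.normalizer_le_normalizer_map_subtype S _), fun r hr hd => ?_,
    (sylIn_sylow_map P).not_dvd⟩
  exact BG13.eq_of_dvd_card_pGroup (P.isPGroup'.map S.subtype) hr hd ▸ hπ

/-- An element of a nilpotent subgroup whose primes lie in `π` lies in the `π`-core. -/
theorem mem_piCoreOf_nilpotent {π : Set ℕ} {S : Subgroup G} (hS : Group.IsNilpotent S) {x : G}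
    (hx : x ∈ S) (hπ : ∀ p : ℕ, p.Prime → p ∣ orderOf x → p ∈ π) : x ∈ piCoreOf π S :=
  BG13.le_of_normal_hall (le_normalizer_piCoreOf π S) (piCoreOf_hall_nilpotent π hS)
    (zpowers_le.2 hx) (fun p hp hd => hπ p hp (by rwa [Nat.card_zpowers] at hd)) (mem_zpowers x)

variable (hU : Upstream.{u}) (hG : IsMinSimpleOddOrder G) {M : Subgroup G} (hM : IsCoatom M)

include hU hG hM in
theorem exists_fcore (hne : fittingHallOf M ≠ sigmaCore M) :
    ∃ K U q Q, IsSigmaDecomposition M K U ∧ FCoreData M K q Q := by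
  obtain ⟨K, U, hD⟩ := exists_decomposition hU hG hM
  obtain ⟨q, Q, hQ⟩ := exists_fcoreData hU hG hM hD hne
  exact ⟨K, U, q, Q, hD, hQ⟩

include hU hG hM in
theorem fittingHallOf_ne_bot : fittingHallOf M ≠ ⊥ := by
  by_cases h : fittingHallOf M = sigmaCore M
  · rw [h]; exact sigmaCore_ne_bot' hU hG hM
  obtain ⟨K, U, q, Q, hD, hQ⟩ := exists_fcore hU hG hM h
  exact fun e => cstar_ne_bot hU hG hM hD.hall
    (le_bot_iff.1 (e ▸ hQ.cstar_le.trans hQ.le_fittingHall))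

omit hG hM in
/-- A complement of `Q` in `M_σ`. -/
theorem FCoreData.exists_compl {K Q : Subgroup G} {q : ℕ} (hQ : FCoreData M K q Q) :
    ∃ D : Subgroup G, IsComplIn Q D (sigmaCore M) ∧ D ⊔ Q = sigmaCore M ∧ ¬ q ∣ Nat.card D := by
  have hn : sigmaCore M ≤ normalizer (Q : Set G) := (sigmaCore_le M).trans hQ.normal
  haveI := Fact.mk hQ.hq
  obtain ⟨i, hi⟩ := IsPGroup.iff_card.1 hQ.pgroup
  obtain ⟨D, hD1, hD2, hD3⟩ := CfsgLib.Coprime.exists_complement_in (N := Q) (S := sigmaCore M)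
    hQ.le hn (by rw [hi]; exact Nat.Coprime.pow_left i (hQ.hq.coprime_iff_not_dvd.2 hQ.hall))
  refine ⟨D, ⟨hQ.le, hD1, CfsgLib.Base.inf_eq_bot_of_coprime ?_, fun m hm => ?_⟩,
    by rw [sup_comm]; exact hD3, hD2 ▸ hQ.hall⟩
  · rw [hi, hD2]
    exact Nat.Coprime.pow_left i (hQ.hq.coprime_iff_not_dvd.2 hQ.hall)
  · have hn' : D ≤ normalizer (Q : Set G) := hD1.trans hn
    rw [← hD3, sup_comm, CfsgLib.Coprime.mem_sup_iff_of_le_normalizer hn'] at hm
    obtain ⟨d, hd, a, ha, rfl⟩ := hm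
    exact ⟨d * a * d⁻¹, (mem_normalizer_iff.1 (hn' hd) a).1 ha, d, hd, by group⟩

include hU hG hM in
/-- For a set of primes containing the exceptional prime, the core of `M_σ` is a Hall subgroup. -/
theorem piCoreOf_sigmaCore_hall {π : Set ℕ}
    (hπ : fittingHallOf M = sigmaCore M ∨
      ∃ (K Q : Subgroup G) (q : ℕ), FCoreData M K q Q ∧ q ∈ π) :
    IsPiHallOf π (piCoreOf π (sigmaCore M)) (sigmaCore M) := by
  rcases hπ with h | ⟨K, Q, q, hQ, hqπ⟩
  · exact piCoreOf_hall_nilpotent π ((fittingHallOf_eq_iff hU hG hM).1 h)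
  obtain ⟨D, hD, hsup, hDq⟩ := hQ.exists_compl
  haveI := Fact.mk hQ.hq
  have hn : sigmaCore M ≤ normalizer (Q : Set G) := (sigmaCore_le M).trans hQ.normal
  refine piCoreOf_hall fun p hp hpπ => ?_
  by_cases hpq : p = q
  · subst hpq
    exact ⟨Q, hQ.le, hn, fun r hr hd => BG13.eq_of_dvd_card_pGroup hQ.pgroup hr hd ▸ hqπ, hQ.hall⟩
  haveI := Fact.mk hp
  haveI := (hQ.compl D hD).1
  obtain ⟨R⟩ : Nonempty (Sylow p D) := inferInstance
  haveI hRn : (R : Subgroup D).Normal :=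
    ((Group.isNilpotent_of_finite_tfae (G := D)).out 0 3 rfl rfl).1 inferInstance p inferInstance R
  haveI := R.characteristic_of_normal hRn
  set R' := (R : Subgroup D).map D.subtype with hR'
  have hR'D : R' ≤ D := map_subtype_le _
  have hDR : D ≤ normalizer (R' : Set G) :=
    le_normalizer.trans (CfsgLib.Base.normalizer_le_normalizer_map_subtype D _)
  have hRQ : R' ≤ normalizer (Q : Set G) := hR'D.trans (hD.2.1.trans hn)
  refine ⟨R' ⊔ Q, sup_le (hR'D.trans hD.2.1) hQ.le, ?_, fun r hr hd => ?_, fun hd => ?_⟩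
  · rw [← hsup]
    refine sup_le (CfsgLib.Coprime.le_normalizer_sup_sup hDR (hD.2.1.trans hn)) ?_
    exact le_sup_right.trans le_normalizer
  · rcases hr.dvd_mul.1 (hd.trans (CfsgLib.Coprime.card_sup_dvd hRQ)) with h | h
    · exact BG13.eq_of_dvd_card_pGroup (R.isPGroup'.map D.subtype) hr h ▸ hpπ
    · exact BG13.eq_of_dvd_card_pGroup hQ.pgroup hr h ▸ hqπ
  · have h1 := hd.trans (relIndex_dvd_of_le_left (sigmaCore M) (le_sup_left : R' ≤ R' ⊔ Q))
    rw [← relIndex_mul_relIndex _ _ _ hR'D hD.2.1] at h1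
    rcases hp.dvd_mul.1 h1 with h | h
    · exact (sylIn_sylow_map R).not_dvd h
    · have h2 : D.relIndex (sigmaCore M) = Nat.card Q := Nat.eq_of_mul_eq_mul_right Nat.card_pos
        ((relIndex_mul_card_of_le hD.2.1).trans (card_mul_card_of_isComplIn hD).symm)
      rw [h2] at h
      exact hpq (BG13.eq_of_dvd_card_pGroup hQ.pgroup hp h)

/-! ### Centralisers of Hall subgroups of `M_σ` -/

variable {H : Subgroup G}

include hU hG hM in
theorem kappa_not_centralizes_hall (hH : H ≤ sigmaCore M) (hH1 : H ≠ ⊥)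
    (hHall : (Nat.card H).Coprime (H.relIndex (sigmaCore M))) {y : G} (hyM : y ∈ M)
    (hy : ∀ p : ℕ, p.Prime → p ∣ orderOf y → p ∈ kappa M) (hy1 : y ≠ 1)
    (hyH : y ∈ centralizer (H : Set G)) : False := by
  obtain ⟨K, U, hD⟩ := exists_decomposition hU hG hM
  haveI := maximal_solvable hG hM
  obtain ⟨g, hg⟩ := (CfsgLib.Coprime.hallD_of_solvable (G := M) (kappa M)).conj_le
    (U := zpowers (⟨y, hyM⟩ : M)) (H := K.subgroupOf M)
    (fun q hq hd => by rw [Nat.card_zpowers, orderOf_mk] at hd; exact hy q hq hd)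
    (CfsgLib.Coprime.piHallOf_iff.1 hD.hall).2
  have hgy : (g : G) * y * (g : G)⁻¹ ∈ K :=
    mem_subgroupOf.1 (hg (Subgroup.smul_mem_pointwise_smul _ (MulAut.conj g) _ (mem_zpowers _)))
  have hgy1 : (g : G) * y * (g : G)⁻¹ ≠ 1 := fun e => hy1 (conj_eq_one_iff.1 e)
  have hK1 : K ≠ ⊥ := fun e => hgy1 (mem_bot.1 (e.le hgy))
  have hle : cj (g : G) H ≤ cstar M K := by
    refine cj_le_iff.2 fun h hh => ?_
    have h1 : (g : G) * h * (g : G)⁻¹ ∈
        sigmaCore M ⊓ centralizer ({(g : G) * y * (g : G)⁻¹} : Set G) := by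
      refine mem_inf.2 ⟨(mem_normalizer_iff.1 (le_normalizer_sigmaCore M g.2) h).1 (hH hh),
        mem_centralizer_singleton_iff.2 ?_⟩
      rw [conj_mul, conj_mul, mem_centralizer_iff.1 hyH h hh]
    rwa [primeAction hU hG hM hD.hall hgy hgy1] at h1
  obtain ⟨q, hq, hd⟩ := Nat.exists_prime_and_dvd (fun e => hH1 (H.eq_bot_of_card_eq e))
  haveI := Fact.mk hq
  obtain ⟨T, hT⟩ := exists_sylIn (p := q) H
  have hT' : SylIn q (cj (g : G) T) (sigmaCore M) := by
    refine ⟨(cj_mono hT.le).trans (hle.trans (cstar_le_sigmaCore M K)), isPGroup_cj hT.isPGroup,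
      fun hd' => ?_⟩
    rw [← mem_normalizer_iff_cj.1 (le_normalizer_sigmaCore M g.2), relIndex_cj,
      ← relIndex_mul_relIndex _ _ _ hT.le hH] at hd'
    rcases hq.dvd_mul.1 hd' with h | h
    · exact hT.not_dvd h
    · exact hq.not_dvd_one (hHall.gcd_eq_one ▸ Nat.dvd_gcd hd h)
  obtain ⟨S, hS⟩ := exists_sylow_of_sylIn hT'
  have h2 := ((hU.s1431 hG M hM K hD.hall hK1).2.2.1 q hq
    (hd.trans ((card_cj (g : G) H).symm.dvd.trans (card_dvd_of_le hle))) S).2.2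
  rw [hS] at h2
  exact h2 ((cj_mono hT.le).trans hle)

include hU hG hM in
/-- A `σ(M)'`-subgroup of `M` centralising a Hall subgroup of `M_σ` is a cyclic `τ₂(M)`-group. -/
theorem centralizer_sigma_compl (hH : H ≤ sigmaCore M) (hH1 : H ≠ ⊥)
    (hHall : (Nat.card H).Coprime (H.relIndex (sigmaCore M))) {X : Subgroup G} (hXM : X ≤ M)
    (hX : X ≤ centralizer (H : Set G))
    (hXσ : ∀ p : ℕ, p.Prime → p ∣ Nat.card X → p ∉ sigma M) :
    IsCyclic X ∧ ∀ p : ℕ, p.Prime → p ∣ Nat.card X → p ∈ tau2 M := by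
  obtain ⟨⟨h, hh⟩, hh1⟩ := H.ne_bot_iff_exists_ne_one.1 hH1
  have hh1' : h ≠ 1 := fun e => hh1 (Subtype.ext e)
  have hcomm : ∀ v ∈ X, v ∈ M ⊓ centralizer ({h} : Set G) := fun v hv =>
    mem_inf.2 ⟨hXM hv, centralizer_le_of_mem hh (hX hv)⟩
  have htau : ∀ p : ℕ, p.Prime → p ∣ Nat.card X → p ∈ tau2 M := by
    intro p hp hd
    haveI := Fact.mk hp
    obtain ⟨⟨y, hyX⟩, hy⟩ := exists_prime_orderOf_dvd_card' p hd
    rw [orderOf_mk] at hy
    have hy1 : y ≠ 1 := fun e => hp.one_lt.ne (by rw [← hy, e, orderOf_one])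
    rcases hU.s1432 hG M hM h (hH hh) hh1' y (hcomm y hyX) hy1 (fun r hr hd' =>
      hXσ r hr (hd'.trans (Subgroup.orderOf_dvd_natCard X hyX))) with ⟨h1, -⟩ | ⟨h1, -⟩
    · exact (kappa_not_centralizes_hall hU hG hM hH hH1 hHall (hXM hyX) h1 hy1 (hX hyX)).elim
    · exact h1 p hp (hy.symm ▸ dvd_rfl)
  refine ⟨?_, htau⟩
  obtain ⟨E, hE, hXE⟩ := BG13.exists_compl_ge hU.bg13 hG hM hXM hXσ
  obtain ⟨A, -, hA, -, hAx⟩ := hU.tau2 hG M hM E hE
  have hXA : X ≤ A := fun v hv => hAx v (hXE hv) ⟨hXM hv, h, hH hh, hh1',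
    (mem_centralizer_iff.1 (hX hv) h hh).symm⟩ fun p hp hd =>
    htau p hp (hd.trans (Subgroup.orderOf_dvd_natCard X hv))
  have hc : IsMulCommutative X := ⟨⟨fun a b => Subtype.ext
    (congrArg Subtype.val (hA.is_comm.comm ⟨a, hXA a.2⟩ ⟨b, hXA b.2⟩) :)⟩⟩
  refine isCyclic_of_comm_rankLE_one ((maximal_odd hG M).of_dvd_nat (card_dvd_of_le hXM)) hc
    fun p hp => ?_
  haveI := Fact.mk hp
  by_contra hr
  obtain ⟨B, hBX, hB, hB2⟩ := exists_elementary_sq (M := X) hr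
  have hpX : p ∣ Nat.card X := by
    refine (dvd_pow_self p two_ne_zero).trans ?_
    rw [← hB2]
    exact card_dvd_of_le hBX
  have hC := (hU.bg13.s1417 hG M hM p (htau p hp hpX) B ⟨hBX.trans hXM, hB, hB2⟩).2.2.2.1
  exact hh1' (mem_bot.1 (hC.le (mem_inf.2 ⟨hH hh, mem_centralizer_iff.2 fun b hb =>
    ((mem_centralizer_singleton_iff.1 (mem_inf.1 (hcomm b (hBX hb))).2))⟩)))

include hU hG hM in
/-- `C_M(H) = C_{M_σ}(H) X` with `X` a cyclic `τ₂(M)`-group. -/
theorem exists_centralizer_split (hH : H ≤ sigmaCore M) (hH1 : H ≠ ⊥)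
    (hHall : (Nat.card H).Coprime (H.relIndex (sigmaCore M))) :
    ∃ X : Subgroup G, IsCyclic X ∧ (∀ p : ℕ, p.Prime → p ∣ Nat.card X → p ∈ tau2 M) ∧
      M ⊓ centralizer (H : Set G) = (sigmaCore M ⊓ centralizer (H : Set G)) ⊔ X := by
  have hS := sigmaCore_hallOf hU hG hM
  set C := M ⊓ centralizer (H : Set G) with hC
  set N := sigmaCore M ⊓ centralizer (H : Set G) with hN
  have hNC : N ≤ C := inf_le_inf_right _ (sigmaCore_le M)
  have hn : C ≤ normalizer (N : Set G) :=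
    CfsgLib.Coprime.le_normalizer_inf_inf (inf_le_left.trans (le_normalizer_sigmaCore M))
      (inf_le_right.trans le_normalizer)
  have hidx : ∀ p : ℕ, p.Prime → p ∣ N.relIndex C → p ∉ sigma M := by
    intro p hp hd hσ
    refine hS.2.2 p hp hσ (hd.trans ?_)
    have : N = sigmaCore M ⊓ C := by
      rw [hN, hC, ← inf_assoc, inf_eq_left.2 (sigmaCore_le M)]
    rw [this, inf_relIndex_right]
    haveI := normal_subgroupOf_of_le_normalizer (le_normalizer_sigmaCore M)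
    rw [← relIndex_subgroupOf (inf_le_left : C ≤ M)]
    exact relIndex_dvd_index_of_normal _ _
  obtain ⟨X, hXC, hXc, hsup⟩ := CfsgLib.Coprime.exists_complement_in hNC hn
    (Nat.coprime_of_dvd fun p hp h1 h2 =>
      hidx p hp h2 (hS.2.1 p hp (h1.trans (card_dvd_of_le inf_le_left))))
  obtain ⟨h1, h2⟩ := centralizer_sigma_compl hU hG hM hH hH1 hHall (hXC.trans inf_le_left)
    (hXC.trans inf_le_right) fun p hp hd => hidx p hp (hXc ▸ hd)
  exact ⟨X, h1, h2, hsup.symm⟩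

/-! ### Fusion -/

include hU hG hM in
theorem fusion_sigmaCore {x g : G} (hx : x ∈ sigmaCore M) (hgx : g * x * g⁻¹ ∈ sigmaCore M) :
    ∃ m ∈ M, m * x * m⁻¹ = g * x * g⁻¹ := by
  by_cases hx1 : x = 1
  · exact ⟨1, one_mem M, by simp [hx1]⟩
  obtain ⟨-, R, hRn, hRc, hR⟩ := hU.s1374 hG M hM x hx hx1
  have hxg : x ∈ M.map (MulAut.conj g⁻¹).toMonoidHom := by
    refine ⟨g * x * g⁻¹, sigmaCore_le M hgx, ?_⟩
    simp [mul_assoc]
  obtain ⟨r, ⟨hr, he⟩, -⟩ := hR g⁻¹ hxg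
  have hm : g * r ∈ M := by
    refine mem_maximal_of_cj_eq hG hM ?_
    show cj (g * r) M = M
    rw [cj_mul, show cj r M = cj g⁻¹ M from he, cj_cj_inv]
  refine ⟨g * r, hm, ?_⟩
  have hrx : r * x = x * r := mem_centralizer_singleton_iff.1 (hRc.2.1 hr)
  calc g * r * x * (g * r)⁻¹ = g * (r * x) * r⁻¹ * g⁻¹ := by group
    _ = g * x * g⁻¹ := by rw [hrx]; group

include hU hG hM in
/-- `M` controls the fusion of a Hall subgroup of `M_σ` inside its normaliser. -/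
theorem fusion_hall (hH : H ≤ sigmaCore M)
    (hHall : (Nat.card H).Coprime (H.relIndex (sigmaCore M))) {x g : G} (hx : x ∈ H)
    (hgx : g * x * g⁻¹ ∈ H) :
    ∃ n ∈ M ⊓ normalizer (H : Set G), n * x * n⁻¹ = g * x * g⁻¹ := by
  obtain ⟨m, hm, hmx⟩ := fusion_sigmaCore hU hG hM (hH hx) (hH hgx)
  set π := {p : ℕ | p.Prime ∧ p ∣ Nat.card H} with hπ
  have hHπ : IsPiHallOf π H (sigmaCore M) := ⟨hH, fun p hp hd => ⟨hp, hd⟩,
    fun p hp hpπ hd => hp.not_dvd_one (hHall.gcd_eq_one ▸ Nat.dvd_gcd hpπ.2 hd)⟩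
  have hcore : ∀ ρ : Set ℕ, M ≤ normalizer (piCoreOf ρ (sigmaCore M) : Set G) := fun ρ =>
    (le_normalizer_sigmaCore M).trans (CfsgLib.Base.normalizer_le_normalizer_map_subtype _ _)
  by_cases hq : fittingHallOf M = sigmaCore M ∨
      ∃ (K Q : Subgroup G) (q : ℕ), FCoreData M K q Q ∧ q ∈ π
  · -- `H` is normal in `M`
    have hN := piCoreOf_sigmaCore_hall hU hG hM hq
    have hnS : sigmaCore M ≤ normalizer (piCoreOf π (sigmaCore M) : Set G) :=
      le_normalizer_piCoreOf π _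
    have hle : H ≤ piCoreOf π (sigmaCore M) :=
      BG13.le_of_normal_hall hnS hN hH hHπ.2.1
    have hge : piCoreOf π (sigmaCore M) ≤ H := by
      refine relIndex_eq_one.1 (Nat.eq_one_iff_not_exists_prime_dvd.2 fun p hp hd => ?_)
      refine hHπ.2.2 p hp (hN.2.1 p hp ?_)
        (hd.trans (Dvd.intro _ (relIndex_mul_relIndex _ _ _ hle hN.1)))
      exact hd.trans (by rw [← relIndex_bot_left]; exact relIndex_dvd_of_le_left _ bot_le)
    exact ⟨m, mem_inf.2 ⟨hm, (le_antisymm hle hge) ▸ hcore π hm⟩, hmx⟩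
  · -- `H` has a normal complement in `M_σ`
    obtain ⟨K₀, U₀, q₀, Q₀, -, hQ₀⟩ := exists_fcore hU hG hM fun h => hq (Or.inl h)
    set ρ := {p : ℕ | p.Prime ∧ p ∉ π} with hρ
    have hT := piCoreOf_sigmaCore_hall hU hG hM (π := ρ)
      (Or.inr ⟨K₀, Q₀, q₀, hQ₀, hQ₀.hq, fun h => hq (Or.inr ⟨K₀, Q₀, q₀, hQ₀, h⟩)⟩)
    set T := piCoreOf ρ (sigmaCore M) with hTdef
    have hTS : T ≤ sigmaCore M := piCoreOf_le _ _
    have hint : T ⊓ H = ⊥ := CfsgLib.Base.inf_eq_bot_of_coprime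
      (Nat.coprime_of_dvd fun p hp h1 h2 => (hT.2.1 p hp h1).2 ⟨hp, h2⟩)
    have hnHT : H ≤ normalizer (T : Set G) := hH.trans (le_normalizer_piCoreOf ρ _)
    have hsup : H ⊔ T = sigmaCore M := by
      refine le_antisymm (sup_le hH hTS) (relIndex_eq_one.1
        (Nat.eq_one_iff_not_exists_prime_dvd.2 fun p hp hd => ?_))
      by_cases hpπ : p ∈ π
      · exact hHπ.2.2 p hp hpπ (hd.trans (relIndex_dvd_of_le_left _ le_sup_left))
      · exact hT.2.2 p hp ⟨hp, hpπ⟩ (hd.trans (relIndex_dvd_of_le_left _ le_sup_right))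
    -- `m = t n`
    have hDπ : CfsgLib.Coprime.HallD π (sigmaCore M) :=
      haveI := minSimple_solvable hG (ne_top_of_le_maximal hM (sigmaCore_le M))
      CfsgLib.Coprime.hallD_of_solvable π
    obtain ⟨s, hs, hse⟩ := hDπ.conj_piHallOf hHπ
      (CfsgLib.Coprime.piHallOf_conj_smul (le_normalizer_sigmaCore M hm) hHπ)
    rw [← hsup, CfsgLib.Coprime.mem_sup_iff_of_le_normalizer hnHT] at hs
    obtain ⟨a, ha, t, ht, rfl⟩ := hs
    set t' := a * t * a⁻¹ with ht'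
    have ht'T : t' ∈ T := (mem_normalizer_iff.1 (hnHT ha) t).1 ht
    have hn : t'⁻¹ * m ∈ M ⊓ normalizer (H : Set G) := by
      refine mem_inf.2 ⟨mul_mem (inv_mem (sigmaCore_le M (hTS ht'T))) hm, ?_⟩
      rw [CfsgLib.Coprime.mem_normalizer_iff_conj_smul, map_mul, mul_smul, ← hse, ← mul_smul,
        ← map_mul, show t'⁻¹ * (a * t) = a by rw [ht']; group]
      exact CfsgLib.Coprime.conj_smul_eq_self_of_mem_normalizer (le_normalizer ha)
    refine ⟨t'⁻¹ * m, hn, ?_⟩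
    set n := t'⁻¹ * m
    have hz : n * x * n⁻¹ ∈ H := (mem_normalizer_iff.1 (mem_inf.1 hn).2 x).1 hx
    have hy : g * x * g⁻¹ = t' * (n * x * n⁻¹) * t'⁻¹ := by
      rw [← hmx, show m = t' * n from (mul_inv_cancel_left t' m).symm]
      group
    have h1 : g * x * g⁻¹ * (n * x * n⁻¹)⁻¹ ∈ T ⊓ H := by
      refine mem_inf.2 ⟨?_, mul_mem hgx (inv_mem hz)⟩
      rw [hy, show t' * (n * x * n⁻¹) * t'⁻¹ * (n * x * n⁻¹)⁻¹ =
        t' * ((n * x * n⁻¹) * t'⁻¹ * (n * x * n⁻¹)⁻¹) by group]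
      exact mul_mem ht'T ((mem_normalizer_iff.1 (hnHT hz) _).1 (inv_mem ht'T))
    rw [hint, mem_bot, mul_inv_eq_one] at h1
    exact h1.symm

end CfsgLib.FT.BG15
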