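import Cfsg.Agent.Lib.FT.BG13.Tau
import Cfsg.Agent.Lib.FT.Beta
import Cfsg.Agent.Lib.OddOrder.PrimeActionFitting
import Cfsg.Agent.Lib.OddOrder.FrobeniusAction

/-!
What sections 15 and 16 of the local analysis use from sections 3 to 14.
-/

set_option autoImplicit false
open Cfsg

namespace CfsgLib.FT.BG15

/-- Prime action with trivial fixed points on the Fitting subgroup (BG 3.7). -/
def StmtS1445.{v} : Prop :=
  ∀ {G : Type v} [Group G] [Finite G] [Group.IsSolvable G] (_hodd : Odd (Nat.card G)) (K R : Subgroup G) [K.Normal] (_hKR : K ⊔ R = ⊤) (_hcop : (Nat.card K).Coprime (Nat.card R))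
    (_hprime : ∀ x ∈ R, x ≠ 1 → K ⊓ Subgroup.centralizer ({x} : Set G) = (K ⊓ Subgroup.centralizer (R : Set G)))
    (_hF : Cfsg.fittingOf K ⊓ Subgroup.centralizer (R : Set G) = ⊥),
    ⁅K, R⁆ ≤ Cfsg.fittingOf K

/-- A Frobenius group acting in a prime manner on a nilpotent group (BG 3.8). -/
def StmtS1446.{v} : Prop :=
  ∀ {X : Type v} [Group X] [Finite X] (K R M : Subgroup X) (_hK1 : K ≠ ⊥) (_hR1 : R ≠ ⊥) (_hKR : K ⊓ R = ⊥)
    (_hRK : R ≤ Subgroup.normalizer (K : Set X)) (_hfrob : ∀ r ∈ R, r ≠ 1 → K ⊓ Subgroup.centralizer ({r} : Set X) = ⊥)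
    (_hsolv : Group.IsSolvable ↥(K ⊔ R)) (_hodd : Odd (Nat.card ↥(K ⊔ R)))
    (_hM1 : M ≠ ⊥) (_hMn : Group.IsNilpotent M) (_hKM : K ≤ Subgroup.normalizer (M : Set X)) (_hRM : R ≤ Subgroup.normalizer (M : Set X))
    (_hcop : (Nat.card ↥(K ⊔ R)).Coprime (Nat.card M)) (_hCK : M ⊓ Subgroup.centralizer (K : Set X) = ⊥)
    (_hpr : ∀ x ∈ R, x ≠ 1 → M ⊓ Subgroup.centralizer ({x} : Set X) = M ⊓ Subgroup.centralizer (R : Set X)),
    (Nat.card R).Prime ∧ Nat.card M = Nat.card ↥(M ⊓ Subgroup.centralizer (R : Set X)) ^ Nat.card R ∧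
      (IsCyclic ↥(M ⊓ Subgroup.centralizer (R : Set X)) → ⁅K, K⁆ ≤ Subgroup.centralizer (M : Set X))

theorem stmtS1445.{v} : StmtS1445.{v} := fun hodd _ _ _ _ hcop hprime hF =>
  CfsgLib.OddOrder.PrimeActionFitting.commutator_le_fittingOf hodd hcop hprime hF

theorem stmtS1446.{v} : StmtS1446.{v} :=
  fun _ _ _ _ hR1 _ hRK hfrob _ _ hM1 hMn hKM hRM hcop hCK hpr =>
    CfsgLib.OddOrder.FrobeniusAction.main hR1 hRK hfrob hM1 hMn hKM hRM hcop hCK hpr

/-- The abelian normal subgroup of the `τ₂(M)`-elements with fixed points on `M_σ` (BG 12.10). -/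
def Tau2HatAbelian.{v} : Prop :=
  ∀ {G : Type v} [Group G] [Finite G] (_hG : IsMinSimpleOddOrder G) (M : Subgroup G) (_hM : IsCoatom M)
    (E : Subgroup G) (_hE : IsComplIn E (sigmaCore M) M),
    ∃ A : Subgroup G, A ≤ E ∧ IsMulCommutative A ∧ E ≤ Subgroup.normalizer (A : Set G) ∧
      ∀ x ∈ E, x ∈ sigmaHat M → (∀ p : ℕ, p.Prime → p ∣ orderOf x → p ∈ tau2 M) → x ∈ A

/-- Maximal subgroups whose `σ`-sets meet are conjugate. -/
def SigmaDisjoint.{v} : Prop :=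
  ∀ {G : Type v} [Group G] [Finite G] (_hG : IsMinSimpleOddOrder G) (M N : Subgroup G),
    IsCoatom M → IsCoatom N → (sigma M ∩ sigma N).Nonempty →
      ∃ g : G, N = M.map (MulAut.conj g).toMonoidHom

/-- What sections 15 and 16 use from sections 3 to 14. -/
structure Upstream.{v} : Prop where
  bg13 : BG13.Upstream.{v}
  s1408 : StmtS1408.{v}
  s1412 : StmtS1412.{v}
  s1419 : StmtS1419.{v}
  s1421 : StmtS1421.{v}
  tau2 : Tau2HatAbelian.{v}
  sigmaDisjoint : SigmaDisjoint.{v}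
  s1429 : StmtS1429.{v}
  s1430 : StmtS1430.{v}
  s1431 : StmtS1431.{v}
  s1432 : StmtS1432.{v}
  s1434 : StmtS1434.{v}
  s1435 : StmtS1435.{v}
  s1436 : StmtS1436.{v}
  s1351 : StmtS1351.{v}
  s1366 : StmtS1366.{v}
  s1367 : StmtS1367.{v}
  s1368 : StmtS1368.{v}
  s1369 : StmtS1369.{v}
  s1374 : StmtS1374.{v}
  s1375 : StmtS1375.{v}
  s1453 : StmtS1453.{v}

end CfsgLib.FT.BG15
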