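import Cfsg.Agent.Lib.FT.BG12.InvariantCompl
import Cfsg.Agent.Lib.PGroups.Commutator
import Cfsg.Agent.Lib.Coprime.Action

/-!
Cyclic groups acting without extra fixed points on a group of order `p` or on a non-abelian group of
order `p³` and exponent `p`.
-/

set_option autoImplicit false
set_option linter.style.haveILetI false

open Cfsg CfsgLib.Techniques Subgroup
open scoped commutatorElement

namespace CfsgLib.FT.BG15

variable {G : Type*} [Group G] [Finite G] {p : ℕ} [hp : Fact p.Prime]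

omit [Finite G] hp in
/-- Iterated conjugation of a power map modulo `T`. -/
theorem conj_pow_mod {T : Subgroup G} {e y : G} {j : ℕ} (he : e ∈ normalizer (T : Set G))
    (hy : y ∈ normalizer (T : Set G)) (h : (y ^ j)⁻¹ * (e * y * e⁻¹) ∈ T) (i : ℕ) :
    (y ^ j ^ i)⁻¹ * (e ^ i * y * (e ^ i)⁻¹) ∈ T := by
  set f := QuotientGroup.mk' (T.subgroupOf (normalizer (T : Set G)))
  set e' : normalizer (T : Set G) := ⟨e, he⟩
  set y' : normalizer (T : Set G) := ⟨y, hy⟩
  have key : ∀ a b : normalizer (T : Set G), f a = f b ↔ (a : G)⁻¹ * b ∈ T := fun a b => by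
    rw [QuotientGroup.mk'_apply, QuotientGroup.mk'_apply, QuotientGroup.eq, mem_subgroupOf]
    simp
  have h1 : f e' * f y' * (f e')⁻¹ = f y' ^ j := by
    rw [← map_pow, ← map_mul, ← map_inv, ← map_mul]
    exact ((key (y' ^ j) (e' * y' * e'⁻¹)).2 (by simpa using h)).symm
  have h2 : f e' ^ i * f y' * (f e' ^ i)⁻¹ = f y' ^ j ^ i := by
    induction i with
    | zero => simp
    | succ i ih =>
      calc f e' ^ (i + 1) * f y' * (f e' ^ (i + 1))⁻¹
          = f e' * (f e' ^ i * f y' * (f e' ^ i)⁻¹) * (f e')⁻¹ := by rw [pow_succ']; group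
        _ = f y' ^ j ^ (i + 1) := by rw [ih, ← conj_pow, h1, ← pow_mul, ← pow_succ']
  rw [← map_pow, ← map_pow, ← map_inv, ← map_mul, ← map_mul] at h2
  simpa using (key (y' ^ j ^ i) (e' ^ i * y' * (e' ^ i)⁻¹)).1 h2.symm

omit [Finite G] in
/-- The `p - 1`-st power of an element normalising a subgroup of order `p` mod `T` fixes it. -/
theorem pow_pred_fix {T : Subgroup G} {e y : G} {j : ℕ} (he : e ∈ normalizer (T : Set G))
    (hy : y ∈ normalizer (T : Set G)) (h : (y ^ j)⁻¹ * (e * y * e⁻¹) ∈ T) (hyp : y ^ p ∈ T)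
    (hyT : y ∉ T) : y⁻¹ * (e ^ (p - 1) * y * (e ^ (p - 1))⁻¹) ∈ T := by
  have h0 := conj_pow_mod he hy h (p - 1)
  have hj : ¬ p ∣ j := by
    rintro ⟨l, rfl⟩
    have h1 : e * y * e⁻¹ ∈ T := (T.mul_mem_cancel_left
      (inv_mem (by rw [pow_mul]; exact pow_mem hyp l))).1 h
    exact hyT ((mem_normalizer_iff.1 he y).2 h1)
  obtain ⟨l, hl⟩ : p ∣ j ^ (p - 1) - 1 := by
    rw [← ZMod.natCast_eq_zero_iff, Nat.cast_sub (Nat.one_le_pow _ _ (Nat.pos_of_ne_zero
      (by rintro rfl; exact hj (dvd_zero p)))), Nat.cast_pow, Nat.cast_one, ZMod.pow_card_sub_one_eq_one,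
      sub_self]
    rwa [Ne, ZMod.natCast_eq_zero_iff]
  have h1 : y ^ j ^ (p - 1) = (y ^ p) ^ l * y := by
    rw [← pow_mul, ← hl, ← pow_succ, Nat.sub_add_cancel]
    exact Nat.one_le_pow _ _ (Nat.pos_of_ne_zero (by rintro rfl; exact hj (dvd_zero p)))
  rw [h1, mul_inv_rev, mul_assoc] at h0
  have h2 : ((y ^ p) ^ l)⁻¹ * (e ^ (p - 1) * y * (e ^ (p - 1))⁻¹) * y⁻¹ ∈ T := by
    refine (mem_normalizer_iff'.1 (inv_mem hy) _).2 ?_
    simpa [mul_assoc] using h0
  have h3 : e ^ (p - 1) * y * (e ^ (p - 1))⁻¹ * y⁻¹ ∈ T := by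
    have h5 := mul_mem (pow_mem hyp l) h2
    rwa [show (y ^ p) ^ l * (((y ^ p) ^ l)⁻¹ * (e ^ (p - 1) * y * (e ^ (p - 1))⁻¹) * y⁻¹) =
      e ^ (p - 1) * y * (e ^ (p - 1))⁻¹ * y⁻¹ by group] at h5
  have h4 := (mem_normalizer_iff.1 (inv_mem hy) _).1 h3
  simpa [mul_assoc] using h4

omit [Finite G] in
/-- An element acting without fixed points on a group of order `p` has order dividing `p - 1`. -/
theorem orderOf_dvd_pred_of_fpf {e z : G} (hz : orderOf z = p)
    (he : e ∈ normalizer (zpowers z : Set G))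
    (hfpf : ∀ i : ℕ, e ^ i * z = z * e ^ i → e ^ i = 1) : orderOf e ∣ p - 1 := by
  have hzp : z ^ p = 1 := hz ▸ pow_orderOf_eq_one z
  have hz0 : IsOfFinOrder z := orderOf_pos_iff.1 (hz ▸ hp.out.pos)
  obtain ⟨j, hj⟩ : e * z * e⁻¹ ∈ Submonoid.powers z :=
    hz0.mem_powers_iff_mem_zpowers.2 ((mem_normalizer_iff.1 he z).1 (mem_zpowers z))
  have hn : ∀ w : G, w ∈ normalizer ((⊥ : Subgroup G) : Set G) := fun w => by
    rw [normalizer_eq_top ⊥]; exact mem_top w
  have h := pow_pred_fix (T := ⊥) (hn e) (hn z) (j := j) (mem_bot.2 (by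
    rw [show z ^ j = e * z * e⁻¹ from hj, inv_mul_cancel])) (mem_bot.2 hzp)
    (fun e => hp.out.one_lt.ne (by rw [← hz, mem_bot.1 e, orderOf_one]))
  refine orderOf_dvd_of_pow_eq_one (hfpf _ ?_)
  rw [mem_bot, inv_mul_eq_one] at h
  calc e ^ (p - 1) * z = e ^ (p - 1) * z * (e ^ (p - 1))⁻¹ * e ^ (p - 1) := by group
    _ = z * e ^ (p - 1) := by rw [← h]

/-- Fixed cosets of a coprime cyclic action contain fixed points. -/
theorem exists_fixed_in_coset {T : Subgroup G} [Group.IsSolvable T] {w y : G}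
    (hw : w ∈ normalizer (T : Set G)) (hy : y ∈ normalizer (T : Set G))
    (hcop : (orderOf w).Coprime (Nat.card T)) (hfix : y⁻¹ * (w * y * w⁻¹) ∈ T) :
    ∃ c ∈ centralizer ({w} : Set G), y⁻¹ * c ∈ T := by
  obtain ⟨c, hc, hc'⟩ := CfsgLib.Coprime.exists_centralizing_in_coset (A := zpowers w) (N := T)
    (k := y) (zpowers_le.2 hw) (by rwa [Nat.card_zpowers]) (Or.inr inferInstance) fun a ha => by
      obtain ⟨i, rfl⟩ : a ∈ Submonoid.powers w :=
        (isOfFinOrder_of_finite w).mem_powers_iff_mem_zpowers.2 ha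
      have h := conj_pow_mod (j := 1) hw hy (by rwa [pow_one]) i
      rwa [one_pow, pow_one] at h
  exact ⟨c, centralizer_le (Set.singleton_subset_iff.2 (mem_zpowers w)) hc, hc'⟩

variable {K P Z : Subgroup G}

omit [Finite G] in
theorem commutator_pow_pow_of_commute {a b : G} (ha : Commute ⁅a, b⁆ a) (hb : Commute ⁅a, b⁆ b)
    (m n : ℕ) : ⁅a ^ m, b ^ n⁆ = ⁅a, b⁆ ^ (m * n) := by
  set H := Subgroup.closure ({a, b} : Set G)
  set a' : H := ⟨a, subset_closure (Set.mem_insert a _)⟩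
  set b' : H := ⟨b, subset_closure (Set.mem_insert_of_mem a rfl)⟩
  have hc : ⁅a', b'⁆ ∈ center H := by
    refine mem_center_iff.2 fun w => Subtype.ext ?_
    suffices h : (w : G) ∈ centralizer ({⁅a, b⁆} : Set G) from mem_centralizer_singleton_iff.1 h
    refine (closure_le _).2 ?_ w.2
    rintro _ (rfl | rfl)
    · exact mem_centralizer_singleton_iff.2 ha.eq.symm
    · exact mem_centralizer_singleton_iff.2 hb.eq.symm
  have h1 : ⁅a' ^ m, b'⁆ ∈ center H := by
    rw [CfsgLib.PGroups.commutator_pow_left_of_central hc]; exact pow_mem hc m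
  have h2 : ⁅a' ^ m, b' ^ n⁆ = ⁅a', b'⁆ ^ (m * n) := by
    rw [CfsgLib.PGroups.commutator_pow_right_of_central h1,
      CfsgLib.PGroups.commutator_pow_left_of_central hc, pow_mul]
  simpa [commutatorElement_def] using congrArg Subtype.val h2

/-- The subgroups of order `p²` over the centre of a group of order `p³` and exponent `p`. -/
theorem card_lines_over (hP : Nat.card P = p ^ 3) (hZP : Z ≤ P) (hZc : Nat.card Z = p)
    (hPZ : P ≤ centralizer (Z : Set G)) (hexp : ∀ a ∈ P, a ^ p = 1) :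
    Nat.card {L : Subgroup G // Z ≤ L ∧ L ≤ P ∧ Nat.card L = p ^ 2} = p + 1 := by
  haveI : (Z.subgroupOf P).Normal :=
    normal_subgroupOf_of_le_normalizer (hPZ.trans (centralizer_le_normalizer _))
  set f := QuotientGroup.mk' (Z.subgroupOf P)
  have hWc : Nat.card (P ⧸ Z.subgroupOf P) = p ^ 2 := by
    have h := card_eq_card_quotient_mul_card_subgroup (Z.subgroupOf P)
    rw [hP, Nat.card_congr (subgroupOfEquivOfLe hZP).toEquiv, hZc, pow_succ] at h
    exact (Nat.eq_of_mul_eq_mul_right hp.out.pos h).symm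
  have hW : IsElementaryAbelian p (⊤ : Subgroup (P ⧸ Z.subgroupOf P)) := by
    refine CfsgLib.Base.isElementaryAbelian_iff.2 ⟨fun a _ b _ =>
      (IsPGroup.isMulCommutative_of_card_eq_prime_sq hWc).is_comm.comm a b, fun a _ => ?_⟩
    induction a using QuotientGroup.induction_on with | _ x => ?_
    rw [← QuotientGroup.mk_pow, show x ^ p = 1 from Subtype.ext (hexp x x.2)]
    rfl
  rw [← CfsgLib.FT.BG12.card_lines hW (by rw [card_top, hWc])]
  have hcard : ∀ X : Subgroup (P ⧸ Z.subgroupOf P),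
      Nat.card ↥((X.comap f).map P.subtype) = Nat.card X * p := fun X => by
    rw [CfsgLib.Base.card_map_subtype]
    have h := card_eq_card_quotient_mul_card_subgroup
      ((Z.subgroupOf P).subgroupOf (X.comap f))
    have hle : Z.subgroupOf P ≤ X.comap f := fun x hx => by
      rw [mem_comap, QuotientGroup.mk'_apply, (QuotientGroup.eq_one_iff x).2 hx]; exact one_mem _
    rw [Nat.card_congr (subgroupOfEquivOfLe hle).toEquiv,
      Nat.card_congr (subgroupOfEquivOfLe hZP).toEquiv, hZc] at h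
    rw [h]
    congr 1
    have hg : Function.Surjective (f.subgroupComap X) :=
      MonoidHom.subgroupComap_surjective_of_surjective f X (QuotientGroup.mk'_surjective _)
    have he := Nat.card_congr (QuotientGroup.quotientKerEquivOfSurjective _ hg).toEquiv
    rw [← he]
    refine Nat.card_congr (QuotientGroup.quotientMulEquivOfEq ?_).toEquiv
    ext x
    rw [MonoidHom.mem_ker, mem_subgroupOf]
    exact ⟨fun hx => Subtype.ext ((QuotientGroup.eq_one_iff _).2 hx),
      fun hx => (QuotientGroup.eq_one_iff _).1 (congrArg Subtype.val hx)⟩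
  refine Nat.card_congr
    { toFun := fun L => ⟨(L.1.subgroupOf P).map f, le_top, ?_⟩
      invFun := fun X => ⟨(X.1.comap f).map P.subtype, ?_, map_subtype_le _, ?_⟩
      left_inv := fun L => Subtype.ext ?_
      right_inv := fun X => Subtype.ext ?_ }
  · have h := hcard ((L.1.subgroupOf P).map f)
    rw [comap_map_eq_self (by rw [QuotientGroup.ker_mk']; exact subgroupOf_mono P L.2.1),
      map_subgroupOf_eq_of_le L.2.2.1] at h
    exact (Nat.eq_of_mul_eq_mul_right hp.out.pos ((pow_two p).symm.trans (L.2.2.2.symm.trans h))).symm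
  · intro z hz
    exact ⟨⟨z, hZP hz⟩, by
      rw [SetLike.mem_coe, mem_comap, QuotientGroup.mk'_apply,
        (QuotientGroup.eq_one_iff (⟨z, hZP hz⟩ : P)).2 (mem_subgroupOf.2 hz)]
      exact one_mem _, rfl⟩
  · rw [hcard, X.2.2, pow_two]
  · show (((L.1.subgroupOf P).map f).comap f).map P.subtype = L.1
    rw [comap_map_eq_self (by rw [QuotientGroup.ker_mk']; exact subgroupOf_mono P L.2.1),
      map_subgroupOf_eq_of_le L.2.2.1]
  · show (((X.1.comap f).map P.subtype).subgroupOf P).map f = X.1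
    rw [show ((X.1.comap f).map P.subtype).subgroupOf P = X.1.comap f from
      comap_map_eq_self_of_injective P.subtype_injective _,
      map_comap_eq_self_of_surjective (QuotientGroup.mk'_surjective _)]

/-- A cyclic group of odd order acting on a non-abelian group of order `p³` and exponent `p`, all
whose nontrivial elements fix exactly the centre, has order dividing `p - 1` or `p + 1`. -/
theorem card_dvd_of_fix_center (hP : Nat.card P = p ^ 3) (hZP : Z ≤ P) (hZc : Nat.card Z = p)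
    (hPZ : P ≤ centralizer (Z : Set G)) (hder : ⁅P, P⁆ ≤ Z) (hna : ¬ IsMulCommutative P)
    (hexp : ∀ a ∈ P, a ^ p = 1) (hKc : IsCyclic K) (hodd : Odd (Nat.card K))
    (hcop : (Nat.card K).Coprime p) (hKP : K ≤ normalizer (P : Set G))
    (hKZ : K ≤ centralizer (Z : Set G))
    (hfix : ∀ k ∈ K, k ≠ 1 → P ⊓ centralizer ({k} : Set G) ≤ Z) :
    Nat.card K ∣ p - 1 ∨ Nat.card K ∣ p + 1 := by
  haveI : Group.IsSolvable Z :=
    haveI := (BG13.isPGroup_of_card_prime hZc).isNilpotent; inferInstance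
  have hnP : P ≤ normalizer (Z : Set G) := hPZ.trans (centralizer_le_normalizer _)
  have hnK : K ≤ normalizer (Z : Set G) := hKZ.trans (centralizer_le_normalizer _)
  -- elements of `K` fixing a coset of `Z` outside `Z` are trivial
  have hcoset : ∀ w ∈ K, ∀ a ∈ P, a⁻¹ * (w * a * w⁻¹) ∈ Z → a ∉ Z → w = 1 := by
    intro w hw a ha h haZ
    by_contra hw1
    obtain ⟨c, hc, hc'⟩ := exists_fixed_in_coset (hnK hw) (hnP ha)
      (hZc ▸ hcop.coprime_dvd_left (Subgroup.orderOf_dvd_natCard K hw)) h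
    have hcP : c ∈ P := (P.mul_mem_cancel_left (inv_mem ha)).1 (hZP hc')
    have hcZ : c ∈ Z := hfix w hw hw1 (mem_inf.2 ⟨hcP, hc⟩)
    exact haZ (inv_mem_iff.1 ((Z.mul_mem_cancel_right hcZ).1 hc'))
  -- the action on a line
  have hline : ∀ L : Subgroup G, Z ≤ L → L ≤ P → Nat.card L = p ^ 2 → ∀ w : G,
      w ∈ normalizer (L : Set G) → ∀ a ∈ L, a ∉ Z →
      ∃ j : ℕ, (a ^ j)⁻¹ * (w * a * w⁻¹) ∈ Z := by
    intro L hZL hLP hLc w hw a ha haZ
    have hLa : Z ⊔ zpowers a = L := by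
      refine eq_of_le_of_card_ge (sup_le hZL (zpowers_le.2 ha)) ?_
      have hlt : Z < Z ⊔ zpowers a := left_lt_sup.2 fun h => haZ (h (mem_zpowers a))
      have hd : Nat.card ↥(Z ⊔ zpowers a) ∣ p ^ 2 := hLc ▸ card_dvd_of_le (sup_le hZL (zpowers_le.2 ha))
      obtain ⟨i, hi, he⟩ := (Nat.dvd_prime_pow hp.out).1 hd
      have h1 := card_lt_of_lt hlt
      rw [hZc, he] at h1
      have h2 : 1 < i := (Nat.pow_lt_pow_iff_right hp.out.one_lt).1 (by rwa [pow_one])
      rw [hLc, he]
      exact Nat.pow_le_pow_right hp.out.pos h2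
    have h1 : w * a * w⁻¹ ∈ Z ⊔ zpowers a := hLa ▸ (mem_normalizer_iff.1 hw a).1 ha
    rw [sup_comm, CfsgLib.Coprime.mem_sup_iff_of_le_normalizer
      (zpowers_le.2 (hnP (hLP ha)))] at h1
    obtain ⟨b, hb, c, hc, he⟩ := h1
    obtain ⟨j, rfl⟩ : b ∈ Submonoid.powers a :=
      (isOfFinOrder_of_finite a).mem_powers_iff_mem_zpowers.2 hb
    exact ⟨j, by rw [← he, inv_mul_cancel_left]; exact hc⟩
  obtain ⟨⟨e, heK⟩, heg⟩ := hKc.exists_generator
  have heord : orderOf e = Nat.card K := by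
    rw [← orderOf_eq_card_of_forall_mem_zpowers heg, Subgroup.orderOf_mk]
  set Ln := {L : Subgroup G // Z ≤ L ∧ L ≤ P ∧ Nat.card L = p ^ 2}
  have hex : ∀ L : Ln, ∃ a ∈ L.1, a ∉ Z := fun L => SetLike.not_le_iff_exists.1 fun h => by
    have h1 := Nat.le_of_dvd Nat.card_pos (card_dvd_of_le h)
    rw [L.2.2.2, hZc, sq] at h1
    have := hp.out.two_le
    nlinarith
  by_cases hfixed : ∃ L : Ln, e ∈ normalizer (L.1 : Set G)
  · left
    obtain ⟨L, hL⟩ := hfixed
    obtain ⟨a, ha, haZ⟩ := hex L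
    obtain ⟨j, hj⟩ := hline L.1 L.2.1 L.2.2.1 L.2.2.2 e hL a ha haZ
    rw [← heord]
    exact orderOf_dvd_of_pow_eq_one (hcoset _ (pow_mem heK _) a (L.2.2.1 ha)
      (pow_pred_fix (hnK heK) (hnP (L.2.2.1 ha)) hj ((hexp a (L.2.2.1 ha)).symm ▸ one_mem Z) haZ) haZ)
  · right
    letI : MulAction K Ln :=
      { smul := fun g L => ⟨cj (g : G) L.1,
          (mem_normalizer_iff_cj.1 (hnK g.2)).ge.trans (cj_mono L.2.1),
          (cj_mono L.2.2.1).trans (mem_normalizer_iff_cj.1 (hKP g.2)).le,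
          (card_cj _ _).trans L.2.2.2⟩
        one_smul := fun L => Subtype.ext (cj_one L.1)
        mul_smul := fun g h L => Subtype.ext (cj_mul (g : G) (h : G) L.1) }
    have hstab : ∀ L : Ln, MulAction.stabilizer K L = ⊥ := by
      intro L
      refine eq_bot_iff.2 fun ⟨w, hwK⟩ hw => mem_bot.2 (Subtype.ext ?_)
      show w = 1
      have hwL : w ∈ normalizer (L.1 : Set G) :=
        mem_normalizer_iff_cj.2 (congrArg Subtype.val (MulAction.mem_stabilizer_iff.1 hw))
      by_contra hw1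
      have hL' : cj e L.1 ≠ L.1 := fun h => hfixed ⟨L, mem_normalizer_iff_cj.2 h⟩
      obtain ⟨a, ha, haZ⟩ := hex L
      obtain ⟨j, hj⟩ := hline L.1 L.2.1 L.2.2.1 L.2.2.2 w hwL a ha haZ
      set b := e * a * e⁻¹ with hb
      have hbL : b ∈ cj e L.1 := conj_mem_cj.2 ha
      have hwe : e * w = w * e := congrArg Subtype.val
        ((letI := IsCyclic.commGroup (α := K); mul_comm (⟨e, heK⟩ : K) ⟨w, hwK⟩) :
          (⟨e, heK⟩ : K) * ⟨w, hwK⟩ = _)
      have hjb : (b ^ j)⁻¹ * (w * b * w⁻¹) ∈ Z := by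
        have h := (mem_normalizer_iff.1 (hnK heK) _).1 hj
        have hwe' : w * e = e * w := hwe.symm
        have e1 : w * b * w⁻¹ = e * (w * a * w⁻¹) * e⁻¹ := by
          rw [hb]
          calc w * (e * a * e⁻¹) * w⁻¹ = (w * e) * a * (w * e)⁻¹ := by group
            _ = e * (w * a * w⁻¹) * e⁻¹ := by rw [hwe']; group
        rw [e1, hb, conj_pow]
        convert h using 1
        group
      have haP := L.2.2.1 ha
      have hbP : b ∈ P := (mem_normalizer_iff.1 (hKP heK) a).1 haP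
      have hcZ : ⁅a, b⁆ ∈ Z := hder (commutator_mem_commutator haP hbP)
      have hcomm : ∀ u ∈ Z, ∀ v ∈ P, Commute u v := fun u hu v hv =>
        mem_centralizer_iff.1 (hPZ hv) u hu
      have hc1 : ⁅a, b⁆ ≠ 1 := by
        intro h
        have hab : Commute a b := commutatorElement_eq_one_iff_commute.1 h
        have hgen : L.1 ⊔ cj e L.1 = P := by
          have hle : L.1 ⊔ cj e L.1 ≤ P :=
            sup_le L.2.2.1 ((cj_mono L.2.2.1).trans (mem_normalizer_iff_cj.1 (hKP heK)).le)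
          refine eq_of_le_of_card_ge hle ?_
          have hlt : L.1 < L.1 ⊔ cj e L.1 := left_lt_sup.2 fun h' =>
            hL' (eq_of_le_of_card_ge h' (card_cj e _).ge)
          obtain ⟨i, hi, he⟩ := (Nat.dvd_prime_pow hp.out).1 (hP ▸ card_dvd_of_le hle)
          have h1 := card_lt_of_lt hlt
          rw [L.2.2.2, he] at h1
          have h2 : 2 < i := (Nat.pow_lt_pow_iff_right hp.out.one_lt).1 h1
          rw [hP, he]
          exact Nat.pow_le_pow_right hp.out.pos h2
        -- the generators commute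
        have hLgen : ∀ L' : Subgroup G, Z ≤ L' → L' ≤ P → Nat.card L' = p ^ 2 → ∀ c ∈ L', c ∉ Z →
            ∀ v : G, Commute v c → (∀ u ∈ Z, Commute v u) → L' ≤ centralizer ({v} : Set G) := by
          intro L' hZL hLP hLc c hc hcnZ v hvc hvZ u hu
          by_contra hu'
          have hlt : Z ⊔ zpowers c < L' := by
            refine lt_of_le_of_ne (sup_le hZL (zpowers_le.2 hc)) fun h => hu' ?_
            exact (sup_le (fun z hz => mem_centralizer_singleton_iff.2 (hvZ z hz).symm.eq)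
              (zpowers_le.2 (mem_centralizer_singleton_iff.2 hvc.symm.eq)) :
                Z ⊔ zpowers c ≤ centralizer ({v} : Set G)) (h.symm.le hu)
          have hlt2 : Z < Z ⊔ zpowers c := left_lt_sup.2 fun h => hcnZ (h (mem_zpowers c))
          have h1 := card_lt_of_lt hlt
          have h2 := card_lt_of_lt hlt2
          obtain ⟨i, hi, he⟩ := (Nat.dvd_prime_pow hp.out).1 (hLc ▸ card_dvd_of_le hlt.le)
          rw [he, hLc] at h1
          rw [he, hZc] at h2
          have := (Nat.pow_lt_pow_iff_right hp.out.one_lt).1 h1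
          have := (Nat.pow_lt_pow_iff_right hp.out.one_lt).1 (by rwa [pow_one] : p ^ 1 < p ^ i)
          omega
        have hbZ : b ∉ Z := fun h' => haZ ((mem_normalizer_iff.1 (hnK heK) a).2 h')
        have hZL' : Z ≤ cj e L.1 :=
          (mem_normalizer_iff_cj.1 (hnK heK)).ge.trans (cj_mono L.2.1)
        have hL'P : cj e L.1 ≤ P := le_sup_right.trans hgen.le
        have ha' : P ≤ centralizer ({a} : Set G) := hgen.symm.le.trans (sup_le
          (hLgen _ L.2.1 L.2.2.1 L.2.2.2 a ha haZ a rfl fun u hu => (hcomm u hu a haP).symm)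
          (hLgen _ hZL' hL'P ((card_cj _ _).trans L.2.2.2) b hbL hbZ a hab
            fun u hu => (hcomm u hu a haP).symm))
        have hb' : P ≤ centralizer ({b} : Set G) := hgen.symm.le.trans (sup_le
          (hLgen _ L.2.1 L.2.2.1 L.2.2.2 a ha haZ b hab.symm fun u hu => (hcomm u hu b hbP).symm)
          (hLgen _ hZL' hL'P ((card_cj _ _).trans L.2.2.2) b hbL hbZ b rfl
            fun u hu => (hcomm u hu b hbP).symm))
        refine hna ⟨⟨fun u v => Subtype.ext ?_⟩⟩
        suffices hPu : P ≤ centralizer ({(u : G)} : Set G) from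
          (mem_centralizer_singleton_iff.1 (hPu v.2)).symm
        exact hgen.symm.le.trans (sup_le
          (hLgen _ L.2.1 L.2.2.1 L.2.2.2 a ha haZ u (mem_centralizer_singleton_iff.1 (ha' u.2))
            fun w hw => (hcomm w hw u u.2).symm)
          (hLgen _ hZL' hL'P ((card_cj _ _).trans L.2.2.2) b hbL hbZ u
            (mem_centralizer_singleton_iff.1 (hb' u.2)) fun w hw => (hcomm w hw u u.2).symm))
      -- `w` fixes the commutator
      have hca : Commute ⁅a, b⁆ a := hcomm _ hcZ a haP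
      have hcb : Commute ⁅a, b⁆ b := hcomm _ hcZ b hbP
      have hwc : w * ⁅a, b⁆ * w⁻¹ = ⁅a, b⁆ :=
        mul_inv_eq_iff_eq_mul.2 (mem_centralizer_iff.1 (hKZ hwK) _ hcZ).symm
      have hconj : w * ⁅a, b⁆ * w⁻¹ = ⁅w * a * w⁻¹, w * b * w⁻¹⁆ := by
        simp only [commutatorElement_def]; group
      obtain ⟨u, hu, hau⟩ : ∃ u ∈ Z, w * a * w⁻¹ = a ^ j * u := ⟨_, hj, by group⟩
      obtain ⟨v, hv, hbv⟩ : ∃ v ∈ Z, w * b * w⁻¹ = b ^ j * v := ⟨_, hjb, by group⟩
      have hsame : ⁅a ^ j * u, b ^ j * v⁆ = ⁅a ^ j, b ^ j⁆ := by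
        have h1 := (hcomm u hu _ (pow_mem hbP j)).eq
        have h2 := (hcomm v hv _ (pow_mem haP j)).eq
        have h3 := (hcomm u hu v (hZP hv)).eq
        simp only [commutatorElement_def]
        calc a ^ j * u * (b ^ j * v) * (a ^ j * u)⁻¹ * (b ^ j * v)⁻¹
            = a ^ j * ((u * b ^ j) * v * u⁻¹) * (a ^ j)⁻¹ * v⁻¹ * (b ^ j)⁻¹ := by group
          _ = a ^ j * (b ^ j * (u * v) * u⁻¹) * (a ^ j)⁻¹ * v⁻¹ * (b ^ j)⁻¹ := by rw [h1]; group
          _ = a ^ j * b ^ j * (v * (a ^ j)⁻¹) * v⁻¹ * (b ^ j)⁻¹ := by rw [h3]; group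
          _ = a ^ j * b ^ j * (a ^ j)⁻¹ * (b ^ j)⁻¹ := by
              rw [((hcomm v hv _ (inv_mem (pow_mem haP j)))).eq]; group
      have hord : orderOf ⁅a, b⁆ = p := orderOf_eq_prime
        (hexp _ (hZP hcZ)) hc1
      have hjj : ⁅a, b⁆ ^ (j * j) = ⁅a, b⁆ ^ 1 := by
        rw [pow_one]
        conv_rhs => rw [← hwc, hconj, hau, hbv, hsame, commutator_pow_pow_of_commute hca hcb]
      rw [pow_eq_pow_iff_modEq, hord] at hjj
      have h2 := conj_pow_mod (hnK hwK) (hnP haP) hj 2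
      have hap : a ^ j ^ 2 = a := by
        conv_rhs => rw [← pow_one a]
        rw [pow_eq_pow_iff_modEq, sq]
        exact hjj.of_dvd (orderOf_dvd_of_pow_eq_one (hexp a haP))
      rw [hap] at h2
      have hw2 : w ^ 2 = 1 := hcoset _ (pow_mem hwK 2) a haP h2 haZ
      have hwd : orderOf w ∣ 2 := orderOf_dvd_of_pow_eq_one hw2
      have hwodd : Odd (orderOf w) := hodd.of_dvd_nat (Subgroup.orderOf_dvd_natCard K hwK)
      rcases (Nat.dvd_prime Nat.prime_two).1 hwd with h' | h'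
      · exact hw1 (orderOf_eq_one_iff.1 h')
      · rw [h'] at hwodd; exact absurd hwodd (by decide)
    have hcard := card_lines_over hP hZP hZc hPZ hexp
    have h := Nat.card_congr (MulAction.selfEquivSigmaOrbitsQuotientStabilizer K Ln)
    rw [hcard] at h
    haveI : Fintype (MulAction.orbitRel.Quotient K Ln) := Fintype.ofFinite _
    rw [Nat.card_sigma] at h
    rw [h]
    refine Finset.dvd_sum fun ω _ => ?_
    rw [← Subgroup.index_eq_card, hstab, index_bot]

end CfsgLib.FT.BG15
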