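import Cfsg.Agent.Lib.FT.BG15.Fitting
import Cfsg.Agent.Lib.OddOrder.NarrowAction

/-!
Maximal subgroups whose Fitting subgroup is not a TI-subset (BG 15.7): position of the intersection
`F(M) ∩ F(M)^g`, the centralisers of its elements.
-/

set_option autoImplicit false
set_option linter.style.haveILetI false

universe u

open Cfsg CfsgLib.OddOrder CfsgLib.Techniques Subgroup
open scoped commutatorElement

namespace CfsgLib.FT.BG15

variable {G : Type u} [Group G] [Finite G]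

/-- `F(M) ∩ F(M)^g`. -/
abbrev fitMeet (M : Subgroup G) (g : G) : Subgroup G := fittingOf M ⊓ cj g (fittingOf M)

/-- `O_p(H)`. -/
abbrev hallPart (p : ℕ) (H : Subgroup G) : Subgroup G := piCoreOf {p} H

/-- `O_{p'}(H)`. -/
abbrev hallCompl (p : ℕ) (H : Subgroup G) : Subgroup G := piCoreOf {q | q.Prime ∧ q ≠ p} H

omit [Finite G] in
theorem orderOf_conj' (g x : G) : orderOf (g⁻¹ * x * g) = orderOf x := by
  have h := (MulAut.conj g⁻¹).orderOf_eq x
  rwa [MulAut.conj_apply, inv_inv] at h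

omit [Finite G] in
theorem cj_zpowers (g y : G) : cj g (zpowers y) = zpowers (g * y * g⁻¹) :=
  (MonoidHom.map_zpowers _ y).trans (by simp)

theorem isPGroup_hallPart {p : ℕ} [hp : Fact p.Prime] (H : Subgroup G) :
    IsPGroup p (hallPart p H) := by
  refine IsPGroup.iff_card.2 ⟨(Nat.card ↥(hallPart p H)).primeFactorsList.length,
    Nat.eq_prime_pow_of_unique_prime_dvd Nat.card_pos.ne' fun {d} hd hdd => ?_⟩
  exact piCoreOf_primes {p} H d hd hdd

theorem exists_hallPart_mul {p : ℕ} {H : Subgroup G} (hH : Group.IsNilpotent H) {h : G}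
    (hh : h ∈ H) : ∃ a ∈ hallPart p H, ∃ b ∈ hallCompl p H, h = a * b := by
  obtain ⟨a, b, ha, hb, rfl, hap, hbp⟩ := exists_pi_split {p} h
  exact ⟨a, mem_piCoreOf_nilpotent hH (zpowers_le.2 hh ha) hap, b,
    mem_piCoreOf_nilpotent hH (zpowers_le.2 hh hb) fun q hq hd => ⟨hq, fun e => hbp q hq hd e⟩, rfl⟩

/-- `O_p(H)` and `O_{p'}(H)` commute. -/
theorem commute_hallPart {p : ℕ} {H : Subgroup G} (hH : Group.IsNilpotent H) {a b : G}
    (ha : a ∈ hallPart p H) (hb : b ∈ hallCompl p H) : Commute a b :=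
  commute_of_isNilpotent hH (piCoreOf_le _ _ ha) (piCoreOf_le _ _ hb)
    (Nat.coprime_of_dvd fun r hr h1 h2 =>
      (piCoreOf_primes {q | q.Prime ∧ q ≠ p} H r hr
          (h2.trans (Subgroup.orderOf_dvd_natCard _ hb))).2
        (piCoreOf_primes {p} H r hr (h1.trans (Subgroup.orderOf_dvd_natCard _ ha))))

theorem le_of_parts {p : ℕ} {H C : Subgroup G} (hH : Group.IsNilpotent H)
    (h1 : hallPart p H ≤ C) (h2 : hallCompl p H ≤ C) : H ≤ C := fun h hh => by
  obtain ⟨a, ha, b, hb, rfl⟩ := exists_hallPart_mul (p := p) hH hh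
  exact mul_mem (h1 ha) (h2 hb)

/-- The `p`-elements of `H` centralise `O_{p'}(H)`. -/
theorem hallCompl_le_centralizer {p : ℕ} {H : Subgroup G} (hH : Group.IsNilpotent H) {x : G}
    (hx : x ∈ H) (hxp : ∀ q : ℕ, q.Prime → q ∣ orderOf x → q = p) :
    hallCompl p H ≤ centralizer ({x} : Set G) := fun _ hb =>
  mem_centralizer_singleton_iff.2
    (commute_hallPart hH (mem_piCoreOf_nilpotent hH hx hxp) hb).symm.eq

omit [Finite G] in
/-- `O_p` of a normal nilpotent subgroup is normal. -/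
theorem le_normalizer_hallPart {M H : Subgroup G} (π : Set ℕ) (hn : M ≤ normalizer (H : Set G)) :
    M ≤ normalizer (piCoreOf π H : Set G) :=
  hn.trans (CfsgLib.Base.normalizer_le_normalizer_map_subtype _ _)

/-- A cyclic normal subgroup of `M` forces the conjugates inside it to come from `M`. -/
theorem mem_of_cyclic (hG : IsMinSimpleOddOrder G) {M C : Subgroup G} (hM : IsCoatom M)
    (hCM : C ≤ M) (hC : IsCyclic C) (hn : M ≤ normalizer (C : Set G)) {x g : G} (hx : x ∈ C)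
    (hx1 : x ≠ 1) (hgx : g⁻¹ * x * g ∈ C) : g ∈ M := by
  haveI := hC
  have he : zpowers (g⁻¹ * x * g) = zpowers x :=
    eq_of_card_eq_of_isCyclic (zpowers_le.2 hgx) (zpowers_le.2 hx)
      (by rw [Nat.card_zpowers, Nat.card_zpowers, orderOf_conj'])
  have hxn := normalizer_eq_maximal hG hM ((zpowers_le.2 hx).trans hCM) (zpowers_ne_bot.2 hx1)
    (BG13.le_normalizer_of_isCyclic hC (zpowers_le.2 hx) hn)
  rw [← hxn]
  refine mem_normalizer_iff_cj.2 ?_
  conv_lhs => rw [← he]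
  rw [cj_zpowers]
  congr 1
  group

variable (hU : Upstream.{u}) (hG : IsMinSimpleOddOrder G) {M : Subgroup G} (hM : IsCoatom M)
variable {g : G} (hg : g ∉ M)

include hU hG hM hg in
theorem prime_mem_sigma {x : G} (hx : x ∈ fitMeet M g) {p : ℕ} (hp : p.Prime)
    (hxp : orderOf x = p) : p ∈ sigma M := by
  by_contra hσ
  obtain ⟨hxF, hxg⟩ := mem_inf.1 hx
  rw [mem_cj] at hxg
  have key : ∀ y ∈ fittingOf M, orderOf y = p →
      y ∈ piCoreOf {q | q.Prime ∧ q ∉ sigma M} (fittingOf M) := fun y hy hyp =>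
    mem_piCoreOf_nilpotent (isNilpotent_fittingOf M) hy fun q hq hd =>
      ⟨hq, by rw [(Nat.prime_dvd_prime_iff_eq hq hp).1 (hyp ▸ hd)]; exact hσ⟩
  refine hg (mem_of_cyclic hG hM ((piCoreOf_le _ _).trans (fittingOf_le M))
    (fitting_sigma_compl hU hG hM).1 (le_normalizer_hallPart _ (le_normalizer_fittingOf M))
    (key x hxF hxp) (fun e => hp.one_lt.ne (by rw [← hxp, e, orderOf_one]))
    (key _ hxg (by rw [orderOf_conj', hxp])))

include hU hG hM hg in
theorem fitMeet_le_sigmaCore : fitMeet M g ≤ sigmaCore M := fun z hz =>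
  BG13.mem_sigmaCore_of_orderOf hU.bg13 hG hM (fittingOf_le M (mem_inf.1 hz).1) fun _ hq hd =>
    prime_mem_sigma hU hG hM hg (pow_mem hz _) hq
      (orderOf_pow_orderOf_div (orderOf_pos z).ne' hd)

include hU hG hM hg in
theorem fitMeet_cyclic : IsCyclic ↥(fitMeet M g) ∧
    (∀ p : ℕ, p.Prime → p ∣ Nat.card ↥(fitMeet M g) → p ∉ beta M) ∧
      fitMeet M g ⊓ ⁅sigmaCore M, sigmaCore M⁆ = ⊥ := by
  obtain ⟨E, hE⟩ := BG13.exists_compl hU.bg13 hG hM
  obtain ⟨h1, h2, h3⟩ := (hU.bg13.s1426 hG M hM E hE).2.2 g hg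
  have hle : fitMeet M g ≤ sigmaCore M ⊓ M.map (MulAut.conj g).toMonoidHom :=
    le_inf (fitMeet_le_sigmaCore hU hG hM hg) (inf_le_right.trans (cj_mono (fittingOf_le M)))
  haveI := h1
  exact ⟨isCyclic_of_injective (inclusion hle) (inclusion_injective _),
    fun p hp hd => h2 p hp (hd.trans (card_dvd_of_le hle)),
    le_bot_iff.1 ((inf_le_inf_right _ hle).trans h3.le)⟩

variable (hne : fitMeet M g ≠ ⊥)

include hne in
theorem exists_prime_mem_fitMeet : ∃ (p : ℕ) (x : G), p.Prime ∧ x ∈ fitMeet M g ∧ orderOf x = p := by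
  obtain ⟨⟨z, hz⟩, hz1⟩ := (fitMeet M g).ne_bot_iff_exists_ne_one.1 hne
  obtain ⟨p, n, hp, -, hn⟩ := exists_pow_prime (x := z) fun e => hz1 (Subtype.ext e)
  exact ⟨p, z ^ n, hp, pow_mem hz n, hn⟩

include hU hG hM hg hne in
/-- If `F(M)` is not TI then `M_F = M_σ`. -/
theorem fittingHallOf_eq_of_meet : fittingHallOf M = sigmaCore M := by
  by_contra h
  obtain ⟨K, U, q, Q, hD, hQ⟩ := exists_fcore hU hG hM h
  obtain ⟨p, x, hp, hx, hxp⟩ := exists_prime_mem_fitMeet hne
  have hQF : Q ≤ fittingOf M := hQ.le_fittingHall.trans (fittingHallOf_le_fittingOf M)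
  haveI := Fact.mk hQ.hq
  have hpq : p ≠ q := fun e => (fitMeet_cyclic hU hG hM hg).2.1 p hp
    (hxp ▸ Subgroup.orderOf_dvd_natCard _ hx) (e ▸ hQ.mem_beta)
  have hcomm : ∀ z ∈ fittingOf M, orderOf z = p → Q ≤ centralizer ({z} : Set G) := fun z hz hzp a ha =>
    mem_centralizer_singleton_iff.2 (commute_of_isNilpotent (isNilpotent_fittingOf M) (hQF ha) hz (by
      obtain ⟨i, hi⟩ := IsPGroup.iff_card.1 hQ.pgroup
      rw [hzp]
      exact (((Nat.coprime_primes hQ.hq hp).2 hpq.symm).pow_left i).coprime_dvd_left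
        (hi ▸ Subgroup.orderOf_dvd_natCard Q ha))).eq
  obtain ⟨hxF, hxg⟩ := mem_inf.1 hx
  rw [mem_cj] at hxg
  have hx1 : x ≠ 1 := fun e => hp.one_lt.ne (by rw [← hxp, e, orderOf_one])
  have h1 : Q ≤ centralizer ({x} : Set G) := hcomm x hxF hxp
  have h2 : cj g Q ≤ centralizer ({x} : Set G) := by
    refine cj_le_iff.2 fun a ha => mem_centralizer_singleton_iff.2 ?_
    have h := mem_centralizer_singleton_iff.1 (hcomm _ hxg (by rw [orderOf_conj', hxp]) ha)
    calc g * a * g⁻¹ * x = g * (a * (g⁻¹ * x * g)) * g⁻¹ := by group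
      _ = g * ((g⁻¹ * x * g) * a) * g⁻¹ := by rw [h]
      _ = x * (g * a * g⁻¹) := by group
  have hK1 : K ≠ ⊥ := fun e => Nat.not_prime_one (by
    have := hQ.K_prime; rwa [e, card_bot] at this)
  obtain ⟨S, hS⟩ := exists_sylow_of_sylIn (⟨hQ.le, hQ.pgroup, hQ.hall⟩ : SylIn q Q (sigmaCore M))
  obtain ⟨hu, hQM, -⟩ := (hU.s1431 hG M hM K hD.hall hK1).2.2.1 q hQ.hq
    (dvd_of_eq hQ.cstar_card.symm) S
  rw [hS] at hu hQM
  have hQg : cj g Q ≤ M :=
    h2.trans (le_of_inUniqueMaximal hu hM hQM h1 (minSimple_centralizer_singleton_ne_top hG hx1))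
  have he : cj g⁻¹ M = M := eq_of_inUniqueMaximal hu hM hQM (isCoatom_cj hM g⁻¹)
    (cj_inv_cj g Q ▸ cj_mono hQg)
  exact hg (inv_mem_iff.1 (mem_maximal_of_cj_eq hG hM he))

include hU hG hM hg hne in
theorem isNilpotent_sigmaCore_of_meet : Group.IsNilpotent (sigmaCore M) :=
  (fittingHallOf_eq_iff hU hG hM).1 (fittingHallOf_eq_of_meet hU hG hM hg hne)

include hU hG hM hg hne in
theorem sigmaCore_le_fittingOf : sigmaCore M ≤ fittingOf M :=
  fittingHallOf_eq_of_meet hU hG hM hg hne ▸ fittingHallOf_le_fittingOf M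

/-- The maximal subgroup over the centraliser of an element of prime order of `F(M) ∩ F(M)^g`. -/
structure MeetData (M : Subgroup G) (p : ℕ) (x : G) (N : Subgroup G) : Prop where
  hp : p.Prime
  order : orderOf x = p
  mem : x ∈ sigmaCore M
  p_sigma : p ∈ sigma M
  not_le : ¬ centralizer ({x} : Set G) ≤ M
  max : IsCoatom N
  le : centralizer ({x} : Set G) ≤ N
  sigma_disjoint : ∀ q, q ∈ sigma M → q ∉ sigma N
  tau2 : p ∈ tau2 N
  compl : IsComplIn (M ⊓ N) (sigmaCore N) N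

omit hne in
include hU hG hM hg in
theorem exists_meetData {p : ℕ} {x : G} (hp : p.Prime) (hx : x ∈ fitMeet M g)
    (hxp : orderOf x = p) : ∃ N, MeetData M p x N := by
  have hpσ := prime_mem_sigma hU hG hM hg hx hp hxp
  have hxS := fitMeet_le_sigmaCore hU hG hM hg hx
  have hgxF : g⁻¹ * x * g ∈ fittingOf M := mem_cj.1 (mem_inf.1 hx).2
  have hx1 : x ≠ 1 := fun e => hp.one_lt.ne (by rw [← hxp, e, orderOf_one])
  have hgxS : g⁻¹ * x * g ∈ sigmaCore M := by
    refine BG13.mem_sigmaCore_of_orderOf hU.bg13 hG hM (fittingOf_le M hgxF) fun q hq hd => ?_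
    rw [orderOf_conj', hxp] at hd
    exact (Nat.prime_dvd_prime_iff_eq hq hp).1 hd ▸ hpσ
  have hnot : ¬ centralizer ({x} : Set G) ≤ M := by
    intro hC
    obtain ⟨m, hm, he⟩ := fusion_sigmaCore hU hG hM (x := x) (g := g⁻¹) hxS (by rwa [inv_inv])
    rw [inv_inv] at he
    have h1 : g * m ∈ centralizer ({x} : Set G) := mem_centralizer_singleton_iff.2 (by
      calc g * m * x = g * (m * x * m⁻¹) * m := by group
        _ = x * (g * m) := by rw [he]; group)
    exact hg (by simpa using mul_mem (hC h1) (inv_mem hm))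
  obtain ⟨N, ⟨hN, hle⟩, -, -, -, hc1, hc2, hA⟩ := hU.s1375 hG M hM x hxS hx1 hnot
  obtain ⟨K', U', hD'⟩ := exists_decomposition hU hG hN
  obtain ⟨-, hxA, hxN⟩ := hA K' U' hD'
  have hxC : x ∈ centralizer ({x} : Set G) := mem_centralizer_singleton_iff.2 rfl
  have hxxN : x ∈ N := hle hxC
  have hord : ∀ q : ℕ, q.Prime → q ∣ orderOf x → q = p := fun q hq hd =>
    (Nat.prime_dvd_prime_iff_eq hq hp).1 (hxp ▸ hd)
  have hpN : p ∉ sigma N := fun h => hxN
    (BG13.mem_sigmaCore_of_orderOf hU.bg13 hG hN hxxN fun q hq hd => hord q hq hd ▸ h)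
  have hdis : ∀ q, q ∈ sigma M → q ∉ sigma N := fun q hqM hqN => by
    obtain ⟨c, hc⟩ := hU.sigmaDisjoint hG M N hM hN ⟨q, hqM, hqN⟩
    rw [show N = cj c M from hc, BG13.sigma_cj] at hpN
    exact hpN hpσ
  -- a fixed point of `x` on `N_σ`
  obtain ⟨⟨y, hy⟩, hy1⟩ : ∃ y : ↥(sigmaCore N ⊓ centralizer ({x} : Set G)), y ≠ 1 := by
    refine ne_bot_iff_exists_ne_one.1 fun e => hnot fun z hz => ?_
    obtain ⟨a, ha, b, hb, rfl⟩ := hc1.2.2.2 z hz
    rw [mem_bot.1 (e.le hb), mul_one]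
    exact (mem_inf.1 ha).1
  have hy1' : y ≠ 1 := fun e => hy1 (Subtype.ext e)
  have hxy : x ∈ N ⊓ centralizer ({y} : Set G) := mem_inf.2 ⟨hxxN,
    mem_centralizer_singleton_iff.2 (mem_centralizer_singleton_iff.1 (mem_inf.1 hy).2).symm⟩
  have hτ : p ∈ tau2 N := by
    rcases hU.s1432 hG N hN y (mem_inf.1 hy).1 hy1' x hxy hx1
      (fun q hq hd => hord q hq hd ▸ hpN) with ⟨h1, -⟩ | ⟨h1, -⟩
    · refine absurd (h1 p hp (hxp ▸ dvd_rfl)) (U_sup_sigmaCore_primes hU hG hN hD' hp ?_)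
      exact hxp ▸ Subgroup.orderOf_dvd_natCard _ hxA.2
    · exact h1 p hp (hxp ▸ dvd_rfl)
  exact ⟨N, ⟨hp, hxp, hxS, hpσ, hnot, hN, hle, hdis, hτ, hc2⟩⟩

variable {p : ℕ} {x : G} {N : Subgroup G}

include hU hG in
/-- Inside `N` the `σ(M)`-parts have rank at most two. -/
theorem MeetData.pRankLE_two (d : MeetData M p x N) {X : Subgroup G} (hX : X ≤ N) {r : ℕ}
    [Fact r.Prime] (hr : r ∈ sigma M) : PRankLE r 2 X :=
  CfsgLib.Base.pRankLE_of_injective (inclusion hX) (inclusion_injective hX)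
    (pRankLE_two_of_not_sigma hU.bg13.s1403 hG d.max (d.sigma_disjoint r hr))

include hU hG hM in
/-- Nilpotent subgroups of `M_σ` inside `N` are abelian. -/
theorem MeetData.comm_of_le (d : MeetData M p x N) {X : Subgroup G} (hXS : X ≤ sigmaCore M)
    (hXN : X ≤ N) (hX : Group.IsNilpotent X) : IsMulCommutative X :=
  (hU.bg13.s1420 hG N d.max (M ⊓ N) d.compl).1 X hXN hX fun q hq hd =>
    d.sigma_disjoint q ((sigmaCore_hallOf hU hG hM).2.1 q hq (hd.trans (card_dvd_of_le hXS)))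

omit [Finite G] in
theorem MeetData.prime_eq (d : MeetData M p x N) {q : ℕ} (hq : q.Prime) (hd : q ∣ orderOf x) :
    q = p :=
  (Nat.prime_dvd_prime_iff_eq hq d.hp).1 (d.order ▸ hd)

theorem MeetData.hallCompl_le (d : MeetData M p x N) (hn : Group.IsNilpotent (sigmaCore M)) :
    hallCompl p (sigmaCore M) ≤ N :=
  (hallCompl_le_centralizer hn d.mem fun _ hq hd => d.prime_eq hq hd).trans d.le

include hU hG hM in
theorem MeetData.hallCompl_comm (d : MeetData M p x N) (hn : Group.IsNilpotent (sigmaCore M)) :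
    IsMulCommutative ↥(hallCompl p (sigmaCore M)) :=
  d.comm_of_le hU hG hM (piCoreOf_le _ _) (d.hallCompl_le hn)
    (CfsgLib.Base.isNilpotent_of_le (piCoreOf_le _ _) hn)

include hU hG hM hg hne in
/-- If `O_p(M_σ)` is abelian, so is `M_σ`, of rank exactly two. -/
theorem comm_of_hallPart_comm (d : MeetData M p x N) (hx : x ∈ fitMeet M g)
    (hP : IsMulCommutative ↥(hallPart p (sigmaCore M))) :
    IsMulCommutative (sigmaCore M) ∧ RankLE 2 (sigmaCore M) ∧ ¬ RankLE 1 (sigmaCore M) := by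
  have hn := isNilpotent_sigmaCore_of_meet hU hG hM hg hne
  have hxP : x ∈ hallPart p (sigmaCore M) :=
    mem_piCoreOf_nilpotent hn d.mem fun _ hq hd => d.prime_eq hq hd
  have hSC : sigmaCore M ≤ centralizer ({x} : Set G) := le_of_parts hn
    (fun a ha => mem_centralizer_singleton_iff.2
      (congrArg Subtype.val (hP.is_comm.comm ⟨a, ha⟩ ⟨x, hxP⟩) :))
    (hallCompl_le_centralizer hn d.mem fun _ hq hd => d.prime_eq hq hd)
  have hc := d.comm_of_le hU hG hM le_rfl (hSC.trans d.le) hn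
  refine ⟨hc, fun r hr => ?_, fun h1 => ?_⟩
  · haveI := Fact.mk hr
    by_cases hσ : r ∈ sigma M
    · exact d.pRankLE_two hU hG (hSC.trans d.le) hσ
    · exact CfsgLib.Base.pRankLE_of_injective (inclusion (sigmaCore_le M)) (inclusion_injective _)
        (pRankLE_two_of_not_sigma hU.bg13.s1403 hG hM hσ)
  · have hcyc : IsCyclic (sigmaCore M) := isCyclic_of_comm_rankLE_one
      ((maximal_odd hG M).of_dvd_nat (card_dvd_of_le (sigmaCore_le M))) hc h1
    refine hg (mem_of_cyclic hG hM (sigmaCore_le M) hcyc (le_normalizer_sigmaCore M) d.mem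
      (fun e => d.hp.one_lt.ne (by rw [← d.order, e, orderOf_one])) ?_)
    refine BG13.mem_sigmaCore_of_orderOf hU.bg13 hG hM (fittingOf_le M (mem_cj.1 (mem_inf.1 hx).2))
      fun q hq hd => ?_
    rw [orderOf_conj'] at hd
    exact d.prime_eq hq hd ▸ d.p_sigma

omit hg hne in
/-- For `q` dividing `|K*|`, an abelian `O_q(M_σ)` has rank at least three. -/
theorem cstar_sylow_not_small {K U : Subgroup G} (hD : IsSigmaDecomposition M K U) (hK1 : K ≠ ⊥)
    (hn : Group.IsNilpotent (sigmaCore M)) {q : ℕ} [hq : Fact q.Prime]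
    (hd : q ∣ Nat.card (cstar M K)) (hc : IsMulCommutative ↥(hallPart q (sigmaCore M)))
    (hr : PRankLE q 2 ↥(hallPart q (sigmaCore M))) (hU : Upstream.{u}) (hG : IsMinSimpleOddOrder G)
    (hM : IsCoatom M) : False := by
  obtain ⟨⟨y, hy⟩, hyo⟩ := exists_prime_orderOf_dvd_card' q hd
  rw [orderOf_mk] at hyo
  have hy1 : y ≠ 1 := fun e => hq.out.one_lt.ne (by rw [← hyo, e, orderOf_one])
  have hyS : y ∈ sigmaCore M := (mem_inf.1 hy).1
  have hqσ : q ∈ sigma M := (sigmaCore_hallOf hU hG hM).2.1 q hq.out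
    (hd.trans (card_dvd_of_le (cstar_le_sigmaCore M K)))
  set P := hallPart q (sigmaCore M) with hPdef
  have hyP : y ∈ P := mem_piCoreOf_nilpotent hn hyS fun r hr hd' =>
    (Nat.prime_dvd_prime_iff_eq hr hq.out).1 (hyo ▸ hd')
  have hE := decomp_compl hU hG hM hD
  set A := K ⊔ U with hA
  have hAM : A ≤ M := hE.1
  haveI : Group.IsSolvable A := minSimple_solvable hG (ne_top_of_le_maximal hM hAM)
  have hUy : U ≤ centralizer ({y} : Set G) := by
    intro c hcU
    have hcA : c ∈ ⁅A, A⁆ := by rw [hA, compl_derived hU hG hM hD hK1]; exact hcU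
    rw [← BG13.map_commutator_subtype] at hcA
    obtain ⟨c', hc', rfl⟩ := hcA
    obtain ⟨k, hk⟩ := CfsgLib.OddOrder.exists_pow_mem_centralizer
      (minSimple_ne_two hG (hd.trans (card_subgroup_dvd_card _))) (isPGroup_hallPart (sigmaCore M)) hr
      (hAM.trans (le_normalizer_hallPart _ (le_normalizer_sigmaCore M)))
      ((maximal_odd hG M).of_dvd_nat (card_dvd_of_le hAM)) ⟨c', hc'⟩
    obtain ⟨m, hm⟩ := exists_pow_eq_self_of_coprime (x := (c' : G)) (n := q ^ k) (by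
      refine (Nat.Coprime.pow_right k ?_).symm
      refine ((coprime_U_sigmaCore hU hG hM hD).coprime_dvd_left
        (Subgroup.orderOf_dvd_natCard U hcU)).coprime_dvd_right (hd.trans ?_)
      exact card_dvd_of_le (cstar_le_sigmaCore M K))
    have hcC : (c' : G) ∈ centralizer (P : Set G) := hm ▸ pow_mem hk m
    exact centralizer_le_of_mem hyP hcC
  have hKy : K ≤ centralizer ({y} : Set G) := fun k hk => mem_centralizer_singleton_iff.2
    (mem_centralizer_iff.1 (mem_inf.1 hy).2 k hk)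
  have hyA : y ∈ centralizer (A : Set G) := mem_centralizer_iff.2 fun a ha =>
    mem_centralizer_singleton_iff.1 ((sup_le hKy hUy : A ≤ _) ha)
  have hy' := (hU.bg13.s1426 hG M hM A hE).1 (mem_inf.2 ⟨hyS, hyA⟩)
  -- `M_σ' ≤ O_{q'}(M_σ)`
  have hle : ⁅sigmaCore M, sigmaCore M⁆ ≤ hallCompl q (sigmaCore M) := by
    refine commutator_le.2 fun a ha b hb => ?_
    obtain ⟨a₁, ha₁, a₂, ha₂, rfl⟩ := exists_hallPart_mul (p := q) hn ha
    obtain ⟨b₁, hb₁, b₂, hb₂, rfl⟩ := exists_hallPart_mul (p := q) hn hb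
    have h11 : Commute a₁ b₁ := congrArg Subtype.val (hc.is_comm.comm ⟨a₁, ha₁⟩ ⟨b₁, hb₁⟩)
    have ha1b : Commute a₁ (b₁ * b₂) := h11.mul_right (commute_hallPart hn ha₁ hb₂)
    have hb1a : Commute b₁ a₂ := commute_hallPart hn hb₁ ha₂
    have h1 : ⁅a₁ * a₂, b₁ * b₂⁆ = ⁅a₂, b₂⁆ := by
      rw [commutatorElement_def, commutatorElement_def]
      calc a₁ * a₂ * (b₁ * b₂) * (a₁ * a₂)⁻¹ * (b₁ * b₂)⁻¹
          = a₁ * ((a₂ * b₁) * b₂ * a₂⁻¹) * a₁⁻¹ * b₂⁻¹ * b₁⁻¹ := by group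
        _ = a₁ * (b₁ * (a₂ * b₂ * a₂⁻¹)) * a₁⁻¹ * b₂⁻¹ * b₁⁻¹ := by rw [← hb1a.eq]; group
        _ = b₁ * (a₂ * b₂ * a₂⁻¹) * b₂⁻¹ * b₁⁻¹ := by
            have h2 : Commute a₁ (b₁ * (a₂ * b₂ * a₂⁻¹)) := h11.mul_right
              (((commute_hallPart hn ha₁ ha₂).mul_right (commute_hallPart hn ha₁ hb₂)).mul_right
                (commute_hallPart hn ha₁ ha₂).inv_right)
            rw [h2.mul_inv_cancel]
        _ = a₂ * b₂ * a₂⁻¹ * b₂⁻¹ := by
            have h3 : Commute b₁ (a₂ * b₂ * a₂⁻¹ * b₂⁻¹) :=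
              (((hb1a.mul_right (commute_hallPart hn hb₁ hb₂)).mul_right hb1a.inv_right).mul_right
                (commute_hallPart hn hb₁ hb₂).inv_right)
            rw [show b₁ * (a₂ * b₂ * a₂⁻¹) * b₂⁻¹ * b₁⁻¹ =
              b₁ * (a₂ * b₂ * a₂⁻¹ * b₂⁻¹) * b₁⁻¹ by group, h3.mul_inv_cancel]
    rw [h1, commutatorElement_def]
    exact mul_mem (mul_mem (mul_mem ha₂ hb₂) (inv_mem ha₂)) (inv_mem hb₂)
  exact hy1 (mem_bot.1 ((BG13.inf_eq_bot_of_primes (π := {q}) (X := P)
    (Y := hallCompl q (sigmaCore M)) (piCoreOf_primes _ _)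
    (fun r hr' h => (piCoreOf_primes _ _ r hr' h).2)).le (mem_inf.2 ⟨hyP, hle hy'⟩)))

include hU hG hM in
/-- `O_p(M_σ)` is a Sylow `p`-subgroup of `M_σ`, of `M` and of `G`. -/
theorem sylIn_hallPart [Fact p.Prime] (hn : Group.IsNilpotent (sigmaCore M)) (hpσ : p ∈ sigma M) :
    SylIn p (hallPart p (sigmaCore M)) M ∧ SylIn p (hallPart p (sigmaCore M)) ⊤ := by
  have h1 := piCoreOf_hall_nilpotent {p} hn
  have h : SylIn p (hallPart p (sigmaCore M)) M := by
    refine ⟨(piCoreOf_le _ _).trans (sigmaCore_le M), isPGroup_hallPart _, fun hd => ?_⟩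
    rw [← relIndex_mul_relIndex _ _ _ h1.1 (sigmaCore_le M)] at hd
    rcases (Fact.out : p.Prime).dvd_mul.1 hd with h | h
    · exact h1.2.2 p Fact.out rfl h
    · exact (sigmaCore_hallOf hU hG hM).2.2 p Fact.out hpσ h
  exact ⟨h, sigma_sylIn_top hpσ h⟩

include hU hG hM hg hne in
/-- If `K ≠ 1`, the Sylow `p`-subgroups are not abelian. -/
theorem K_eq_bot_of_comm {K U : Subgroup G} (hD : IsSigmaDecomposition M K U)
    (hc : IsMulCommutative (sigmaCore M)) (hr : RankLE 2 (sigmaCore M)) : K = ⊥ := by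
  by_contra hK1
  obtain ⟨q, hq, hd⟩ := Nat.exists_prime_and_dvd (n := Nat.card (cstar M K))
    (fun e => cstar_ne_bot hU hG hM hD.hall ((cstar M K).eq_bot_of_card_eq e))
  haveI := Fact.mk hq
  refine cstar_sylow_not_small hD hK1 (isNilpotent_sigmaCore_of_meet hU hG hM hg hne) hd ?_
    (CfsgLib.Base.pRankLE_of_injective (inclusion (piCoreOf_le _ _)) (inclusion_injective _) (hr q hq))
    hU hG hM
  exact ⟨⟨fun a b => Subtype.ext (congrArg Subtype.val
    (hc.is_comm.comm ⟨a, piCoreOf_le _ _ a.2⟩ ⟨b, piCoreOf_le _ _ b.2⟩) :)⟩⟩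

include hU hG hM hg hne in
/-- The derived group of a complement of `M_σ` centralises `M_σ`. -/
theorem compl_derived_le_centralizer {E : Subgroup G} (hE : IsComplIn E (sigmaCore M) M) :
    ⁅E, E⁆ ≤ centralizer (sigmaCore M : Set G) := by
  have hn := isNilpotent_sigmaCore_of_meet hU hG hM hg hne
  obtain ⟨p, x, hp, hx, hxp⟩ := exists_prime_mem_fitMeet hne
  obtain ⟨N, d⟩ := exists_meetData hU hG hM hg hp hx hxp
  haveI := Fact.mk hp
  haveI : Group.IsSolvable E := minSimple_solvable hG (ne_top_of_le_maximal hM hE.1)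
  intro c hc
  have hcE : c ∈ E := commutator_le_self E hc
  rw [← BG13.map_commutator_subtype] at hc
  obtain ⟨c', hc', rfl⟩ := hc
  refine mem_centralizer_iff.2 fun h hh => ?_
  suffices h ∈ centralizer ({(c' : G)} : Set G) from mem_centralizer_singleton_iff.1 this
  refine mem_of_primary_parts _ h fun r hr hrd z hz ⟨k, hzk⟩ => mem_centralizer_singleton_iff.2 ?_
  haveI := Fact.mk hr
  have hrσ : r ∈ sigma M := (sigmaCore_hallOf hU hG hM).2.1 r hr
    (hrd.trans (Subgroup.orderOf_dvd_natCard _ hh))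
  have hr2 : r ≠ 2 := minSimple_ne_two hG (hrd.trans (orderOf_dvd_natCard h))
  have hzR : z ∈ hallPart r (sigmaCore M) := mem_piCoreOf_nilpotent hn (zpowers_le.2 hh hz)
    fun s hs hd => (Nat.prime_dvd_prime_iff_eq hs hr).1
      (hs.dvd_of_dvd_pow (hd.trans (orderOf_dvd_of_pow_eq_one hzk)))
  have hnR : E ≤ normalizer (hallPart r (sigmaCore M) : Set G) :=
    hE.1.trans (le_normalizer_hallPart _ (le_normalizer_sigmaCore M))
  have hodd : Odd (Nat.card E) := (maximal_odd hG M).of_dvd_nat (card_dvd_of_le hE.1)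
  obtain ⟨j, hj⟩ : ∃ j : ℕ, ((c' : E) : G) ^ r ^ j ∈
      centralizer (hallPart r (sigmaCore M) : Set G) := by
    by_cases hrp : r = p
    · subst hrp
      refine exists_pow_mem_centralizer_of_narrow (E := zpowers x) hr2 (isPGroup_hallPart _)
        (zpowers_le.2 (mem_piCoreOf_nilpotent hn d.mem fun _ hq hd => d.prime_eq hq hd)) ?_ ?_
        hnR hodd ⟨c', hc'⟩
      · refine CfsgLib.Base.isElementaryAbelian_iff.2 ⟨fun a ha b hb => ?_, fun a ha => ?_⟩
        · obtain ⟨i, rfl⟩ := mem_zpowers_iff.1 ha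
          obtain ⟨l, rfl⟩ := mem_zpowers_iff.1 hb
          exact ((Commute.refl x).zpow_zpow i l).eq
        · obtain ⟨i, rfl⟩ := mem_zpowers_iff.1 ha
          rw [← zpow_natCast, ← zpow_mul, mul_comm, zpow_mul, zpow_natCast, ← d.order,
            pow_orderOf_eq_one, one_zpow]
      · refine d.pRankLE_two hU hG (le_trans inf_le_right ?_) hrσ
        exact (centralizer_le_of_mem (mem_zpowers x)).trans d.le
    · refine CfsgLib.OddOrder.exists_pow_mem_centralizer hr2 (isPGroup_hallPart _)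
        (d.pRankLE_two hU hG (le_trans (le_piCoreOf (piCoreOf_le _ _)
          (le_normalizer_piCoreOf _ _) fun s hs hd => ?_) (d.hallCompl_le hn)) hrσ)
        hnR hodd ⟨c', hc'⟩
      have := piCoreOf_primes _ _ s hs hd
      exact ⟨hs, fun e => hrp (by rw [← e, Set.mem_singleton_iff.1 this])⟩
  obtain ⟨m, hm⟩ := exists_pow_eq_self_of_coprime (x := ((c' : E) : G)) (n := r ^ j) (by
    refine (Nat.Coprime.pow_right j ?_).symm
    refine ((hr.coprime_iff_not_dvd).2 fun hd => ?_).symm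
    exact BG13.compl_primes hU.bg13 hG hM hE hr
      (hd.trans (Subgroup.orderOf_dvd_natCard E hcE)) hrσ)
  have hcC : ((c' : E) : G) ∈ centralizer (hallPart r (sigmaCore M) : Set G) := hm ▸ pow_mem hj m
  exact mem_centralizer_iff.1 hcC z hzR

include hU hG hM hg hne in
/-- `M' ≤ F(M)`. -/
theorem derived_le_fittingOf_of_meet : ⁅M, M⁆ ≤ fittingOf M := by
  obtain ⟨E, hE⟩ := BG13.exists_compl hU.bg13 hG hM
  rw [derived_eq_sup hU hG hM hE]
  refine sup_le (sigmaCore_le_fittingOf hU hG hM hg hne)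
    ((le_inf ((commutator_le_self E).trans hE.1) ?_).trans (centralizer_fittingHallOf_le hU hG hM))
  rw [fittingHallOf_eq_of_meet hU hG hM hg hne]
  exact compl_derived_le_centralizer hU hG hM hg hne hE

include hU hG hM hg hne in
theorem U_eq_bot_of_meet {K U : Subgroup G} (hD : IsSigmaDecomposition M K U) (hK1 : K ≠ ⊥) :
    U = ⊥ := by
  by_contra hU1
  have h := compl_derived_le_centralizer hU hG hM hg hne (decomp_compl hU hG hM hD)
  rw [compl_derived hU hG hM hD hK1] at h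
  refine sigmaCore_ne_bot' hU hG hM (le_bot_iff.1
    ((sigmaCore_inf_centralizer_U hU hG hM hD hK1 hU1) ▸ le_inf le_rfl ?_))
  exact CfsgLib.Base.le_centralizer_comm.1 h

omit hg hne in
include hU hG hM in
/-- `F(M)` is a TI-subset when its conjugates by elements outside `M` meet it trivially. -/
theorem isTISubset_fittingOf (h : ∀ g : G, g ∉ M → fitMeet M g = ⊥) :
    IsTISubset (fittingOf M : Set G) := by
  intro g hgN x hx hgx
  have hn : normalizer (fittingOf M : Set G) = M := normalizer_eq_maximal hG hM (fittingOf_le M)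
    (fun e => fittingHallOf_ne_bot hU hG hM (le_bot_iff.1 (e ▸ fittingHallOf_le_fittingOf M)))
    (le_normalizer_fittingOf M)
  rw [hn] at hgN
  exact conj_eq_one_iff.1 (mem_bot.1 ((h g hgN).le (mem_inf.2 ⟨hgx, conj_mem_cj.2 hx⟩)))

omit hg hne in
include hU hG hM in
theorem isTISubset_fittingOf_of_P2 {K U : Subgroup G} (hD : IsSigmaDecomposition M K U)
    (hK1 : K ≠ ⊥) (hU1 : U ≠ ⊥) : IsTISubset (fittingOf M : Set G) :=
  isTISubset_fittingOf hU hG hM fun _ hg =>
    by_contra fun hne => hU1 (U_eq_bot_of_meet hU hG hM hg hne hD hK1)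

omit hg hne in
include hU hG hM in
theorem isTISubset_fittingOf_of_ne (h : fittingHallOf M ≠ sigmaCore M) :
    IsTISubset (fittingOf M : Set G) :=
  isTISubset_fittingOf hU hG hM fun _ hg =>
    by_contra fun hne => h (fittingHallOf_eq_of_meet hU hG hM hg hne)

end CfsgLib.FT.BG15
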