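import Cfsg.Agent.Lib.FT.BG15.NonTIStructure
import Cfsg.Agent.Lib.FT.BG15.LineAction
import Cfsg.Agent.Lib.Coprime.Action2
import Cfsg.Agent.Lib.Base.Cores

/-!
BG 15.7: the three cases for a maximal subgroup whose Fitting subgroup is not a TI-subset.
-/

set_option autoImplicit false
set_option linter.style.haveILetI false

universe u

open Cfsg CfsgLib.OddOrder CfsgLib.Techniques Subgroup
open scoped commutatorElement

namespace CfsgLib.FT.BG15

variable {G : Type u} [Group G] [Finite G]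

theorem hallPart_eq {p : ℕ} [Fact p.Prime] (H : Subgroup G) :
    hallPart p H = (pCore p H).map H.subtype := by
  rw [hallPart, piCoreOf, CfsgLib.Base.piCore_singleton]

theorem hallCompl_eq {p : ℕ} [hp : Fact p.Prime] (H : Subgroup G) :
    hallCompl p H = (pPrimeCore p H).map H.subtype := by
  rw [hallCompl, piCoreOf]
  congr 1
  refine le_antisymm (CfsgLib.Base.le_pPrimeCore_of_not_dvd fun h =>
    (CfsgLib.Base.piCore_primes {q : ℕ | q.Prime ∧ q ≠ p} H p hp.out h).2 rfl) ?_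
  refine CfsgLib.Base.le_piCore fun q hq hd => ⟨hq, ?_⟩
  rintro rfl
  exact CfsgLib.Base.not_dvd_card_pPrimeCore q H hd

theorem card_pCore_eq {p : ℕ} [Fact p.Prime] (H : Subgroup G) :
    Nat.card (pCore p H) = Nat.card ↥(hallPart p H) := by
  rw [hallPart_eq, CfsgLib.Base.card_map_subtype]

theorem pCore_not_comm {p : ℕ} [Fact p.Prime] {H : Subgroup G}
    (h : ¬ IsMulCommutative ↥(hallPart p H)) : ¬ IsMulCommutative (pCore p H) := by
  rw [hallPart_eq] at h
  exact fun hc => h ((isMulCommutative_congr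
    ((pCore p H).equivMapOfInjective _ H.subtype_injective)).1 hc)

theorem pPrimeCore_cyclic {p : ℕ} [Fact p.Prime] {H : Subgroup G}
    (h : IsCyclic ↥(hallCompl p H)) : IsCyclic (pPrimeCore p H) := by
  rw [hallCompl_eq] at h
  exact (MulEquiv.isCyclic ((pPrimeCore p H).equivMapOfInjective _ H.subtype_injective)).2 h

omit [Finite G] in
/-- The exponent of `M / M_F` from a complement. -/
theorem exponent_quotient_dvd {M E : Subgroup G} (hE : IsComplIn E (fittingHallOf M) M) {m : ℕ}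
    (h : ∀ e ∈ E, e ^ m = 1) : Monoid.exponent (↥M ⧸ Cfsg.fittingHall ↥M) ∣ m := by
  refine Monoid.exponent_dvd_iff_forall_pow_eq_one.2 fun v => ?_
  induction v using QuotientGroup.induction_on with | _ a => ?_
  obtain ⟨e, he, s, hs, hes⟩ := hE.2.2.2 a a.2
  obtain ⟨s', hs', rfl⟩ := hs
  rw [show a = ⟨e, hE.1 he⟩ * s' from Subtype.ext hes, QuotientGroup.mk_mul,
    (QuotientGroup.eq_one_iff s').2 hs', mul_one, ← QuotientGroup.mk_pow,
    show (⟨e, hE.1 he⟩ : M) ^ m = 1 from Subtype.ext (h e he)]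
  rfl

variable (hU : Upstream.{u}) (hG : IsMinSimpleOddOrder G) {M : Subgroup G} (hM : IsCoatom M)
variable {g : G} (hg : g ∉ M) (hne : fitMeet M g ≠ ⊥)
variable {p : ℕ} {x : G} {N : Subgroup G}

omit [Finite G] in
theorem MeetData.fact (d : MeetData M p x N) : Fact p.Prime := ⟨d.hp⟩

include hU hG hM in
/-- For every prime of `M_σ` a normal subgroup of that order. -/
theorem MeetData.exists_line (d : MeetData M p x N) (hn : Group.IsNilpotent (sigmaCore M))
    (hna : ¬ IsMulCommutative ↥(hallPart p (sigmaCore M))) {r : ℕ} (hr : r.Prime)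
    (hd : r ∣ Nat.card (sigmaCore M)) :
    ∃ z : G, z ∈ sigmaCore M ∧ orderOf z = r ∧ M ≤ normalizer (zpowers z : Set G) := by
  haveI := d.fact
  by_cases hrp : r = p
  · subst hrp
    obtain ⟨-, z, hz, -, hzo, hzn, -⟩ := d.exists_center_line hU hG hM hn hna
    exact ⟨z, piCoreOf_le _ _ hz, hzo, hzn⟩
  haveI := Fact.mk hr
  have hd' : r ∣ Nat.card ↥(hallCompl p (sigmaCore M)) := by
    have h := piCoreOf_hall_nilpotent {q | q.Prime ∧ q ≠ p} hn
    rw [← relIndex_mul_card_of_le h.1] at hd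
    exact (hr.dvd_mul.1 hd).resolve_left (h.2.2 r hr ⟨hr, hrp⟩)
  obtain ⟨⟨z, hz⟩, hzo⟩ := exists_prime_orderOf_dvd_card' r hd'
  rw [orderOf_mk] at hzo
  exact ⟨z, piCoreOf_le _ _ hz, hzo, BG13.le_normalizer_of_isCyclic
    (d.hallCompl_cyclic hU hG hM hn hna) (zpowers_le.2 hz)
    (le_normalizer_hallPart _ (le_normalizer_sigmaCore M))⟩

include hU hG hM in
/-- Regular elements of `M` have order dividing `r - 1` for every prime `r` of `M_σ`. -/
theorem MeetData.pow_pred_eq_one (d : MeetData M p x N) (hn : Group.IsNilpotent (sigmaCore M))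
    (hna : ¬ IsMulCommutative ↥(hallPart p (sigmaCore M))) {r : ℕ} (hr : r.Prime)
    (hd : r ∣ Nat.card (sigmaCore M)) {e : G} (he : e ∈ M)
    (hreg : ∀ i : ℕ, e ^ i ≠ 1 → sigmaCore M ⊓ centralizer ({e ^ i} : Set G) = ⊥) :
    e ^ (r - 1) = 1 := by
  haveI := Fact.mk hr
  obtain ⟨z, hz, hzo, hzn⟩ := d.exists_line hU hG hM hn hna hr hd
  refine orderOf_dvd_iff_pow_eq_one.1 (orderOf_dvd_pred_of_fpf hzo (hzn he) fun i hi => ?_)
  by_contra h
  exact hr.one_lt.ne (by rw [← hzo, mem_bot.1 ((hreg i h).le (mem_inf.2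
    ⟨hz, mem_centralizer_singleton_iff.2 hi.symm⟩)), orderOf_one])

include hU hG hM hg hne in
/-- BG 15.7 (e2) when `K = 1`. -/
theorem exponent_dvd_of_K_bot {K U : Subgroup G} (hD : IsSigmaDecomposition M K U) (hK : K = ⊥)
    (d : MeetData M p x N) (hna : ¬ IsMulCommutative ↥(hallPart p (sigmaCore M))) {r : ℕ}
    (hr : r.Prime) (hd : r ∣ Nat.card (fittingHallOf M)) :
    Monoid.exponent (↥M ⧸ Cfsg.fittingHall ↥M) ∣ r - 1 := by
  have hn := isNilpotent_sigmaCore_of_meet hU hG hM hg hne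
  obtain ⟨E, hE⟩ := BG13.exists_compl hU.bg13 hG hM
  rw [fittingHallOf_eq_of_meet hU hG hM hg hne] at hd
  refine exponent_quotient_dvd (E := E) (by rwa [fittingHallOf_eq_of_meet hU hG hM hg hne]) ?_
  have hκ : ∀ q, q ∉ kappa M := fun q hq => by
    exact (K_ne_bot_iff hU hG hM hD.hall).2 ⟨q, hq⟩ hK
  have hreg : ∀ e ∈ E, e ≠ 1 → (∀ q : ℕ, q.Prime → q ∣ orderOf e → q ∈ tau1 M ∪ tau3 M) →
      sigmaCore M ⊓ centralizer ({e} : Set G) = ⊥ := by
    intro e he he1 hτ
    by_contra hne'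
    obtain ⟨⟨y, hy⟩, hy1⟩ := ne_bot_iff_exists_ne_one.1 hne'
    obtain ⟨q, hq, hqd⟩ := Nat.exists_prime_and_dvd fun h => he1 (orderOf_eq_one_iff.1 h)
    have hσ : ∀ s : ℕ, s.Prime → s ∣ orderOf e → s ∉ sigma M := fun s hs hd =>
      (BG13.tau13_iff.2 (hτ s hs hd)).2.1
    rcases hU.s1432 hG M hM y (mem_inf.1 hy).1 (fun e => hy1 (Subtype.ext e)) e
      (mem_inf.2 ⟨hE.1 he, mem_centralizer_singleton_iff.2
        (mem_centralizer_singleton_iff.1 (mem_inf.1 hy).2).symm⟩) he1 hσ with ⟨h1, -⟩ | ⟨h1, -⟩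
    · exact hκ q (h1 q hq hqd)
    · exact (h1 q hq hqd).2.2.2 (BG13.tau13_iff.2 (hτ q hq hqd)).2.2.2
  obtain ⟨-, E₀, hE₀, hexp, hE₀reg⟩ := hU.s1421 hG M hM E hE hreg
  have h : Monoid.exponent E₀ ∣ r - 1 := Monoid.exponent_dvd_iff_forall_pow_eq_one.2 fun e =>
    Subtype.ext (by
      rw [SubmonoidClass.coe_pow]
      exact d.pow_pred_eq_one hU hG hM hn hna hr hd (hE.1 (hE₀ e.2))
        fun i hi => hE₀reg _ (pow_mem e.2 i) hi)
  rw [hexp] at h
  exact fun e he => congrArg Subtype.val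
    (Monoid.exponent_dvd_iff_forall_pow_eq_one.1 h ⟨e, he⟩)

omit [Finite G] in
/-- A commutator subgroup in a subgroup with a central factor. -/
theorem commutator_le_of_central {A B C S : Subgroup G} (hS : ∀ s ∈ S, ∃ a ∈ A, ∃ b ∈ B, s = a * b)
    (hAB : ∀ a ∈ A, ∀ b ∈ B, Commute a b) (hBB : ∀ a ∈ B, ∀ b ∈ B, Commute a b)
    (hC : ⁅A, A⁆ ≤ C) : ⁅S, S⁆ ≤ C := by
  refine commutator_le.2 fun u hu v hv => hC ?_
  obtain ⟨a, ha, b, hb, rfl⟩ := hS u hu
  obtain ⟨a', ha', b', hb', rfl⟩ := hS v hv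
  have h : ⁅a * b, a' * b'⁆ = ⁅a, a'⁆ := by
    have h1 := (hAB a' ha' b hb).eq
    have h2 := (hAB a ha b' hb').eq
    have h3 := (hBB b hb b' hb').eq
    simp only [commutatorElement_def]
    calc a * b * (a' * b') * (a * b)⁻¹ * (a' * b')⁻¹
        = a * (b * a') * b' * b⁻¹ * a⁻¹ * b'⁻¹ * a'⁻¹ := by group
      _ = a * a' * (b * b') * b⁻¹ * a⁻¹ * b'⁻¹ * a'⁻¹ := by rw [← h1]; group
      _ = a * a' * (b' * a⁻¹) * b'⁻¹ * a'⁻¹ := by rw [h3]; group
      _ = a * a' * a⁻¹ * a'⁻¹ := by rw [← ((show Commute a b' from h2).inv_left).eq]; group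
  rw [h]
  exact commutator_mem_commutator ha ha'

include hU hG hM hg hne in
theorem cstar_le_derived_hallPart {K U : Subgroup G} (hD : IsSigmaDecomposition M K U) (hK1 : K ≠ ⊥)
    (hUb : U = ⊥) (d : MeetData M p x N) :
    cstar M K ≤ ⁅hallPart p (sigmaCore M), hallPart p (sigmaCore M)⁆ := by
  have hn := isNilpotent_sigmaCore_of_meet hU hG hM hg hne
  have h := cstar_le_second_derived hU hG hM hD hK1
  rw [derived_eq_sigmaCore hU hG hM hD hUb] at h
  refine h.trans (commutator_le_of_central (fun s hs => exists_hallPart_mul hn hs)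
    (fun a ha b hb => commute_hallPart hn ha hb) (fun a ha b hb => ?_) le_rfl)
  exact congrArg Subtype.val ((d.hallCompl_comm hU hG hM hn).is_comm.comm ⟨a, ha⟩ ⟨b, hb⟩)

omit [Finite G] in
/-- Modulo a normal subgroup of prime index everything is a power of any outside element. -/
theorem exists_pow_mod {P T : Subgroup G} [Fact p.Prime] (hn : P ≤ normalizer (T : Set G))
    (hi : T.relIndex P = p) {y : G} (hy : y ∈ P) (hyT : y ∉ T) {u : G} (hu : u ∈ P) :
    ∃ j : ℕ, (y ^ j)⁻¹ * u ∈ T := by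
  haveI : (T.subgroupOf P).Normal := normal_subgroupOf_of_le_normalizer hn
  have hc : Nat.card (P ⧸ T.subgroupOf P) = p := hi
  have hy' : (QuotientGroup.mk ⟨y, hy⟩ : P ⧸ T.subgroupOf P) ≠ 1 := fun h =>
    hyT (mem_subgroupOf.1 ((QuotientGroup.eq_one_iff _).1 h))
  obtain ⟨j, hj⟩ := mem_powers_of_prime_card (g' := (QuotientGroup.mk ⟨u, hu⟩ : P ⧸ T.subgroupOf P))
    hc hy'
  refine ⟨j, ?_⟩
  simp only [← QuotientGroup.mk_pow] at hj
  simpa using mem_subgroupOf.1 (QuotientGroup.eq.1 hj)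

omit [Finite G] in
theorem derived_le_of_index_prime {P T : Subgroup G} [Fact p.Prime]
    (hn : P ≤ normalizer (T : Set G)) (hi : T.relIndex P = p) : ⁅P, P⁆ ≤ T := by
  haveI : (T.subgroupOf P).Normal := normal_subgroupOf_of_le_normalizer hn
  haveI : IsCyclic (P ⧸ T.subgroupOf P) := isCyclic_of_prime_card (p := p) hi
  refine commutator_le.2 fun a ha b hb => ?_
  have h : QuotientGroup.mk' (T.subgroupOf P) ⁅(⟨a, ha⟩ : P), ⟨b, hb⟩⁆ = 1 := by
    rw [map_commutatorElement, commutatorElement_eq_one_iff_commute]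
    letI := IsCyclic.commGroup (α := P ⧸ T.subgroupOf P)
    exact Commute.all _ _
  exact (mem_subgroupOf.1 ((QuotientGroup.eq_one_iff _).1 h) :)

include hU hG hM hg hne in
/-- The action of `K` on `O_p(M_σ)` when `K` centralises the centre line. -/
theorem card_K_dvd_of_center_fixed {K U : Subgroup G} (hD : IsSigmaDecomposition M K U)
    (hK1 : K ≠ ⊥) (hUb : U = ⊥) (d : MeetData M p x N)
    (hna : ¬ IsMulCommutative ↥(hallPart p (sigmaCore M))) {z : G}
    (hz : z ∈ hallPart p (sigmaCore M)) (hzc : z ∈ centralizer (hallPart p (sigmaCore M) : Set G))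
    (hzo : orderOf z = p) (hxz : x ∉ zpowers z) (hzK : z ∈ cstar M K) :
    Nat.card K ∣ p - 1 ∨
      (Nat.card K ∣ p + 1 ∧ Nat.card ↥(hallPart p (sigmaCore M)) = p ^ 3) := by
  haveI := d.fact
  have hn := isNilpotent_sigmaCore_of_meet hU hG hM hg hne
  set P := hallPart p (sigmaCore M) with hP
  have hPp : IsPGroup p P := isPGroup_hallPart _
  have hPS : P ≤ sigmaCore M := piCoreOf_le _ _
  have hKM : K ≤ M := hD.hall.1
  have hKP : K ≤ normalizer (P : Set G) :=
    hKM.trans (le_normalizer_hallPart _ (le_normalizer_sigmaCore M))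
  have hcs := cstar_le_derived_hallPart hU hG hM hg hne hD hK1 hUb d
  have hfix : ∀ k ∈ K, k ≠ 1 → P ⊓ centralizer ({k} : Set G) ≤ ⁅P, P⁆ := fun k hk hk1 =>
    ((inf_le_inf_right _ hPS).trans (primeAction hU hG hM hD.hall hk hk1).le).trans hcs
  have hcopKp : (Nat.card K).Coprime p := (d.hp.coprime_iff_not_dvd.2 fun h =>
    not_sigma_of_kappa (hD.hall.2.1 p d.hp h) d.p_sigma).symm
  obtain ⟨i, hi⟩ := IsPGroup.iff_card.1 hPp
  by_cases hr : PRankLE p 2 P
  swap
  · -- rank at least three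
    left
    obtain ⟨T, hTP, hTn, hTi, -, -⟩ := exists_index_p hU.s1453
      (minSimple_ne_two hG ((dvd_of_eq d.order.symm).trans (orderOf_dvd_natCard x)))
      hPp hr (d.mem_hallPart hn) d.order hz hzo hzc hxz (d.rank_centralizer hU hG)
    have hPT : ⁅P, P⁆ ≤ T := derived_le_of_index_prime (le_normalizer.trans hTn) hTi
    obtain ⟨y, hy, hyT⟩ : ∃ y ∈ P, y ∉ T := SetLike.not_le_iff_exists.1 fun h => by
      rw [relIndex_eq_one.2 h] at hTi
      exact d.hp.one_lt.ne hTi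
    obtain ⟨⟨e, heK⟩, heg⟩ := hD.cyclic.exists_generator
    have heord : orderOf e = Nat.card K := by
      rw [← orderOf_eq_card_of_forall_mem_zpowers heg, Subgroup.orderOf_mk]
    have heT : e ∈ normalizer (T : Set G) := hTn (hKP heK)
    obtain ⟨j, hj⟩ := exists_pow_mod (le_normalizer.trans hTn) hTi hy hyT
      ((mem_normalizer_iff.1 (hKP heK) y).1 hy)
    have hyp : y ^ p ∈ T := by
      haveI : (T.subgroupOf P).Normal :=
        normal_subgroupOf_of_le_normalizer (le_normalizer.trans hTn)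
      have h := (T.subgroupOf P).pow_index_mem ⟨y, hy⟩
      rwa [show (T.subgroupOf P).index = p from hTi, mem_subgroupOf, SubmonoidClass.coe_pow] at h
    have hyN : y ∈ normalizer (T : Set G) := hTn (le_normalizer hy)
    rw [← heord]
    refine orderOf_dvd_of_pow_eq_one ?_
    by_contra hw
    haveI : Group.IsSolvable T := haveI := (hPp.to_le hTP).isNilpotent; inferInstance
    obtain ⟨c, hc, hc'⟩ := exists_fixed_in_coset (w := e ^ (p - 1)) (pow_mem heT _) hyN (by
      obtain ⟨i', hi'⟩ := IsPGroup.iff_card.1 (hPp.to_le hTP)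
      rw [hi']
      exact (hcopKp.coprime_dvd_left (Subgroup.orderOf_dvd_natCard K (pow_mem heK _))).pow_right i')
      (pow_pred_fix heT hyN hj hyp hyT)
    have hcP : c ∈ P := (P.mul_mem_cancel_left (inv_mem hy)).1 (hTP hc')
    have hcT : c ∈ T := hPT (hfix _ (pow_mem heK _) hw (mem_inf.2 ⟨hcP, hc⟩))
    exact hyT (inv_mem_iff.1 ((T.mul_mem_cancel_right hcT).1 hc'))
  -- rank two
  obtain ⟨P₁, P₂, hsup, hP₂, hn12, hexp, hna1, hc1, hc12⟩ := d.rank_two_structure hU hG hM hn hna hr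
  obtain ⟨hVc, -⟩ := d.exists_center_line hU hG hM hn hna
  rw [← hP] at hVc hP₂ hsup
  set V := P ⊓ centralizer (P : Set G) with hV
  have hzV : z ∈ V := mem_inf.2 ⟨hz, hzc⟩
  have hordle : ∀ u ∈ V, u ^ p = 1 → u ∈ zpowers z := fun u hu hup => by
    by_cases hu1 : u = 1
    · exact hu1 ▸ one_mem _
    haveI := hVc
    have he : zpowers u = zpowers z := eq_of_card_eq_of_isCyclic (zpowers_le.2 hu) (zpowers_le.2 hzV)
      (by rw [Nat.card_zpowers, Nat.card_zpowers, hzo, orderOf_eq_prime hup hu1])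
    exact he ▸ mem_zpowers u
  have hP₁P : P₁ ≤ P := le_sup_left.trans hsup.le
  have hP₁p : IsPGroup p P₁ := hPp.to_le hP₁P
  set Z₁ := P₁ ⊓ centralizer (P₁ : Set G) with hZ₁
  have hZz : Z₁ ≤ zpowers z := fun u hu => hordle u (hP₂ (hc12 hu)) (hexp u hu.1)
  have hmap : (center P₁).map P₁.subtype = Z₁ := by
    ext u
    simp only [hZ₁, mem_map, mem_inf, mem_centralizer_iff, mem_center_iff]
    constructor
    · rintro ⟨v, hv, rfl⟩
      exact ⟨v.2, fun a ha => congrArg Subtype.val (hv ⟨a, ha⟩)⟩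
    · rintro ⟨hu, hu'⟩
      exact ⟨⟨u, hu⟩, fun a => Subtype.ext (hu' a a.2), rfl⟩
  have hZ₁c : Nat.card (center P₁) = p := by
    haveI : Nontrivial P₁ := (P₁.nontrivial_iff_ne_bot).2 fun e =>
      hna1 (by subst e; exact ⟨⟨fun _ _ => Subsingleton.elim _ _⟩⟩)
    have hd : Nat.card (center P₁) ∣ p := by
      rw [← CfsgLib.Base.card_map_subtype, hmap, ← hzo, ← Nat.card_zpowers]
      exact card_dvd_of_le hZz
    refine ((Nat.dvd_prime d.hp).1 hd).resolve_left fun h1 => ?_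
    haveI := hP₁p.center_nontrivial
    exact (Finite.one_lt_card (α := center P₁)).ne' h1
  have hZ₁eq : Z₁ = zpowers z := eq_of_le_of_card_ge hZz (by
    rw [← hmap, CfsgLib.Base.card_map_subtype, hZ₁c, Nat.card_zpowers, hzo])
  have hP₁d : ⁅P₁, P₁⁆ ≤ Z₁ := by
    have hq : Nat.card (P₁ ⧸ center P₁) = p ^ 2 := by
      have h := card_eq_card_quotient_mul_card_subgroup (center P₁)
      rw [hc1, hZ₁c, pow_succ] at h
      exact (Nat.eq_of_mul_eq_mul_right d.hp.pos h).symm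
    rw [← hmap, ← map_subtype_commutator]
    refine map_mono ?_
    rw [_root_.commutator_def, commutator_le]
    intro a _ b _
    refine (QuotientGroup.eq_one_iff _).1 ?_
    show QuotientGroup.mk' (center P₁) ⁅a, b⁆ = 1
    rw [map_commutatorElement, commutatorElement_eq_one_iff_commute]
    exact (IsPGroup.isMulCommutative_of_card_eq_prime_sq hq).is_comm.comm _ _
  have hPd : ⁅P, P⁆ ≤ zpowers z := by
    refine commutator_le_of_central (A := P₁) (B := P₂) (fun s hs => ?_)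
      (fun a ha b hb => mem_centralizer_iff.1 (hP₂ hb).2 a (hP₁P ha))
      (fun a ha b hb => mem_centralizer_iff.1 (hP₂ hb).2 a (hP₂ ha).1) (hP₁d.trans hZ₁eq.le)
    rw [← hsup] at hs
    obtain ⟨a, ha, b, hb, rfl⟩ := (CfsgLib.Coprime.mem_sup_iff_of_le_normalizer hn12).1 hs
    exact ⟨a, ha, b, hb, rfl⟩
  have hKz : K ≤ centralizer (zpowers z : Set G) :=
    CfsgLib.Base.le_centralizer_comm.1 (zpowers_le.2 (mem_inf.1 hzK).2)
  -- `K` centralises the centre
  have hVcomm : IsMulCommutative V :=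
    ⟨⟨fun a b => Subtype.ext (mem_centralizer_iff.1 b.2.2 a a.2.1)⟩⟩
  have hKV : K ≤ normalizer (V : Set G) :=
    CfsgLib.Coprime.le_normalizer_inf_inf hKP (CfsgLib.Coprime.le_normalizer_centralizer hKP)
  have hcopV : (Nat.card K).Coprime (Nat.card V) :=
    (hi ▸ hcopKp.pow_right i).coprime_dvd_right (card_dvd_of_le inf_le_left)
  have hVK : V ≤ centralizer (K : Set G) := by
    rw [← commutator_eq_bot_iff_le_centralizer]
    by_contra h
    have hVle := CfsgLib.Coprime.commutator_le_of_le_normalizer hKV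
    obtain ⟨q, hq, -, X, hX, hXc⟩ := BG13.exists_card_prime h
    have hqp : q = p := BG13.eq_of_dvd_card_pGroup (hPp.to_le (inf_le_left : V ≤ P)) hq
      (hXc ▸ card_dvd_of_le (hX.trans hVle))
    haveI := hVc
    have he : X = zpowers z := eq_of_card_eq_of_isCyclic (hX.trans hVle) (zpowers_le.2 hzV)
      (by rw [Nat.card_zpowers, hzo, hXc, hqp])
    have h0 := @CfsgLib.Coprime.centralizer_inf_commutator_eq_bot G _ _ K V hVcomm hKV hcopV
    refine d.hp.one_lt.ne (by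
      rw [← hzo, mem_bot.1 (h0.le (mem_inf.2 ⟨mem_inf.2 ⟨hzV, (mem_inf.1 hzK).2⟩,
        hX (he ▸ mem_zpowers z)⟩)), orderOf_one])
  have hVz : V ≤ zpowers z := (le_inf (inf_le_left.trans hPS) hVK).trans (hcs.trans hPd)
  have hPP₁ : P = P₁ := by
    rw [← hsup, sup_eq_left]
    exact (hP₂.trans hVz).trans (hZ₁eq.ge.trans inf_le_left)
  have hPc : Nat.card P = p ^ 3 := by rw [hPP₁]; exact hc1
  have hexpP : ∀ a ∈ P, a ^ p = 1 := fun a ha => hexp a (hPP₁.le ha)
  rcases card_dvd_of_fix_center hPc (zpowers_le.2 hz) (by rw [Nat.card_zpowers, hzo])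
    (CfsgLib.Base.le_centralizer_comm.1 (zpowers_le.2 hzc)) hPd hna hexpP hD.cyclic
    ((maximal_odd hG M).of_dvd_nat (card_dvd_of_le hKM)) hcopKp hKP hKz
    (fun k hk hk1 => (hfix k hk hk1).trans hPd) with h | h
  · exact Or.inl h
  · exact Or.inr ⟨h, hPc⟩

include hU hG hM hg hne in
/-- BG 15.7: the three cases. -/
theorem meet_cases {K U : Subgroup G} (hD : IsSigmaDecomposition M K U) :
    (K = ⊥ ∧ IsMulCommutative (fittingHallOf M) ∧ RankLE 2 (fittingHallOf M) ∧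
        ¬ RankLE 1 (fittingHallOf M)) ∨
     (∃ p : ℕ, p.Prime ∧ Nat.card ↥(fitMeet M g) = p ∧ p ∈ sigma M ∧ p ∉ beta M ∧
        ¬ IsMulCommutative (pCore p ↥(fittingHallOf M)) ∧
        IsCyclic (pPrimeCore p ↥(fittingHallOf M)) ∧
        ∀ q : ℕ, q.Prime → q ∣ Nat.card (fittingHallOf M) →
          Monoid.exponent (↥M ⧸ Cfsg.fittingHall ↥M) ∣ q - 1) ∨
     (∃ p : ℕ, p.Prime ∧ Nat.card ↥(fitMeet M g) = p ∧ p ∈ sigma M ∧ p ∉ beta M ∧
        IsCyclic (pPrimeCore p ↥(fittingHallOf M)) ∧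
        Nat.card (pCore p ↥(fittingHallOf M)) = p ^ 3 ∧
        ¬ IsMulCommutative (pCore p ↥(fittingHallOf M)) ∧ K ≠ ⊥ ∧ U = ⊥ ∧
        (fittingHallOf M).relIndex M ∣ p + 1) := by
  have hH := fittingHallOf_eq_of_meet hU hG hM hg hne
  have hn := isNilpotent_sigmaCore_of_meet hU hG hM hg hne
  obtain ⟨p, x, hp, hx, hxp⟩ := exists_prime_mem_fitMeet hne
  obtain ⟨N, d⟩ := exists_meetData hU hG hM hg hp hx hxp
  haveI := d.fact
  by_cases hc : IsMulCommutative ↥(hallPart p (sigmaCore M))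
  · obtain ⟨h1, h2, h3⟩ := comm_of_hallPart_comm hU hG hM hg hne d hx hc
    exact Or.inl ⟨K_eq_bot_of_comm hU hG hM hg hne hD h1 h2, by rw [hH]; exact ⟨h1, h2, h3⟩⟩
  have hcard := card_fitMeet_of_noncomm hU hG hM hg hne d hx hc
  have hβ : p ∉ beta M := (fitMeet_cyclic hU hG hM hg).2.1 p hp (dvd_of_eq hcard.symm)
  have hcyc := d.hallCompl_cyclic hU hG hM hn hc
  refine Or.inr ?_
  have hbase : IsCyclic (pPrimeCore p ↥(fittingHallOf M)) ∧
      ¬ IsMulCommutative (pCore p ↥(fittingHallOf M)) := by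
    rw [hH]; exact ⟨pPrimeCore_cyclic hcyc, pCore_not_comm hc⟩
  by_cases hK1 : K = ⊥
  · exact Or.inl ⟨p, hp, hcard, d.p_sigma, hβ, hbase.2, hbase.1, fun q hq hd =>
      exponent_dvd_of_K_bot hU hG hM hg hne hD hK1 d hc hq hd⟩
  have hUb := U_eq_bot_of_meet hU hG hM hg hne hD hK1
  have hKc : IsComplIn K (fittingHallOf M) M := by
    have h := decomp_compl hU hG hM hD
    rwa [hUb, sup_bot_eq, ← hH] at h
  -- the lines not fixed by `K`
  have hfree : ∀ r : ℕ, r.Prime → ∀ z : G, z ∈ sigmaCore M → orderOf z = r →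
      M ≤ normalizer (zpowers z : Set G) → z ∉ cstar M K →
      ∀ e ∈ K, e ^ (r - 1) = 1 := by
    intro r hr z hz hzo hzn hzK e he
    haveI := Fact.mk hr
    refine orderOf_dvd_iff_pow_eq_one.1 (orderOf_dvd_pred_of_fpf hzo (hzn (hD.hall.1 he))
      fun i hi => ?_)
    by_contra h
    exact hzK ((primeAction hU hG hM hD.hall (pow_mem he i) h).le
      (mem_inf.2 ⟨hz, mem_centralizer_singleton_iff.2 hi.symm⟩))
  have hother : ∀ r : ℕ, r.Prime → r ∣ Nat.card (sigmaCore M) → r ≠ p → ∀ e ∈ K, e ^ (r - 1) = 1 := by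
    intro r hr hd hrp
    haveI := Fact.mk hr
    obtain ⟨z, hz, hzo, hzn⟩ := d.exists_line hU hG hM hn hc hr hd
    refine hfree r hr z hz hzo hzn fun hzK => ?_
    have hle := hallPart_le_hallCompl (M := M) (p := r) hrp
    refine cstar_sylow_not_small hD hK1 hn (q := r) ?_ ?_ ?_ hU hG hM
    · exact hzo ▸ Subgroup.orderOf_dvd_natCard _ hzK
    · exact ⟨⟨fun a b => Subtype.ext (congrArg Subtype.val
        ((d.hallCompl_comm hU hG hM hn).is_comm.comm ⟨a, hle a.2⟩ ⟨b, hle b.2⟩) :)⟩⟩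
    · haveI := hcyc
      exact CfsgLib.Base.pRankLE_of_injective (inclusion hle) (inclusion_injective _)
        (pRankLE_two_of_one hr (pRankLE_one_of_isCyclic r _))
  by_cases hall : ∀ e ∈ K, e ^ (p - 1) = 1
  · refine Or.inl ⟨p, hp, hcard, d.p_sigma, hβ, hbase.2, hbase.1, fun q hq hd =>
      exponent_quotient_dvd hKc ?_⟩
    rw [hH] at hd
    by_cases hqp : q = p
    · exact hqp ▸ hall
    · exact hother q hq hd hqp
  obtain ⟨-, z, hz, hzc, hzo, hzn, hxz⟩ := d.exists_center_line hU hG hM hn hc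
  have hzK : z ∈ cstar M K := by
    by_contra h
    exact hall (hfree p hp z (piCoreOf_le _ _ hz) hzo hzn h)
  rcases card_K_dvd_of_center_fixed hU hG hM hg hne hD hK1 hUb d hc hz hzc hzo hxz hzK with
    h | ⟨h, h3⟩
  · exact absurd (fun e he => orderOf_dvd_iff_pow_eq_one.1
      ((Subgroup.orderOf_dvd_natCard K he).trans h)) hall
  refine Or.inr ⟨p, hp, hcard, d.p_sigma, hβ, hbase.1, ?_, hbase.2, hK1, hUb, ?_⟩
  · rw [hH, card_pCore_eq, h3]
  · have h1 : (fittingHallOf M).relIndex M = Nat.card K := Nat.eq_of_mul_eq_mul_right Nat.card_pos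
      ((relIndex_mul_card_of_le (fittingHallOf_le M)).trans (card_mul_card_of_isComplIn hKc).symm)
    exact h1 ▸ h

end CfsgLib.FT.BG15
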