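import Cfsg.Agent.Lib.FT.BG15.NonTI
import Cfsg.Agent.Lib.FT.BG12.Complement
import Cfsg.Agent.Lib.OddOrder.NarrowSolvable

/-!
BG 15.7 when the Sylow `p`-subgroup of `M_σ` is not abelian: `|F(M) ∩ F(M)^g| = p`, the centre of
`O_p(M_σ)` has rank one and `O_{p'}(M_σ)` is cyclic.
-/

set_option autoImplicit false
set_option linter.style.haveILetI false

universe u

open Cfsg CfsgLib.OddOrder CfsgLib.Techniques Subgroup
open scoped commutatorElement

namespace CfsgLib.FT.BG15

variable {G : Type u} [Group G] [Finite G]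

/-- In a `p`-group of rank at least three with an element of order `p` whose centraliser has rank at
most two there is a normal subgroup of index `p` avoiding that element. -/
theorem exists_index_p (h1453 : StmtS1453.{u}) {p : ℕ} [hp : Fact p.Prime] (hp2 : p ≠ 2)
    {P : Subgroup G} (hP : IsPGroup p P) (hr : ¬ PRankLE p 2 P) {x z : G} (hx : x ∈ P)
    (hxo : orderOf x = p) (hz : z ∈ P) (hzo : orderOf z = p) (hzc : z ∈ centralizer (P : Set G))
    (hxz : x ∉ zpowers z) (hsmall : PRankLE p 2 ↥(P ⊓ centralizer ({x} : Set G))) :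
    ∃ T : Subgroup G, T ≤ P ∧ normalizer (P : Set G) ≤ normalizer (T : Set G) ∧
      T.relIndex P = p ∧ x ∉ T ∧ P ⊓ centralizer (P : Set G) ≤ T := by
  set E := zpowers z ⊔ zpowers x with hE
  have hzx : zpowers z ≤ centralizer (zpowers x : Set G) := zpowers_le.2
    (centralizer_le (zpowers_le.2 hx : zpowers x ≤ P) hzc)
  have hEe : IsElementaryAbelian p E := CfsgLib.Base.isElementaryAbelian_sup
    (CfsgLib.Base.isElementaryAbelian_zpowers (hzo ▸ pow_orderOf_eq_one z))
    (CfsgLib.Base.isElementaryAbelian_zpowers (hxo ▸ pow_orderOf_eq_one x)) hzx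
  have hEP : E ≤ P := sup_le (zpowers_le.2 hz) (zpowers_le.2 hx)
  have hlt : p < Nat.card E := by
    have := card_lt_of_lt (left_lt_sup.2 fun h => hxz (h (mem_zpowers x)) : zpowers z < E)
    rwa [Nat.card_zpowers, hzo] at this
  have hbound : ∀ B : Subgroup G, B ≤ P → IsElementaryAbelian p B → E ≤ B → Nat.card B ≤ p ^ 2 :=
    fun B hBP hB hEB => CfsgLib.Base.pRankLE_subgroup_iff.1 hsmall B (le_inf hBP fun b hb =>
      mem_centralizer_singleton_iff.2 ((CfsgLib.Base.isElementaryAbelian_iff.1 hB).1 b hb x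
        (hEB (mem_sup_right (mem_zpowers x))))) hB
  have hEc : Nat.card E = p ^ 2 := by
    obtain ⟨i, hi⟩ := IsPGroup.iff_card.1 (CfsgLib.Base.isPGroup_of_isElementaryAbelian hEe)
    have h1 := hbound E hEP hEe le_rfl
    rw [hi] at h1 hlt ⊢
    have h2 := (Nat.pow_le_pow_iff_right hp.out.one_lt).1 h1
    have h3 := (Nat.pow_lt_pow_iff_right hp.out.one_lt).1 (by rwa [pow_one] : p ^ 1 < p ^ i)
    rw [show i = 2 by omega]
  obtain ⟨-, -, ⟨hW, hWc⟩, hTc, hTi⟩ := h1453 p hp2 hP hr (E.subgroupOf P)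
    (CfsgLib.Base.isElementaryAbelian_subgroupOf hEe P)
    (by rw [CfsgLib.Base.card_subgroupOf hEP, hEc])
    (fun B hB hEB => by
      refine (eq_of_le_of_card_ge hEB ?_).symm
      rw [CfsgLib.Base.card_subgroupOf hEP, hEc, ← CfsgLib.Base.card_map_subtype B]
      refine hbound _ (map_subtype_le B) (CfsgLib.Base.isElementaryAbelian_map _ hB) ?_
      rw [← map_subgroupOf_eq_of_le hEP]
      exact map_mono hEB)
  set W := Subgroup.closure {a : P | a ∈ Subgroup.upperCentralSeries P 2 ∧ a ^ p = 1}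
  set T := centralizer (W : Set P) with hT
  have hWT : W ≤ T := le_centralizer_iff_isMulCommutative.2 hW.1
  refine ⟨T.map P.subtype, map_subtype_le _,
    normalizer_le_normalizer_map_char T hTc, ?_, ?_, ?_⟩
  · show ((T.map P.subtype).subgroupOf P).index = p
    rw [show (T.map P.subtype).subgroupOf P = T from
      comap_map_eq_self_of_injective P.subtype_injective _, hTi]
  · rintro ⟨⟨a, haP⟩, haT, rfl⟩
    -- every element of order `p` of `T` has a centraliser of rank three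
    have key : ∀ b ∈ T, b ^ p = 1 → b ∉ W → p ^ 2 < Nat.card ↥(W ⊔ zpowers b) ∧
        IsElementaryAbelian p (W ⊔ zpowers b) := fun b hb hbp hbW => by
      refine ⟨hWc ▸ card_lt_of_lt (left_lt_sup.2 fun h => hbW (h (mem_zpowers b))),
        CfsgLib.Base.isElementaryAbelian_sup hW (CfsgLib.Base.isElementaryAbelian_zpowers hbp) ?_⟩
      exact CfsgLib.Base.le_centralizer_comm.1 (zpowers_le.2 hb)
    have hap : (⟨a, haP⟩ : P) ^ p = 1 := Subtype.ext (by
      rw [SubmonoidClass.coe_pow]; exact hxo ▸ pow_orderOf_eq_one a)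
    have hno : ∀ B : Subgroup P, IsElementaryAbelian p B →
        B ≤ centralizer ({⟨a, haP⟩} : Set P) → Nat.card B ≤ p ^ 2 := fun B hB hBa => by
      rw [← CfsgLib.Base.card_map_subtype B]
      refine CfsgLib.Base.pRankLE_subgroup_iff.1 hsmall _ (le_inf (map_subtype_le B) ?_)
        (CfsgLib.Base.isElementaryAbelian_map _ hB)
      rintro _ ⟨b, hb, rfl⟩
      exact mem_centralizer_singleton_iff.2
        (congrArg Subtype.val (mem_centralizer_singleton_iff.1 (hBa hb)))
    by_cases haW : (⟨a, haP⟩ : P) ∈ W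
    · -- `a ∈ W`, so `T` centralises `a`
      obtain ⟨B, -, hB, hBc⟩ := exists_elementary_of_not_pRankLE
        (k := 2) (Z := (⊤ : Subgroup P)) (fun h => hr (CfsgLib.Base.pRankLE_top_iff.1 h))
      have hTa : T ≤ centralizer ({⟨a, haP⟩} : Set P) := fun t ht =>
        mem_centralizer_singleton_iff.2 (mem_centralizer_iff.1 ht _ haW).symm
      by_cases hBW : B ⊓ T ≤ W
      · have hd : T.relIndex B ∣ p := by
          haveI : T.Normal := @Subgroup.normal_of_characteristic P _ T hTc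
          rw [← hTi]
          exact relIndex_dvd_index_of_normal T B
        have hmul : Nat.card ↥(B ⊓ T) * T.relIndex B = Nat.card B := by
          rw [← relIndex_bot_left, ← relIndex_bot_left, ← inf_relIndex_left B T]
          exact relIndex_mul_relIndex _ _ _ bot_le inf_le_left
        obtain ⟨i, hi⟩ := IsPGroup.iff_card.1 (CfsgLib.Base.isPGroup_of_isElementaryAbelian hB)
        obtain ⟨l, hl, hle⟩ := (Nat.dvd_prime_pow hp.out).1 (hWc ▸ card_dvd_of_le hBW)
        have hge : Nat.card W ≤ Nat.card ↥(B ⊓ T) := by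
          have h1 : p ^ 2 < p ^ l * p := by
            calc p ^ 2 < Nat.card B := hBc
              _ = Nat.card ↥(B ⊓ T) * T.relIndex B := hmul.symm
              _ ≤ p ^ l * p := Nat.mul_le_mul hle.le (Nat.le_of_dvd hp.out.pos hd)
          rw [← pow_succ] at h1
          have h2 := (Nat.pow_lt_pow_iff_right hp.out.one_lt).1 h1
          rw [hWc, hle]
          exact Nat.pow_le_pow_right hp.out.pos (by omega)
        have hWB : W ≤ B := (eq_of_le_of_card_ge hBW hge).ge.trans inf_le_left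
        have hBT : B ≤ T := (le_centralizer_iff_isMulCommutative.2 hB.1).trans (centralizer_le hWB)
        exact absurd (hno B hB (hBT.trans hTa)) (not_le.2 hBc)
      · obtain ⟨b, hb, hbW⟩ := SetLike.not_le_iff_exists.1 hBW
        obtain ⟨h1, h2⟩ := key b hb.2 ((CfsgLib.Base.isElementaryAbelian_iff.1 hB).2 b hb.1) hbW
        exact absurd (hno _ h2 ((sup_le hWT (zpowers_le.2 hb.2)).trans hTa)) (not_le.2 h1)
    · obtain ⟨h1, h2⟩ := key _ haT hap haW
      refine absurd (hno _ h2 ?_) (not_le.2 h1)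
      exact (le_centralizer_iff_isMulCommutative.2 h2.1).trans
        (centralizer_le (Set.singleton_subset_iff.2 (mem_sup_right (mem_zpowers _))))
  · intro u hu
    exact ⟨⟨u, hu.1⟩, mem_centralizer_iff.2 fun w _ =>
      Subtype.ext (mem_centralizer_iff.1 hu.2 (w : G) w.2), rfl⟩

variable (hU : Upstream.{u}) (hG : IsMinSimpleOddOrder G) {M : Subgroup G} (hM : IsCoatom M)
variable {g : G} (hg : g ∉ M) (hne : fitMeet M g ≠ ⊥)
variable {p : ℕ} {x : G} {N : Subgroup G}

omit [Finite G] in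
theorem MeetData.ne_one (d : MeetData M p x N) : x ≠ 1 := fun e =>
  d.hp.one_lt.ne (by rw [← d.order, e, orderOf_one])

theorem MeetData.mem_hallPart (d : MeetData M p x N) (hn : Group.IsNilpotent (sigmaCore M)) :
    x ∈ hallPart p (sigmaCore M) :=
  mem_piCoreOf_nilpotent hn d.mem fun _ hq hd => d.prime_eq hq hd

include hU hG hM in
theorem MeetData.not_central (d : MeetData M p x N) (hn : Group.IsNilpotent (sigmaCore M))
    (hna : ¬ IsMulCommutative ↥(hallPart p (sigmaCore M))) :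
    ¬ hallPart p (sigmaCore M) ≤ centralizer ({x} : Set G) := fun h => by
  have hSC : sigmaCore M ≤ centralizer ({x} : Set G) := le_of_parts hn h
    (hallCompl_le_centralizer hn d.mem fun _ hq hd => d.prime_eq hq hd)
  have hc := d.comm_of_le hU hG hM le_rfl (hSC.trans d.le) hn
  exact hna ⟨⟨fun a b => Subtype.ext (congrArg Subtype.val
    (hc.is_comm.comm ⟨a, piCoreOf_le _ _ a.2⟩ ⟨b, piCoreOf_le _ _ b.2⟩) :)⟩⟩

omit hM in
include hU hG in
theorem MeetData.rank_centralizer (d : MeetData M p x N) [Fact p.Prime] :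
    PRankLE p 2 ↥(hallPart p (sigmaCore M) ⊓ centralizer ({x} : Set G)) :=
  d.pRankLE_two hU hG (inf_le_right.trans d.le) d.p_sigma

include hU hG hM in
/-- The centre of `O_p(M_σ)` is cyclic; its subgroup of order `p` is normal in `M`. -/
theorem MeetData.exists_center_line (d : MeetData M p x N) [Fact p.Prime]
    (hn : Group.IsNilpotent (sigmaCore M))
    (hna : ¬ IsMulCommutative ↥(hallPart p (sigmaCore M))) :
    IsCyclic ↥(hallPart p (sigmaCore M) ⊓ centralizer (hallPart p (sigmaCore M) : Set G)) ∧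
    ∃ z : G, z ∈ hallPart p (sigmaCore M) ∧ z ∈ centralizer (hallPart p (sigmaCore M) : Set G) ∧
      orderOf z = p ∧ M ≤ normalizer (zpowers z : Set G) ∧ x ∉ zpowers z := by
  set P := hallPart p (sigmaCore M) with hP
  set Z := P ⊓ centralizer (P : Set G) with hZ
  have hPp : IsPGroup p P := isPGroup_hallPart _
  have hxP := d.mem_hallPart hn
  have hxZ : x ∉ centralizer (P : Set G) := fun h => d.not_central hU hG hM hn hna fun a ha =>
    mem_centralizer_singleton_iff.2 (mem_centralizer_iff.1 h a ha)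
  have hZc : IsMulCommutative Z :=
    ⟨⟨fun a b => Subtype.ext (mem_centralizer_iff.1 b.2.2 a a.2.1)⟩⟩
  have hP1 : P ≠ ⊥ := fun e => d.ne_one (mem_bot.1 (e.le hxP))
  haveI : Nontrivial P := (P.nontrivial_iff_ne_bot).2 hP1
  obtain ⟨⟨c, hcP⟩, hcc, hc1⟩ : ∃ c : P, c ∈ center P ∧ c ≠ 1 := by
    haveI := hPp.center_nontrivial
    obtain ⟨⟨c, hc⟩, hc1⟩ := exists_ne (1 : center P)
    exact ⟨c, hc, fun e => hc1 (Subtype.ext e)⟩
  have hcZ : c ∈ Z := mem_inf.2 ⟨hcP, mem_centralizer_iff.2 fun a ha =>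
    congrArg Subtype.val (mem_center_iff.1 hcc ⟨a, ha⟩)⟩
  have hZp : IsPGroup p Z := hPp.to_le inf_le_left
  have hcyc : IsCyclic Z := by
    refine isCyclic_of_comm_rankLE_one ((maximal_odd hG M).of_dvd_nat (card_dvd_of_le
      (inf_le_left.trans ((piCoreOf_le _ _).trans (sigmaCore_le M))))) hZc fun r hr => ?_
    haveI := Fact.mk hr
    by_contra hr1
    obtain ⟨B, hBZ, hB, hB2⟩ := exists_elementary_sq (M := Z) hr1
    have hrp : r = p := BG13.eq_of_dvd_card_pGroup hZp hr
      ((hB2 ▸ dvd_pow_self r two_ne_zero).trans (card_dvd_of_le hBZ))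
    subst hrp
    have hxB : zpowers x ≤ centralizer (B : Set G) := zpowers_le.2 (mem_centralizer_iff.2
      fun b hb => (mem_centralizer_iff.1 (hBZ hb).2 x hxP).symm)
    have hlt : B < B ⊔ zpowers x := left_lt_sup.2 fun h => hxZ (hBZ (h (mem_zpowers x))).2
    have h2 := CfsgLib.Base.pRankLE_subgroup_iff.1 (d.rank_centralizer hU hG) (B ⊔ zpowers x)
      (le_inf (sup_le (hBZ.trans inf_le_left) (zpowers_le.2 hxP)) (sup_le (fun b hb =>
        mem_centralizer_singleton_iff.2 (mem_centralizer_iff.1 (hBZ hb).2 x hxP).symm)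
        (zpowers_le.2 (mem_centralizer_singleton_iff.2 rfl))))
      (CfsgLib.Base.isElementaryAbelian_sup hB (CfsgLib.Base.isElementaryAbelian_zpowers
        (d.order ▸ pow_orderOf_eq_one x)) (CfsgLib.Base.le_centralizer_comm.1 hxB))
    have h3 := card_lt_of_lt hlt
    omega
  refine ⟨hcyc, ?_⟩
  obtain ⟨q, n, hq, hqd, hn'⟩ := exists_pow_prime (x := c) fun e => hc1 (Subtype.ext e)
  obtain rfl : q = p := BG13.eq_of_dvd_card_pGroup hZp hq
    (hn' ▸ Subgroup.orderOf_dvd_natCard Z (pow_mem hcZ n))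
  have hz := pow_mem hcZ n
  refine ⟨c ^ n, (mem_inf.1 hz).1, (mem_inf.1 hz).2, hn', ?_,
    fun h => hxZ (mem_inf.1 (zpowers_le.2 hz h)).2⟩
  refine BG13.le_normalizer_of_isCyclic hcyc (zpowers_le.2 hz) ?_
  have hnP := le_normalizer_hallPart {q} (le_normalizer_sigmaCore M)
  exact CfsgLib.Coprime.le_normalizer_inf_inf hnP (CfsgLib.Coprime.le_normalizer_centralizer hnP)

include hU hG hM in
/-- When `O_p(M_σ)` has rank two it is `P₁ P₂` (BG 10.7), and `P₂` is central. -/
theorem MeetData.rank_two_structure (d : MeetData M p x N) [Fact p.Prime]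
    (hn : Group.IsNilpotent (sigmaCore M))
    (hna : ¬ IsMulCommutative ↥(hallPart p (sigmaCore M)))
    (hr : PRankLE p 2 ↥(hallPart p (sigmaCore M))) :
    ∃ P₁ P₂ : Subgroup G, P₁ ⊔ P₂ = hallPart p (sigmaCore M) ∧
      P₂ ≤ hallPart p (sigmaCore M) ⊓ centralizer (hallPart p (sigmaCore M) : Set G) ∧
      P₁ ≤ normalizer (P₂ : Set G) ∧ (∀ a ∈ P₁, a ^ p = 1) ∧ ¬ IsMulCommutative P₁ ∧
      Nat.card P₁ = p ^ 3 ∧ P₁ ⊓ centralizer (P₁ : Set G) ≤ P₂ := by
  obtain ⟨-, hPG⟩ := sylIn_hallPart hU hG hM hn d.p_sigma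
  obtain ⟨S, hS⟩ := hPG.to_sylow
  rcases hU.s1412 hG p S (hS ▸ hr) with h | ⟨P₁, P₂, hsup, hcomm, hna1, hc, hexp, hP₂, hcl⟩
  · exact absurd (hS ▸ h) hna
  rw [hS] at hsup
  have hn12 : P₁ ≤ normalizer (P₂ : Set G) := le_trans
    (fun a ha => mem_centralizer_iff.2 fun b hb => (hcomm a ha b hb).symm) (centralizer_le_normalizer _)
  refine ⟨P₁, P₂, hsup, le_inf (le_sup_right.trans hsup.le) fun b hb => ?_, hn12, fun a ha => ?_,
    hna1, hc, hcl ▸ (closure_le _).2 fun _ h => h.1⟩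
  · refine mem_centralizer_iff.2 fun a ha => ?_
    rw [← hsup] at ha
    obtain ⟨a₁, ha₁, a₂, ha₂, rfl⟩ := (CfsgLib.Coprime.mem_sup_iff_of_le_normalizer hn12).1 ha
    have h1 : Commute a₁ b := hcomm a₁ ha₁ b hb
    have h2 : Commute a₂ b := commute_of_cyclic hP₂ ha₂ hb
    exact (h1.mul_left h2).eq
  · simpa using congrArg Subtype.val
      (Monoid.exponent_dvd_iff_forall_pow_eq_one.1 hexp.dvd ⟨a, ha⟩)

include hU hG hM in
/-- `x` is not a `p`-th power in `O_p(M_σ)`. -/
theorem MeetData.no_root (d : MeetData M p x N) [Fact p.Prime]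
    (hn : Group.IsNilpotent (sigmaCore M))
    (hna : ¬ IsMulCommutative ↥(hallPart p (sigmaCore M))) {a : G}
    (ha : a ∈ hallPart p (sigmaCore M)) : a ^ p ≠ x := by
  intro hap
  set P := hallPart p (sigmaCore M) with hP
  by_cases hr : PRankLE p 2 P
  · obtain ⟨P₁, P₂, hsup, hP₂, hn12, hexp, -, -, -⟩ := d.rank_two_structure hU hG hM hn hna hr
    replace ha : a ∈ P₁ ⊔ P₂ := hsup.ge ha
    obtain ⟨a₁, ha₁, a₂, ha₂, rfl⟩ := (CfsgLib.Coprime.mem_sup_iff_of_le_normalizer hn12).1 ha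
    have hc : Commute a₁ a₂ :=
      mem_centralizer_iff.1 (hP₂ ha₂).2 a₁ (le_sup_left.trans hsup.le ha₁)
    rw [hc.mul_pow, hexp a₁ ha₁, one_mul] at hap
    refine d.not_central hU hG hM hn hna fun b hb => mem_centralizer_singleton_iff.2 ?_
    rw [← hap]
    exact mem_centralizer_iff.1 (pow_mem (hP₂ ha₂).2 p) b hb
  · obtain ⟨-, z, hz, hzc, hzo, -, hxz⟩ := d.exists_center_line hU hG hM hn hna
    obtain ⟨T, -, hTn, hTi, hxT, -⟩ := exists_index_p hU.s1453
      (minSimple_ne_two hG ((dvd_of_eq d.order.symm).trans (orderOf_dvd_natCard x)))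
      (isPGroup_hallPart _) hr (d.mem_hallPart hn) d.order hz hzo hzc hxz
      (d.rank_centralizer hU hG)
    haveI : (T.subgroupOf P).Normal :=
      normal_subgroupOf_of_le_normalizer (le_normalizer.trans hTn)
    have h := (T.subgroupOf P).pow_index_mem ⟨a, ha⟩
    rw [show (T.subgroupOf P).index = p from hTi, mem_subgroupOf, SubmonoidClass.coe_pow] at h
    exact hxT (hap ▸ h)

include hU hG hM in
/-- `O_{p'}(M_σ)` is cyclic. -/
theorem MeetData.hallCompl_cyclic (d : MeetData M p x N) [Fact p.Prime]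
    (hn : Group.IsNilpotent (sigmaCore M))
    (hna : ¬ IsMulCommutative ↥(hallPart p (sigmaCore M))) :
    IsCyclic ↥(hallCompl p (sigmaCore M)) := by
  obtain ⟨-, hPG⟩ := sylIn_hallPart hU hG hM hn d.p_sigma
  have hnaG : ∀ S : Sylow p G, ¬ IsMulCommutative (S : Subgroup G) := by
    intro S hS
    obtain ⟨c, -, hc⟩ := hPG.exists_conj_eq (sylIn_top S)
    refine hna ⟨⟨fun a b => Subtype.ext ?_⟩⟩
    obtain ⟨a, ha⟩ := a
    obtain ⟨b, hb⟩ := b
    show a * b = b * a
    rw [← hc, mem_cj] at ha hb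
    have h : c⁻¹ * a * c * (c⁻¹ * b * c) = c⁻¹ * b * c * (c⁻¹ * a * c) :=
      congrArg Subtype.val (hS.is_comm.comm ⟨_, ha⟩ ⟨_, hb⟩)
    calc a * b = c * (c⁻¹ * a * c * (c⁻¹ * b * c)) * c⁻¹ := by group
      _ = b * a := by rw [h]; group
  obtain ⟨A, hA⟩ := CfsgLib.FT.BG12.exists_elem_compl hG d.max d.compl d.tau2
  have hτ := (hU.s1419 hG N d.max (M ⊓ N) d.compl p d.tau2 hnaG A hA).1
  refine isCyclic_of_comm_rankLE_one ((maximal_odd hG M).of_dvd_nat (card_dvd_of_le
    ((piCoreOf_le _ _).trans (sigmaCore_le M)))) (d.hallCompl_comm hU hG hM hn) fun r hr => ?_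
  haveI := Fact.mk hr
  by_contra hr1
  obtain ⟨B, hB, hBe, hB2⟩ := exists_elementary_sq (M := hallCompl p (sigmaCore M)) hr1
  have hrd : r ∣ Nat.card ↥(hallCompl p (sigmaCore M)) :=
    (hB2 ▸ dvd_pow_self r two_ne_zero).trans (card_dvd_of_le hB)
  obtain ⟨-, hrp⟩ := piCoreOf_primes _ _ r hr hrd
  have hrN : r ∉ sigma N := d.sigma_disjoint r
    ((sigmaCore_hallOf hU hG hM).2.1 r hr (hrd.trans (card_dvd_of_le (piCoreOf_le _ _))))
  refine hrp (hτ.le (show r ∈ Cfsg.tau2 N from ⟨hr, hrN,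
    pRankLE_two_of_not_sigma hU.bg13.s1403 hG d.max hrN, fun h => ?_⟩))
  have := CfsgLib.Base.pRankLE_subgroup_iff.1 h B (hB.trans (d.hallCompl_le hn)) hBe
  rw [hB2, pow_one] at this
  have := Nat.pow_lt_pow_right hr.one_lt (show 1 < 2 by norm_num)
  rw [pow_one] at this
  omega

omit hU hG hM hg hne in
theorem hallPart_le_hallCompl {r : ℕ} [Fact p.Prime] (hrp : p ≠ r) :
    hallPart p (sigmaCore M) ≤ hallCompl r (sigmaCore M) :=
  le_piCoreOf (piCoreOf_le _ _) (le_normalizer_piCoreOf _ _) fun s hs hd => by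
    rw [Set.mem_singleton_iff.1 (piCoreOf_primes _ _ s hs hd)]
    exact ⟨Fact.out, hrp⟩

include hU hG hM hg hne in
/-- With `O_p(M_σ)` nonabelian the intersection has order `p`. -/
theorem card_fitMeet_of_noncomm (d : MeetData M p x N) (hx : x ∈ fitMeet M g)
    (hna : ¬ IsMulCommutative ↥(hallPart p (sigmaCore M))) :
    Nat.card ↥(fitMeet M g) = p := by
  haveI := Fact.mk d.hp
  have hn := isNilpotent_sigmaCore_of_meet hU hG hM hg hne
  have honly : ∀ r : ℕ, r.Prime → r ∣ Nat.card ↥(fitMeet M g) → r = p := by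
    intro r hr hd
    by_contra hrp
    haveI := Fact.mk hr
    obtain ⟨⟨y, hy⟩, hyo⟩ := exists_prime_orderOf_dvd_card' r hd
    rw [orderOf_mk] at hyo
    obtain ⟨N', d'⟩ := exists_meetData hU hG hM hg hr hy hyo
    have hc := d'.hallCompl_comm hU hG hM hn
    have hle := hallPart_le_hallCompl (M := M) (p := p) (Ne.symm hrp)
    exact hna ⟨⟨fun a b => Subtype.ext (congrArg Subtype.val
      (hc.is_comm.comm ⟨a, hle a.2⟩ ⟨b, hle b.2⟩) :)⟩⟩
  obtain ⟨i, hi⟩ : ∃ i, Nat.card ↥(fitMeet M g) = p ^ i :=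
    ⟨_, Nat.eq_prime_pow_of_unique_prime_dvd Nat.card_pos.ne' fun {r} hr hd => honly r hr hd⟩
  have hi0 : i ≠ 0 := fun e => by
    rw [e, pow_zero] at hi
    exact d.ne_one (mem_bot.1 ((eq_bot_of_card_eq _ hi).le hx))
  by_contra hne'
  have hi2 : 2 ≤ i := by
    rcases i with _ | _ | i
    · exact absurd rfl hi0
    · exact absurd (by simpa using hi) hne'
    · omega
  obtain ⟨⟨a, ha⟩, hag⟩ := (fitMeet_cyclic hU hG hM hg).1.exists_generator
  have hao : orderOf a = p ^ i := by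
    rw [← hi, ← orderOf_eq_card_of_forall_mem_zpowers hag, Subgroup.orderOf_mk]
  set b := a ^ p ^ (i - 2)
  have hbp : orderOf (b ^ p) = p := by
    rw [← pow_mul, ← pow_succ, show i - 2 + 1 = i - 1 by omega,
      orderOf_pow_of_dvd (pow_ne_zero _ d.hp.ne_zero) (hao ▸ pow_dvd_pow p (by omega)), hao,
      Nat.pow_div (by omega) d.hp.pos, show i - (i - 1) = 1 by omega, pow_one]
  have hb : b ∈ fitMeet M g := pow_mem ha _
  obtain ⟨N', d'⟩ := exists_meetData hU hG hM hg d.hp (pow_mem hb p) hbp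
  refine d'.no_root hU hG hM hn hna (a := b) ?_ rfl
  refine mem_piCoreOf_nilpotent hn (fitMeet_le_sigmaCore hU hG hM hg hb) fun r hr hd =>
    honly r hr (hd.trans (Subgroup.orderOf_dvd_natCard _ hb))

end CfsgLib.FT.BG15
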