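import Cfsg.Agent.Lib.FT.BG15.Basic

/-!
BG Lemma 15.1: the subgroups `K`, `U` and `K* = C_{M_σ}(K)`.
-/

set_option autoImplicit false
set_option linter.style.haveILetI false

universe u

open Cfsg CfsgLib.OddOrder CfsgLib.Techniques Subgroup
open scoped commutatorElement

namespace CfsgLib.FT.BG15

variable {G : Type u} [Group G]

/-- A commutator subgroup of a product with a subgroup inside the target. -/
theorem commutator_sup_le {A N L : Subgroup G} (hAN : A ≤ normalizer (N : Set G)) (hNL : N ≤ L)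
    (hAL : A ≤ normalizer (L : Set G)) (h : ⁅A, A⁆ ≤ L) : ⁅A ⊔ N, A ⊔ N⁆ ≤ L := by
  have hN : N ≤ normalizer (L : Set G) := hNL.trans le_normalizer
  let φ := QuotientGroup.mk' (L.subgroupOf (normalizer (L : Set G)))
  have key : ∀ {y : G} (hy : y ∈ normalizer (L : Set G)), φ ⟨y, hy⟩ = 1 ↔ y ∈ L := fun hy => by
    rw [QuotientGroup.mk'_apply, QuotientGroup.eq_one_iff, mem_subgroupOf]
  rw [commutator_le]
  intro x hx y hy
  obtain ⟨a, ha, n, hn, rfl⟩ := (CfsgLib.Coprime.mem_sup_iff_of_le_normalizer hAN).1 hx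
  obtain ⟨c, hc, m, hm, rfl⟩ := (CfsgLib.Coprime.mem_sup_iff_of_le_normalizer hAN).1 hy
  have h1 : φ ⁅(⟨a, hAL ha⟩ : normalizer (L : Set G)), ⟨c, hAL hc⟩⁆ = 1 :=
    (key _).2 (h (commutator_mem_commutator ha hc))
  have h2 : φ ⁅(⟨a, hAL ha⟩ : normalizer (L : Set G)) * ⟨n, hN hn⟩,
      ⟨c, hAL hc⟩ * ⟨m, hN hm⟩⁆ = 1 := by
    rw [map_commutatorElement, map_mul, map_mul, (key (hN hn)).2 (hNL hn),
      (key (hN hm)).2 (hNL hm), mul_one, mul_one, ← map_commutatorElement, h1]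
  exact mem_subgroupOf.1 ((QuotientGroup.eq_one_iff _).1 h2)

/-- The normaliser of two subgroups normalises their commutator. -/
theorem le_normalizer_commutator {X A B : Subgroup G} (hA : X ≤ normalizer (A : Set G))
    (hB : X ≤ normalizer (B : Set G)) : X ≤ normalizer ((⁅A, B⁆ : Subgroup G) : Set G) := fun x hx => by
  rw [mem_normalizer_iff_cj, cj_commutator, mem_normalizer_iff_cj.1 (hA hx),
    mem_normalizer_iff_cj.1 (hB hx)]

theorem le_normalizer_sup {X A B : Subgroup G} (hA : X ≤ normalizer (A : Set G))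
    (hB : X ≤ normalizer (B : Set G)) : X ≤ normalizer ((A ⊔ B : Subgroup G) : Set G) :=
  CfsgLib.Coprime.le_normalizer_sup_sup hA hB

variable [Finite G]
variable (hU : Upstream.{u}) (hG : IsMinSimpleOddOrder G) {M : Subgroup G} (hM : IsCoatom M)
variable {K U E : Subgroup G}

omit [Finite G] hU hG hM in
theorem commute_of_cyclic (hK : IsCyclic K) {a b : G} (ha : a ∈ K) (hb : b ∈ K) : a * b = b * a :=
  congrArg Subtype.val
    ((letI := IsCyclic.commGroup (α := K); mul_comm (⟨a, ha⟩ : K) ⟨b, hb⟩) : (⟨a, ha⟩ : K) * _ = _)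

include hU hG hM in
theorem primeAction (hK : IsPiHallOf (kappa M) K M) {k : G} (hk : k ∈ K) (hk1 : k ≠ 1) :
    sigmaCore M ⊓ centralizer ({k} : Set G) = cstar M K := by
  have hK1 : K ≠ ⊥ := fun e => hk1 (by subst e; exact mem_bot.1 hk)
  exact (hU.s1430 hG M hM K hK hK1).1 k hk hk1

include hU hG hM in
theorem normalizer_inf_prime (hK : IsPiHallOf (kappa M) K M) {X : Subgroup G} (hX : X ≤ K)
    (hXp : (Nat.card X).Prime) : M ⊓ normalizer (X : Set G) = K ⊔ cstar M K := by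
  have hK1 : K ≠ ⊥ := fun e => by
    subst e
    rw [le_bot_iff.1 hX, card_bot] at hXp
    exact Nat.not_prime_one hXp
  exact ((hU.s1430 hG M hM K hK hK1).2.2 X hX hXp).1

include hU hG hM in
theorem normalizer_inf_K (hK : IsPiHallOf (kappa M) K M) (hK1 : K ≠ ⊥) :
    M ⊓ normalizer (K : Set G) = K ⊔ cstar M K := by
  obtain ⟨x, hx, hx1⟩ := K.ne_bot_iff_exists_ne_one.1 hK1 |> fun ⟨⟨x, hx⟩, h⟩ =>
    (⟨x, hx, fun e => h (Subtype.ext e)⟩ : ∃ x ∈ K, x ≠ 1)
  obtain ⟨p, n, hp, -, hn⟩ := exists_pow_prime hx1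
  exact ((hU.s1430 hG M hM K hK hK1).2.2 (zpowers (x ^ n)) (zpowers_le.2 (pow_mem hx n))
    (by rw [Nat.card_zpowers, hn]; exact hp)).2.1

include hU hG hM in
theorem centralizer_inf_le (hK : IsPiHallOf (kappa M) K M) {k : G} (hk : k ∈ K) (hk1 : k ≠ 1) :
    M ⊓ centralizer ({k} : Set G) ≤ K ⊔ cstar M K := by
  obtain ⟨p, n, hp, -, hn⟩ := exists_pow_prime hk1
  refine le_trans ?_ (normalizer_inf_prime hU hG hM hK (zpowers_le.2 (pow_mem hk n))
    (by rw [Nat.card_zpowers, hn]; exact hp)).le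
  refine inf_le_inf_left M ((centralizer_singleton_le_of_mem_zpowers
    (pow_mem (mem_zpowers k) n)).trans ?_)
  rw [← BG13.centralizer_zpowers']
  exact centralizer_le_normalizer _

include hU hG hM in
theorem centralizer_inf_eq (hKc : IsCyclic K) (hK : IsPiHallOf (kappa M) K M) {k : G} (hk : k ∈ K)
    (hk1 : k ≠ 1) : M ⊓ centralizer ({k} : Set G) = K ⊔ cstar M K := by
  refine le_antisymm (centralizer_inf_le hU hG hM hK hk hk1) (sup_le (le_inf hK.1 ?_) (le_inf
    ((cstar_le_sigmaCore M K).trans (sigmaCore_le M)) (inf_le_right.trans (centralizer_le_of_mem hk))))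
  exact fun a ha => mem_centralizer_singleton_iff.2 (commute_of_cyclic hKc ha hk)

include hU hG hM in
/-- No non-identity element of `K` centralises one of `U`. -/
theorem U_fpf (hD : IsSigmaDecomposition M K U) {k : G} (hk : k ∈ K) (hk1 : k ≠ 1) :
    U ⊓ centralizer ({k} : Set G) = ⊥ := by
  refine le_bot_iff.1 ((le_inf inf_le_left ?_).trans hD.compl.2.2.1.le)
  exact (le_inf (inf_le_left.trans hD.compl.1) inf_le_right).trans
    ((centralizer_inf_le hU hG hM hD.hall hk hk1).trans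
      (sup_le_sup_left (cstar_le_sigmaCore M K) K))

include hU hG hM in
theorem U_inf_centralizer (hD : IsSigmaDecomposition M K U) (hK1 : K ≠ ⊥) :
    U ⊓ centralizer (K : Set G) = ⊥ := by
  obtain ⟨⟨k, hk⟩, hk1⟩ := K.ne_bot_iff_exists_ne_one.1 hK1
  exact le_bot_iff.1 ((inf_le_inf_left U (centralizer_le_of_mem hk)).trans
    (U_fpf hU hG hM hD hk fun e => hk1 (Subtype.ext e)).le)

include hU hG hM in
theorem cstar_ne_bot (hK : IsPiHallOf (kappa M) K M) : cstar M K ≠ ⊥ := by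
  by_cases hK1 : K = ⊥
  · subst hK1
    intro h
    refine sigmaCore_ne_bot' hU hG hM (le_bot_iff.1 fun x hx => h.le ⟨hx, ?_⟩)
    exact mem_centralizer_iff.2 fun a ha => by rw [mem_bot.1 ha, one_mul, mul_one]
  obtain ⟨p, hp⟩ := (K_ne_bot_iff hU hG hM hK).1 hK1
  have := Fact.mk hp.1
  obtain ⟨P⟩ : Nonempty (Sylow p M) := inferInstance
  obtain ⟨-, x, hxP, hx1, y, hy, hy1, hxy⟩ := hp.2.2.2 P
  haveI := maximal_solvable hG hM
  obtain ⟨g, hg⟩ := (CfsgLib.Coprime.hallD_of_solvable (G := M) (kappa M)).conj_le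
    (U := zpowers x) (H := K.subgroupOf M) (fun q hq hd => by
      obtain ⟨i, hi⟩ := P.isPGroup' ⟨x, hxP⟩
      rw [Nat.card_zpowers] at hd
      have := (Nat.prime_dvd_prime_iff_eq hq hp.1).1 (hq.dvd_of_dvd_pow
        (hd.trans (orderOf_dvd_of_pow_eq_one (congrArg Subtype.val hi : x ^ p ^ i = 1))))
      exact this ▸ hp)
    (CfsgLib.Coprime.piHallOf_iff.1 hK).2
  have hgx : (g : G) * x * (g : G)⁻¹ ∈ K :=
    mem_subgroupOf.1 (hg (Subgroup.smul_mem_pointwise_smul x (MulAut.conj g) _ (mem_zpowers x)))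
  have hgy : (g : G) * y * (g : G)⁻¹ ∈ sigmaCore M :=
    (mem_normalizer_iff.1 (le_normalizer_sigmaCore M g.2) y).1 hy
  intro h
  have hgx1 : (g : G) * x * (g : G)⁻¹ ≠ 1 := fun e =>
    hx1 (Subtype.ext (conj_eq_one_iff.1 e))
  have hmem : (g : G) * y * (g : G)⁻¹ ∈ cstar M K := by
    rw [← primeAction hU hG hM hK hgx hgx1]
    refine mem_inf.2 ⟨hgy, mem_centralizer_singleton_iff.2 ?_⟩
    rw [conj_mul, conj_mul, hxy]
  exact hy1 (conj_eq_one_iff.1 (mem_bot.1 (h.le hmem)))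

/-! ### The derived subgroups -/

include hU hG hM in
theorem derived_eq_sup (hE : IsComplIn E (sigmaCore M) M) :
    ⁅M, M⁆ = sigmaCore M ⊔ ⁅E, E⁆ := by
  refine le_antisymm ?_
    (sup_le (sigmaCore_le_derived' hU hG hM) (commutator_mono hE.1 hE.1))
  have hn := hE.1.trans (le_normalizer_sigmaCore M)
  conv_lhs => rw [← sup_eq_of_isComplIn hE]
  exact commutator_sup_le hn le_sup_left
    (le_normalizer_sup hn (le_normalizer_commutator le_normalizer le_normalizer)) le_sup_right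

include hU hG hM in
theorem second_derived_le_sigmaCore : ⁅⁅M, M⁆, ⁅M, M⁆⁆ ≤ sigmaCore M := by
  obtain ⟨E, hE⟩ := BG13.exists_compl hU.bg13 hG hM
  rw [derived_eq_sup hU hG hM hE, sup_comm]
  have hn : ⁅E, E⁆ ≤ normalizer (sigmaCore M : Set G) :=
    (commutator_le_self E).trans (hE.1.trans (le_normalizer_sigmaCore M))
  refine commutator_sup_le hn le_rfl hn ?_
  rw [commutator_eq_bot_iff_le_centralizer.2 ?_]
  · exact bot_le
  haveI := (hU.bg13.s1420 hG M hM E hE).2.1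
  exact Subgroup.le_centralizer _

include hU hG hM in
theorem compl_derived (hD : IsSigmaDecomposition M K U) (hK1 : K ≠ ⊥) :
    ⁅K ⊔ U, K ⊔ U⁆ = U := by
  refine le_antisymm (commutator_sup_le hD.normal le_rfl hD.normal ?_) ?_
  · rw [commutator_eq_bot_iff_le_centralizer.2 ?_]
    · exact bot_le
    exact fun a ha => mem_centralizer_iff.2 fun b hb => commute_of_cyclic hD.cyclic hb ha
  · have hsolv : Group.IsSolvable U :=
      minSimple_solvable hG (ne_top_of_le_maximal hM hD.compl.1)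
    have h := CfsgLib.Coprime.commutator_sup_centralizer hD.normal (coprime_K_U hU hG hM hD)
      (Or.inr hsolv)
    rw [U_inf_centralizer hU hG hM hD hK1, sup_bot_eq] at h
    exact h.ge.trans (commutator_mono le_sup_right le_sup_left)

include hU hG hM in
theorem U_comm (hD : IsSigmaDecomposition M K U) (hK1 : K ≠ ⊥) : IsMulCommutative U := by
  have h := (hU.bg13.s1420 hG M hM _ (decomp_compl hU hG hM hD)).2.1
  rwa [compl_derived hU hG hM hD hK1] at h

include hU hG hM in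
theorem derived_eq (hD : IsSigmaDecomposition M K U) (hK1 : K ≠ ⊥) :
    ⁅M, M⁆ = U ⊔ sigmaCore M := by
  rw [derived_eq_sup hU hG hM (decomp_compl hU hG hM hD), compl_derived hU hG hM hD hK1, sup_comm]

include hU hG hM in
theorem cstar_le_second_derived (hD : IsSigmaDecomposition M K U) (hK1 : K ≠ ⊥) :
    cstar M K ≤ ⁅⁅M, M⁆, ⁅M, M⁆⁆ := by
  have hE := decomp_compl hU hG hM hD
  set S := sigmaCore M with hS
  set L := ⁅S, S⁆ ⊔ ⁅S, U⁆ with hL
  have hES : K ⊔ U ≤ normalizer (S : Set G) := hE.1.trans (le_normalizer_sigmaCore M)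
  have hEU : K ⊔ U ≤ normalizer (U : Set G) := sup_le hD.normal le_normalizer
  have hEL : K ⊔ U ≤ normalizer (L : Set G) :=
    le_normalizer_sup (le_normalizer_commutator hES hES) (le_normalizer_commutator hES hEU)
  have hLS : L ≤ S := sup_le (commutator_le_self S)
    (le_normalizer_iff_commutator_le_left.1 (hD.compl.1.trans (le_normalizer_sigmaCore M)))
  have hLM : L ≤ ⁅⁅M, M⁆, ⁅M, M⁆⁆ := by
    have h1 : S ≤ ⁅M, M⁆ := sigmaCore_le_derived' hU hG hM
    have h2 : U ≤ ⁅M, M⁆ := (derived_eq hU hG hM hD hK1).symm ▸ le_sup_left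
    exact sup_le (commutator_mono h1 h1) (commutator_mono h1 h2)
  refine le_trans (fun y hy => ?_) hLM
  obtain ⟨c, hc, hcy⟩ := CfsgLib.Coprime.exists_centralizing_in_coset (A := K ⊔ U) (N := L) (k := y)
    hEL ((coprime_KU_sigmaCore hU hG hM hD).coprime_dvd_right (card_dvd_of_le hLS))
    (Or.inl (minSimple_solvable hG (ne_top_of_le_maximal hM hE.1))) (fun a ha => by
      obtain ⟨k, hk, v, hv, rfl⟩ := (CfsgLib.Coprime.mem_sup_iff_of_le_normalizer hD.normal).1 ha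
      have h1 : y⁻¹ * (v * y * v⁻¹) ∈ L := by
        refine (le_sup_right : ⁅S, U⁆ ≤ L) ?_
        have := commutator_mem_commutator (inv_mem (mem_inf.1 hy).1) hv (g₁ := y⁻¹) (g₂ := v)
        rwa [commutatorElement_def, inv_inv, mul_assoc y⁻¹, mul_assoc y⁻¹] at this
      have h2 := (mem_normalizer_iff.1 (hEL (mem_sup_left hk)) _).1 h1
      have h3 : k * y⁻¹ * k⁻¹ = y⁻¹ := mul_inv_eq_iff_eq_mul.2
        (mem_centralizer_iff.1 (inv_mem (mem_inf.1 hy).2) k hk)
      have h4 : y⁻¹ * (k * v * y * (k * v)⁻¹) = k * (y⁻¹ * (v * y * v⁻¹)) * k⁻¹ :=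
        calc y⁻¹ * (k * v * y * (k * v)⁻¹) = k * y⁻¹ * k⁻¹ * (k * v * y * (k * v)⁻¹) := by rw [h3]
          _ = k * (y⁻¹ * (v * y * v⁻¹)) * k⁻¹ := by group
      rw [h4]; exact h2)
  have hcS : c ∈ S := by
    have := mul_mem (mem_inf.1 hy).1 (hLS hcy)
    rwa [mul_inv_cancel_left] at this
  have hcL : c ∈ L :=
    (le_sup_left : ⁅S, S⁆ ≤ L) ((hU.bg13.s1426 hG M hM _ hE).1 (mem_inf.2 ⟨hcS, hc⟩))
  have := mul_mem hcL (inv_mem hcy)
  rwa [mul_inv_rev, inv_inv, mul_inv_cancel_left] at this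

/-! ### The elements of `U` fixing a point of `M_σ` -/

include hU hG hM in
theorem U_centralizing (hD : IsSigmaDecomposition M K U) {v x : G} (hv : v ∈ U) (hv1 : v ≠ 1)
    (hx : x ∈ sigmaCore M) (hx1 : x ≠ 1) (hvx : v * x = x * v) :
    (∀ p : ℕ, p.Prime → p ∣ orderOf v → p ∈ tau2 M) ∧
      centralizer ({v} : Set G) ≤ M ∧
        ∀ L : Subgroup G, IsCoatom L → centralizer ({v} : Set G) ≤ L → L = M := by
  have hσ : ∀ p : ℕ, p.Prime → p ∣ orderOf v → p ∉ sigma M ∧ p ∉ kappa M := fun p hp hd =>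
    decomp_U_primes hU hG hM hD hp (hd.trans (Subgroup.orderOf_dvd_natCard U hv))
  rcases hU.s1432 hG M hM x hx hx1 v
      (mem_inf.2 ⟨hD.compl.1 hv, mem_centralizer_singleton_iff.2 hvx⟩) hv1
      (fun p hp hd => (hσ p hp hd).1) with ⟨h, -⟩ | ⟨h, -, h'⟩
  · obtain ⟨p, hp, hd⟩ := Nat.exists_prime_and_dvd (n := orderOf v) (by simpa [orderOf_eq_one_iff])
    exact absurd (h p hp hd) (hσ p hp hd).2
  · exact ⟨h, h'⟩

include hU hG hM in
/-- The elements of `U` fixing a point of `M_σ` commute. -/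
theorem U_hat_comm (hD : IsSigmaDecomposition M K U) :
    IsMulCommutative (closure ((U : Set G) ∩ sigmaHat M)) := by
  obtain ⟨A, -, hA, -, hAx⟩ := hU.tau2 hG M hM _ (decomp_compl hU hG hM hD)
  have hmem : ∀ v ∈ (U : Set G) ∩ sigmaHat M, v ∈ A := by
    rintro v ⟨hv, hvM, y, hy, hy1, hvy⟩
    refine hAx v (mem_sup_right hv) ⟨hvM, y, hy, hy1, hvy⟩ fun p hp hd => ?_
    by_cases hv1 : v = 1
    · subst hv1
      exact absurd (orderOf_one (G := G) ▸ hd) hp.not_dvd_one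
    · exact (U_centralizing hU hG hM hD hv hv1 hy hy1 hvy).1 p hp hd
  exact isMulCommutative_closure fun a ha b hb =>
    congrArg Subtype.val (hA.is_comm.comm ⟨a, hmem a ha⟩ ⟨b, hmem b hb⟩)

include hU hG hM in
/-- BG 15.1 (c). -/
theorem U_subgroup_unique (hD : IsSigmaDecomposition M K U) {X : Subgroup G} (hXU : X ≤ U)
    (hX : X ≠ ⊥) (hXc : sigmaCore M ⊓ centralizer (X : Set G) ≠ ⊥) :
    IsCyclic X ∧ centralizer (X : Set G) ≤ M ∧
      ∀ L : Subgroup G, IsCoatom L → centralizer (X : Set G) ≤ L → L = M := by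
  obtain ⟨⟨y, hy⟩, hy1⟩ := ne_bot_iff_exists_ne_one.1 hXc
  have hy1' : y ≠ 1 := fun e => hy1 (Subtype.ext e)
  have hfix : ∀ v ∈ X, v * y = y * v := fun v hv => mem_centralizer_iff.1 (mem_inf.1 hy).2 v hv
  have hhat : ∀ v ∈ X, v ∈ (U : Set G) ∩ sigmaHat M := fun v hv =>
    ⟨hXU hv, hD.compl.1 (hXU hv), y, (mem_inf.1 hy).1, hy1', hfix v hv⟩
  have hc : IsMulCommutative X := ⟨⟨fun a b => Subtype.ext ((congrArg Subtype.val
    ((U_hat_comm hU hG hM hD).is_comm.comm ⟨a, subset_closure (hhat a a.2)⟩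
      ⟨b, subset_closure (hhat b b.2)⟩) : (a : G) * b = b * a))⟩⟩
  have hXM : X ≤ M := hXU.trans hD.compl.1
  have hcyc : IsCyclic X := by
    refine isCyclic_of_comm_rankLE_one
      ((maximal_odd hG M).of_dvd_nat (card_dvd_of_le hXM)) hc fun p hp => ?_
    have := Fact.mk hp
    by_contra hr
    obtain ⟨A, hAX, hA, hA2⟩ := exists_elementary_sq (M := X) hr
    obtain ⟨a, ha, ha1⟩ : ∃ a ∈ A, a ≠ 1 := by
      obtain ⟨⟨a, ha⟩, h⟩ := A.ne_bot_iff_exists_ne_one.1 fun e => by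
        rw [e, card_bot] at hA2
        exact (Nat.one_lt_pow (by norm_num) hp.one_lt).ne' hA2.symm
      exact ⟨a, ha, fun e => h (Subtype.ext e)⟩
    have hap : p ∣ orderOf a := by
      rw [orderOf_eq_prime (hA.2 a ha) ha1]
    have hτ := (U_centralizing hU hG hM hD (hXU (hAX ha)) ha1 (mem_inf.1 hy).1 hy1'
      (hfix a (hAX ha))).1 p hp hap
    have h := (hU.bg13.s1417 hG M hM p hτ A ⟨hAX.trans hXM, hA, hA2⟩).2.2.2.1
    exact hy1' (mem_bot.1 (h.le (mem_inf.2 ⟨(mem_inf.1 hy).1,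
      Subgroup.centralizer_le hAX (mem_inf.1 hy).2⟩)))
  obtain ⟨g, hg⟩ := hcyc.exists_generator
  have hgX : X = zpowers (g : G) := by
    refine le_antisymm (fun v hv => ?_) (zpowers_le.2 g.2)
    obtain ⟨i, hi⟩ := hg ⟨v, hv⟩
    exact ⟨i, congrArg Subtype.val hi⟩
  have hg1 : (g : G) ≠ 1 := fun e => hX (by rw [hgX, e, zpowers_one_eq_bot])
  have h := (U_centralizing hU hG hM hD (hXU g.2) hg1 (mem_inf.1 hy).1 hy1' (hfix g g.2)).2
  rw [hgX, BG13.centralizer_zpowers']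
  exact ⟨hgX ▸ hcyc, h⟩

include hU hG hM in
theorem U_sylow (hD : IsSigmaDecomposition M K U) {p : ℕ} [Fact p.Prime] {P : Subgroup G}
    (hPU : P ≤ U) (hP : IsPGroup p P) : IsMulCommutative P ∧ PRankLE p 2 P := by
  by_cases hP1 : P = ⊥
  · subst hP1
    exact ⟨⟨⟨fun a b => Subsingleton.elim _ _⟩⟩,
      CfsgLib.Base.pRankLE_of_card_le (by rw [card_bot]; exact Nat.one_le_pow _ _ (Fact.out : p.Prime).pos)⟩
  have hσ : p ∉ sigma M := (decomp_U_primes hU hG hM hD Fact.out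
    ((BG13.dvd_of_pGroup_ne_bot hP hP1).trans (card_dvd_of_le hPU))).1
  have hPM : P ≤ M := hPU.trans hD.compl.1
  refine ⟨?_, CfsgLib.Base.pRankLE_of_injective (inclusion hPM) (inclusion_injective hPM)
    (pRankLE_two_of_not_sigma hU.bg13.s1403 hG hM hσ)⟩
  exact (hU.bg13.s1420 hG M hM _ (decomp_compl hU hG hM hD)).1 P hPM
    (haveI := hP.isNilpotent; inferInstance) fun q hq hd => BG13.eq_of_dvd_card_pGroup hP hq hd ▸ hσ

include hU hG hM in
/-- A prime power element of `U` with a semiregular socle. -/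
theorem exists_regular_prime_power (hD : IsSigmaDecomposition M K U) (hK1 : K ≠ ⊥) {p n : ℕ}
    [hp : Fact p.Prime] (hn : 0 < n) (hdvd : p ^ n ∣ Monoid.exponent U) :
    ∃ a ∈ U, orderOf a = p ^ n ∧
      sigmaCore M ⊓ centralizer ({a ^ p ^ (n - 1)} : Set G) = ⊥ := by
  have hUc := U_comm hU hG hM hD hK1
  have hcomm : ∀ a ∈ U, ∀ b ∈ U, a * b = b * a := fun a ha b hb =>
    congrArg Subtype.val (hUc.is_comm.comm ⟨a, ha⟩ ⟨b, hb⟩)
  obtain ⟨g, hg⟩ : ∃ g : U, orderOf g = Monoid.exponent U :=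
    letI : CommGroup U := { (inferInstance : Group U) with mul_comm := hUc.is_comm.comm }
    Monoid.exists_orderOf_eq_exponent Monoid.ExponentExists.of_finite
  obtain ⟨m, hm⟩ := hdvd
  set T₀ : Set G := {x | ∃ a ∈ U, a ^ p ^ n = 1 ∧ x = a ^ p ^ (n - 1)} with hT₀
  have hord : orderOf ((g : G) ^ m) = p ^ n := by
    have hm0 : m ≠ 0 := fun e => Monoid.exponent_ne_zero_of_finite (G := U) (by rw [hm, e, mul_zero])
    rw [orderOf_pow, Subgroup.orderOf_coe, hg, hm, Nat.gcd_eq_right (dvd_mul_left m (p ^ n)),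
      Nat.mul_div_cancel _ (Nat.pos_of_ne_zero hm0)]
  have hordU : ∀ a ∈ U, a ^ p ^ n = 1 → a ^ p ^ (n - 1) ≠ 1 → orderOf a = p ^ n := by
    intro a _ h1 h2
    have := orderOf_eq_prime_pow (n := n - 1) h2 (by rwa [Nat.sub_add_cancel hn])
    rwa [Nat.sub_add_cancel hn] at this
  by_contra hcon
  push Not at hcon
  have hbad : ∀ x ∈ T₀, x ≠ 1 → sigmaCore M ⊓ centralizer ({x} : Set G) ≠ ⊥ := by
    rintro _ ⟨a, ha, h1, rfl⟩ hx1
    exact hcon a ha (hordU a ha h1 hx1)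
  -- `T₀` is a subgroup
  let T : Subgroup G :=
    { carrier := T₀
      one_mem' := ⟨1, one_mem _, one_pow _, (one_pow _).symm⟩
      mul_mem' := by
        rintro _ _ ⟨a, ha, h1, rfl⟩ ⟨b, hb, h2, rfl⟩
        refine ⟨a * b, mul_mem ha hb, ?_, ?_⟩
        · rw [(show Commute a b from hcomm a ha b hb).mul_pow, h1, h2, one_mul]
        · rw [(show Commute a b from hcomm a ha b hb).mul_pow]
      inv_mem' := by
        rintro _ ⟨a, ha, h1, rfl⟩
        exact ⟨a⁻¹, inv_mem ha, by rw [inv_pow, h1, inv_one], (inv_pow _ _).symm⟩ }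
  have hgm : (g : G) ^ m ∈ U := pow_mem g.2 m
  set t₀ := ((g : G) ^ m) ^ p ^ (n - 1) with ht₀
  have ht₀1 : t₀ ≠ 1 := fun e => by
    have := orderOf_dvd_of_pow_eq_one e
    rw [hord] at this
    have := (Nat.pow_dvd_pow_iff_le_right hp.out.one_lt).1 this
    omega
  have ht₀T : t₀ ∈ T := ⟨_, hgm, hord ▸ pow_orderOf_eq_one _, rfl⟩
  have hTe : IsElementaryAbelian p T := by
    refine CfsgLib.Base.isElementaryAbelian_iff.2 ⟨?_, ?_⟩
    · rintro _ ⟨a, ha, -, rfl⟩ _ ⟨b, hb, -, rfl⟩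
      exact hcomm _ (pow_mem ha _) _ (pow_mem hb _)
    · rintro _ ⟨a, ha, h1, rfl⟩
      rw [← pow_mul, ← pow_succ, Nat.sub_add_cancel hn, h1]
  have hTU : T ≤ U := by rintro _ ⟨a, ha, -, rfl⟩; exact pow_mem ha _
  have hTM : T ≤ M := hTU.trans hD.compl.1
  have hp2 : (p : ℕ) ∣ Nat.card U := by
    have := Subgroup.orderOf_dvd_natCard U hgm
    rw [hord] at this
    exact (dvd_pow_self p hn.ne').trans this
  have hσ := decomp_U_primes hU hG hM hD hp.out hp2
  have hT0 : sigmaCore M ⊓ centralizer ({t₀} : Set G) ≠ ⊥ := hbad t₀ ht₀T ht₀1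
  by_cases hTc : T = zpowers t₀
  · -- a characteristic line
    obtain ⟨P, hP⟩ := exists_sylIn (p := p) U
    have hPM : SylIn p P M := by
      refine ⟨hP.le.trans hD.compl.1, hP.isPGroup, fun hd => ?_⟩
      rw [← relIndex_mul_relIndex _ _ _ hP.le hD.compl.1] at hd
      rcases hp.out.dvd_mul.1 hd with h | h
      · exact hP.not_dvd h
      · exact (decomp_hall hU hG hM hD).2.2 p hp.out ⟨hp.out, hσ⟩ h
    refine hσ.1 ((mem_sigma_iff hPM).2 ⟨hp2.trans (card_dvd_of_le hD.compl.1), ?_⟩)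
    have hTP : normalizer (P : Set G) ≤ normalizer (T : Set G) := by
      intro x hx
      refine mem_normalizer_iff_cj.2 (eq_of_le_of_card_ge (cj_le_iff.2 ?_) (card_cj x T).ge)
      rintro _ ⟨a, ha, h1, rfl⟩
      have haP : a ∈ P := by
        obtain ⟨i, -, hi⟩ := (Nat.dvd_prime_pow hp.out).1 (orderOf_dvd_of_pow_eq_one h1)
        obtain ⟨k, hk, hle⟩ := hP.exists_conj (V := zpowers a)
          (IsPGroup.of_card (n := i) (by rw [Nat.card_zpowers, hi]))
          (zpowers_le.2 ha)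
        have := hle (mem_cj.2 (show k⁻¹ * a * k ∈ zpowers a by
          rw [mul_assoc, hcomm a ha k hk, inv_mul_cancel_left]; exact mem_zpowers a))
        exact this
      have haP' := (mem_normalizer_iff.1 hx a).1 haP
      exact ⟨x * a * x⁻¹, hP.le haP', by rw [conj_pow, h1, mul_one, mul_inv_cancel], conj_pow.symm⟩
    refine hTP.trans ?_
    have hC := U_subgroup_unique hU hG hM hD (X := T) hTU
      (fun e => ht₀1 (mem_bot.1 (e ▸ ht₀T))) (by rwa [hTc, BG13.centralizer_zpowers'])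
    obtain ⟨L, hL, hNL⟩ := exists_maximal_ge
      (minSimple_normalizer_ne_top hG (fun e => ht₀1 (mem_bot.1 (e ▸ ht₀T)))
        (ne_top_of_le_maximal hM hTM))
    exact hC.2.2 L hL ((centralizer_le_normalizer _).trans hNL) ▸ hNL
  · have hcard : Nat.card T = p ^ 2 := by
      obtain ⟨k, hk⟩ := IsPGroup.iff_card.1 (CfsgLib.Base.isPGroup_of_isElementaryAbelian hTe)
      have hle : Nat.card T ≤ p ^ 2 := (CfsgLib.Base.pRankLE_subgroup_iff.1
        (pRankLE_two_of_not_sigma hU.bg13.s1403 hG hM hσ.1)) T hTM hTe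
      have hgt : p ^ 1 < Nat.card T := by
        rw [pow_one]
        have hlt : zpowers t₀ < T := lt_of_le_of_ne (zpowers_le.2 ht₀T) (Ne.symm hTc)
        have := card_lt_of_lt hlt
        rwa [Nat.card_zpowers, orderOf_eq_prime (hTe.2 _ ht₀T) ht₀1] at this
      rw [hk] at hle hgt ⊢
      have h1 := (Nat.pow_le_pow_iff_right hp.out.one_lt).1 hle
      have h2 := (Nat.pow_lt_pow_iff_right hp.out.one_lt).1 hgt
      rw [show k = 2 by omega]
    have hτ : p ∈ tau2 M := ⟨hp.out, hσ.1, pRankLE_two_of_not_sigma hU.bg13.s1403 hG hM hσ.1,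
      fun h => by
        have := (CfsgLib.Base.pRankLE_subgroup_iff.1 h) T hTM hTe
        rw [hcard, pow_one, pow_two] at this
        nlinarith [hp.out.two_le]⟩
    obtain ⟨A₁, hA₁T, hA₁, hA₁C⟩ := (hU.bg13.s1417 hG M hM p hτ T ⟨hTM, hTe, hcard⟩).2.2.2.2.2
    obtain ⟨⟨x, hx⟩, hx1⟩ := A₁.ne_bot_iff_exists_ne_one.1 fun e => by
      rw [e, card_bot] at hA₁; exact hp.out.one_lt.ne hA₁
    have hx1' : x ≠ 1 := fun e => hx1 (Subtype.ext e)
    refine hbad x (hA₁T hx) hx1' (le_bot_iff.1 (le_trans ?_ hA₁C.le))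
    refine inf_le_inf_left _ ?_
    rw [← BG13.centralizer_zpowers']
    refine Subgroup.centralizer_le ?_
    have : zpowers x = A₁ := eq_of_le_of_card_ge (zpowers_le.2 hx) (by
      rw [Nat.card_zpowers, orderOf_eq_prime (hTe.2 x (hA₁T hx)) hx1', hA₁])
    rw [this]

end CfsgLib.FT.BG15
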