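import Cfsg.Agent.Lib.FT.BG15.NonTI
import Cfsg.Agent.Lib.FT.BG12.Complement
import Cfsg.Agent.Lib.FT.BG12.SigmaCompl
import Cfsg.Agent.Lib.Base.Frobenius

/-!
BG 15.8, 15.9: the centraliser of an element of `M_σ` inside a maximal subgroup of type `P`.
-/

set_option autoImplicit false
set_option linter.style.haveILetI false

universe u

open Cfsg CfsgLib.OddOrder CfsgLib.Techniques Subgroup
open scoped commutatorElement Pointwise

namespace CfsgLib.FT.BG15

variable {G : Type u} [Group G] [Finite G]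

/-- Conjugating a standard factorisation inside the maximal subgroup. -/
theorem decomp_cj {M K U : Subgroup G} (hD : IsSigmaDecomposition M K U) {m : G} (hm : m ∈ M) :
    IsSigmaDecomposition M (cj m K) (cj m U) := by
  have hM : cj m M = M := cj_eq_self_of_mem hm
  have hS : cj m (sigmaCore M) = sigmaCore M :=
    mem_normalizer_iff_cj.1 (le_normalizer_sigmaCore M hm)
  have hsup : cj m K ⊔ sigmaCore M = cj m (K ⊔ sigmaCore M) := by
    rw [cj, cj, Subgroup.map_sup, ← cj, ← cj, hS]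
  refine ⟨?_, ⟨(cj_mono hD.hall.1).trans hM.le, fun q hq hd => hD.hall.2.1 q hq (card_cj m K ▸ hd),
    fun q hq hk hd => hD.hall.2.2 q hq hk ?_⟩,
    ⟨(cj_mono hD.compl.1).trans hM.le, ?_, ?_, fun a ha => ?_⟩, ?_⟩
  · haveI := hD.cyclic
    exact isCyclic_of_surjective _
      (K.equivMapOfInjective (MulAut.conj m).toMonoidHom (MulEquiv.injective _)).surjective
  · conv at hd => arg 2; rw [← hM]
    rwa [relIndex_cj] at hd
  · rw [hsup]; exact (cj_mono hD.compl.2.1).trans hM.le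
  · rw [hsup, ← cj_inf, hD.compl.2.2.1, cj_bot]
  · obtain ⟨b, hb, c, hc, he⟩ := hD.compl.2.2.2 (m⁻¹ * a * m)
      (mul_mem (mul_mem (inv_mem hm) ha) hm)
    exact ⟨m * b * m⁻¹, conj_mem_cj.2 hb, m * c * m⁻¹, hsup ▸ conj_mem_cj.2 hc,
      by rw [conj_mul, ← he]; group⟩
  · exact (cj_mono hD.normal).trans (cj_normalizer m U).le

variable (hU : Upstream.{u}) (hG : IsMinSimpleOddOrder G) {M : Subgroup G} (hM : IsCoatom M)

/-- `M ∩ M*` for a maximal subgroup `M` through the `σ`-element `x`: the data of the proof. -/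
structure SignalizerData (M : Subgroup G) (x : G) (E Ms Ks K : Subgroup G) : Prop where
  kappa_empty : kappa M = ∅
  mem : x ∈ sigmaCore M
  not_le : ¬ centralizer ({x} : Set G) ≤ M
  cent : M ⊓ centralizer ({x} : Set G) ≤ sigmaCore M
  compl : IsComplIn E (sigmaCore M) M
  compl_eq : E = M ⊓ Ms
  max' : IsCoatom Ms
  ne : Ms ≠ M
  hallK : IsPiHallOf (kappa Ms) Ks Ms
  Ks_ne : Ks ≠ ⊥
  cstar_eq : sigmaCore Ms ⊓ centralizer (Ks : Set G) = K
  K_le : K ≤ E
  K_ne : K ≠ ⊥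
  unique : ∀ Y : Subgroup G, Y ≤ K → (Nat.card Y).Prime → centralizer (Y : Set G) ≤ Ms

include hU hG hM in
theorem exists_signalizerData {x : G} (hx : x ∈ sigmaCore M) {r : ℕ} (hr : r.Prime)
    (hxr : orderOf x = r) (hxM : ¬ centralizer ({x} : Set G) ≤ M) {N : Subgroup G}
    (hN : IsCoatom N) (hxN : centralizer ({x} : Set G) ≤ N) (hkN : (kappa N).Nonempty) :
    ∃ E Ms Ks K : Subgroup G, SignalizerData M x E Ms Ks K := by
  haveI := Fact.mk hr
  have hx1 : x ≠ 1 := fun e => hr.one_lt.ne (by rw [← hxr, e, orderOf_one])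
  have hrM : r ∈ sigma M :=
    (sigmaCore_hallOf hU hG hM).2.1 r hr (hxr ▸ Subgroup.orderOf_dvd_natCard _ hx)
  obtain ⟨N', ⟨hN', hle'⟩, huniq, -, -, -, -, hA⟩ := hU.s1375 hG M hM x hx hx1 hxM
  obtain rfl : N = N' := huniq N hN hxN
  obtain ⟨K₀, U₀, hD₀⟩ := exists_decomposition hU hG hN
  obtain ⟨hU₀, hxA, hxnS⟩ := hA K₀ U₀ hD₀
  have hK₀ : K₀ ≠ ⊥ := (K_ne_bot_iff hU hG hN hD₀.hall).2 hkN
  have hxxN : x ∈ N := hxN (mem_centralizer_singleton_iff.2 rfl)
  -- move `x` into `U`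
  obtain ⟨m, hm, hxU⟩ : ∃ m ∈ N, x ∈ cj m U₀ := by
    haveI := maximal_solvable hG hN
    obtain ⟨g, hg⟩ := (CfsgLib.Coprime.hallD_of_solvable (G := N)
      {q | q.Prime ∧ q ∉ sigma N ∧ q ∉ kappa N}).conj_le
      (U := zpowers (⟨x, hxxN⟩ : N)) (H := U₀.subgroupOf N)
      (fun q hq hd => by
        rw [Nat.card_zpowers, orderOf_mk, hxr] at hd
        rw [(Nat.prime_dvd_prime_iff_eq hq hr).1 hd]
        refine ⟨hr, fun h => hxnS (BG13.mem_sigmaCore_of_orderOf hU.bg13 hG hN hxxN fun q hq hd =>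
          (Nat.prime_dvd_prime_iff_eq hq hr).1 (hxr ▸ hd) ▸ h), ?_⟩
        exact U_sup_sigmaCore_primes hU hG hN hD₀ hr
          (hxr ▸ Subgroup.orderOf_dvd_natCard _ hxA.2))
      (CfsgLib.Coprime.piHallOf_iff.1 (decomp_hall hU hG hN hD₀)).2
    have h : (g : G) * x * (g : G)⁻¹ ∈ U₀ :=
      mem_subgroupOf.1 (hg (Subgroup.smul_mem_pointwise_smul _ (MulAut.conj g) _ (mem_zpowers _)))
    exact ⟨(g : G)⁻¹, inv_mem g.2, mem_cj.2 (by rwa [inv_inv])⟩
  have hD₁ := decomp_cj hD₀ hm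
  set K₁ := cj m K₀
  set U₁ := cj m U₀
  have hK₁ : K₁ ≠ ⊥ := fun e => hK₀ (cj_eq_bot_iff.1 e)
  have hU₁ : U₁ ≠ ⊥ := fun e => hU₀ (cj_eq_bot_iff.1 e)
  obtain ⟨R, hR, hxR⟩ := exists_sylIn_ge (p := r) (H := U₁)
    (IsPGroup.of_card (n := 1) (by rw [Nat.card_zpowers, hxr, pow_one]) : IsPGroup r (zpowers x))
    (zpowers_le.2 hxU)
  have hrU : r ∣ Nat.card U₁ := hxr ▸ Subgroup.orderOf_dvd_natCard _ hxU
  obtain ⟨H, hH, hNH⟩ := exists_maximal_ge (minSimple_normalizer_ne_top hG (sylIn_ne_bot hR hrU)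
    (isPGroup_ne_top hG hR.isPGroup))
  -- `H` is conjugate to `M` by an element fixing `x`
  obtain ⟨c, hc, hHc⟩ : ∃ c ∈ centralizer ({x} : Set G), H = cj c M := by
    obtain ⟨M₁, ⟨hM₁, hst, hhall⟩, -⟩ := hU.s1366 hG N hN K₁ U₁ hD₁ hK₁
    obtain ⟨S, hS⟩ := exists_sylow_of_sylIn hR
    obtain ⟨-, hUH, -⟩ := hU.s1435 hG N hN K₁ U₁ hD₁ hK₁ hU₁ M₁ hM₁ hst hhall r hrU S H hH
      (by rwa [hS])
    have hrH : r ∈ sigma H :=
      (sigmaCore_hallOf hU hG hH).2.1 r hr (hrU.trans (card_dvd_of_le hUH))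
    obtain ⟨g, hg⟩ := hU.sigmaDisjoint hG M H hM hH ⟨r, hrM, hrH⟩
    obtain ⟨-, R₀, -, hR₀, huq⟩ := hU.s1374 hG M hM x hx hx1
    obtain ⟨c, ⟨hc, he⟩, -⟩ := huq g (hg ▸ sigmaCore_le H (hUH hxU))
    exact ⟨c, hR₀.2.1 hc, hg.trans he.symm⟩
  have hcN : c⁻¹ ∈ N := inv_mem (hxN hc)
  have hD := decomp_cj hD₁ hcN
  set K := cj c⁻¹ K₁ with hK
  set U := cj c⁻¹ U₁ with hUdef
  have hK1 : K ≠ ⊥ := fun e => hK₁ (cj_eq_bot_iff.1 e)
  have hU1 : U ≠ ⊥ := fun e => hU₁ (cj_eq_bot_iff.1 e)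
  have hxU' : x ∈ U := mem_cj.2 (by
    rw [inv_inv, mul_assoc, ← mem_centralizer_singleton_iff.1 (inv_mem hc), mul_inv_cancel_left]
    exact hxU)
  have hR' : SylIn r (cj c⁻¹ R) U := hR.cj' c⁻¹
  obtain ⟨S, hS⟩ := exists_sylow_of_sylIn hR'
  have hrU' : r ∣ Nat.card U := hxr ▸ Subgroup.orderOf_dvd_natCard _ hxU'
  obtain ⟨Ms, ⟨hMs, hst, hhall⟩, -⟩ := hU.s1366 hG N hN K U hD hK1
  obtain ⟨hκ, hUS, hMN, -, hKF, hcompl⟩ := hU.s1435 hG N hN K U hD hK1 hU1 Ms hMs hst hhall r hrU'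
    S M hM (by
      rw [hS, ← cj_normalizer]
      calc cj c⁻¹ (normalizer (R : Set G)) ≤ cj c⁻¹ H := cj_mono hNH
        _ = M := by rw [hHc, cj_inv_cj])
  have hcst : cstar N K ≠ ⊥ := cstar_ne_bot hU hG hN hD.hall
  have hne : Ms ≠ M := fun e => by
    obtain ⟨q, hq⟩ := (K_ne_bot_iff hU hG hMs hhall).1 hcst
    rw [e, hκ] at hq
    exact hq
  refine ⟨M ⊓ Ms, Ms, cstar N K, K, hκ, hx, hxM, fun v hv => ?_, hcompl, rfl, hMs, hne, hhall, hcst,
    hst.symm, hKF.trans (fittingOf_le _), hK1,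
    fun Y hY hYp => ((hU.s1367 hG N hN K U hD hK1 Ms hMs hst hhall).2 Y hY hYp).1⟩
  obtain ⟨hvM, hvx⟩ := mem_inf.1 hv
  have hvUK : v ∈ U ⊔ K := hMN ▸ mem_inf.2 ⟨hxN hvx, hvM⟩
  rw [sup_comm, CfsgLib.Coprime.mem_sup_iff_of_le_normalizer hD.normal] at hvUK
  obtain ⟨k, hk, a, ha, rfl⟩ := hvUK
  suffices hk1 : k = 1 by rw [hk1, one_mul]; exact hUS ha
  by_contra hk1
  have hUc := U_comm hU hG hN hD hK1
  have hax : Commute a x := congrArg Subtype.val (hUc.is_comm.comm ⟨a, ha⟩ ⟨x, hxU'⟩)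
  have hkx : Commute k x := by
    have h := (show Commute (k * a) x from mem_centralizer_singleton_iff.1 hvx).mul_left hax.inv_left
    rwa [mul_inv_cancel_right] at h
  exact hx1 (mem_bot.1 ((U_fpf hU hG hN hD hk hk1).le
    (mem_inf.2 ⟨hxU', mem_centralizer_singleton_iff.2 hkx.eq.symm⟩)))

variable {x : G} {E Ms Ks K : Subgroup G}

include hU hG hM in
theorem SignalizerData.nilpotent (d : SignalizerData M x E Ms Ks K) :
    fittingHallOf M = sigmaCore M := by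
  by_contra h
  obtain ⟨K', U', hD⟩ := exists_decomposition hU hG hM
  obtain ⟨q, hq⟩ := (K_ne_bot_iff hU hG hM hD.hall).1
    (K_ne_bot_of_U_bot hU hG hM hD (U_eq_bot_of_ne hU hG hM hD h))
  rw [d.kappa_empty] at hq
  exact hq

include hU hG hM in
theorem SignalizerData.exists_conj (d : SignalizerData M x E Ms Ks K) (hx1 : x ≠ 1) :
    ∃ g : G, g ∉ M ∧ g * x = x * g ∧ fitMeet M g ≠ ⊥ := by
  obtain ⟨g, hg, hgM⟩ := SetLike.not_le_iff_exists.1 d.not_le
  have hgx := mem_centralizer_singleton_iff.1 hg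
  have hxF : x ∈ fittingOf M :=
    fittingHallOf_le_fittingOf M ((d.nilpotent hU hG hM).ge d.mem)
  refine ⟨g, hgM, hgx, fun h => hx1 (mem_bot.1 (h.le (mem_inf.2 ⟨hxF, mem_cj.2 ?_⟩)))⟩
  rwa [mul_assoc, ← hgx, inv_mul_cancel_left]

omit [Finite G] in
theorem SignalizerData.compl_inf_centralizer (d : SignalizerData M x E Ms Ks K) :
    E ⊓ centralizer ({x} : Set G) = ⊥ :=
  le_bot_iff.1 ((le_inf inf_le_left ((inf_le_inf_right _ d.compl.1).trans d.cent)).trans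
    d.compl.2.2.1.le)

include hU hG hM in
theorem SignalizerData.comm (d : SignalizerData M x E Ms Ks K) (hx1 : x ≠ 1) :
    IsMulCommutative E := by
  obtain ⟨g, hg, -, hne⟩ := d.exists_conj hU hG hM hx1
  have h := compl_derived_le_centralizer hU hG hM hg hne d.compl
  have h' : ⁅E, E⁆ = ⊥ := le_bot_iff.1 ((le_inf (commutator_le_self E)
    (h.trans (centralizer_le_of_mem d.mem))).trans d.compl_inf_centralizer.le)
  exact le_centralizer_iff_isMulCommutative.1 (commutator_eq_bot_iff_le_centralizer.1 h')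

include hU hG hM in
/-- No prime of `τ₂(M)`. -/
theorem SignalizerData.tau2_empty (d : SignalizerData M x E Ms Ks K) (hx1 : x ≠ 1) :
    tau2 M = ∅ := by
  refine Set.eq_empty_iff_forall_notMem.2 fun r' hr' => ?_
  haveI := Fact.mk hr'.1
  obtain ⟨A, hAE, hAe, hA2⟩ := CfsgLib.FT.BG12.exists_elem_compl hG hM d.compl hr'
  have hEc := d.comm hU hG hM hx1
  -- the Sylow subgroups of `G` are abelian
  have hab : ∀ T : Subgroup G, IsPGroup r' T → IsMulCommutative T := by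
    by_cases h : ∀ S : Sylow r' G, ¬ IsMulCommutative (S : Subgroup G)
    · exfalso
      obtain ⟨-, ⟨hA₀, -⟩, -⟩ := hU.s1419 hG M hM E d.compl r' hr' h A ⟨hAE, hAe, hA2⟩
      rw [le_bot_iff.1 ((inf_le_inf hAE (centralizer_le_of_mem d.mem)).trans
        d.compl_inf_centralizer.le), card_bot] at hA₀
      exact hr'.1.one_lt.ne hA₀
    intro T hT
    push Not at h
    obtain ⟨S, hS⟩ := h
    obtain ⟨c, -, hc⟩ := (sylIn_top S).exists_conj hT le_top
    refine ⟨⟨fun a b => Subtype.ext ?_⟩⟩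
    have ha := hc (conj_mem_cj.2 a.2)
    have hb := hc (conj_mem_cj.2 b.2)
    have h := congrArg Subtype.val (hS.is_comm.comm ⟨_, ha⟩ ⟨_, hb⟩)
    simp only [Subgroup.coe_mul, conj_mul] at h
    exact mul_left_cancel (mul_right_cancel h)
  -- an element of `A` with fixed points on `M_σ`
  obtain ⟨a, haA, ha1, hafix⟩ : ∃ a ∈ A, a ≠ 1 ∧
      sigmaCore M ⊓ centralizer ({a} : Set G) ≠ ⊥ := by
    by_contra hno
    push Not at hno
    haveI := hAe.1
    have hle : sigmaCore M ≤ (⊥ : Subgroup G) :=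
      CfsgLib.Coprime.le_of_centralizer_le_of_not_isCyclic (A := A) (K := sigmaCore M)
        (fun hc => by
          have := CfsgLib.Base.pRankLE_subgroup_iff.1 (BG13.pRankLE_one_of_cyclic (p := r') hc) A
            le_rfl hAe
          rw [hA2, pow_one] at this
          have := Nat.pow_lt_pow_right hr'.1.one_lt (show 1 < 2 by norm_num)
          rw [pow_one] at this
          omega)
        ((hAE.trans d.compl.1).trans (le_normalizer_sigmaCore M))
        (Nat.coprime_of_dvd fun q hq h1 h2 =>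
          BG13.compl_primes hU.bg13 hG hM d.compl hq (h1.trans (card_dvd_of_le hAE))
            ((sigmaCore_hallOf hU hG hM).2.1 q hq h2))
        fun a ha ha1 => (hno a ha ha1).le
    exact sigmaCore_ne_bot' hU hG hM (le_bot_iff.1 hle)
  have hao : orderOf a = r' :=
    orderOf_eq_prime ((CfsgLib.Base.isElementaryAbelian_iff.1 hAe).2 a haA) ha1
  obtain ⟨⟨y, hy⟩, hy1⟩ := ne_bot_iff_exists_ne_one.1 hafix
  have haτ : ∀ q : ℕ, q.Prime → q ∣ orderOf a → q = r' := fun q hq hd =>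
    (Nat.prime_dvd_prime_iff_eq hq hr'.1).1 (hao ▸ hd)
  have hCaM : centralizer ({a} : Set G) ≤ M ∧
      ∀ L : Subgroup G, IsCoatom L → centralizer ({a} : Set G) ≤ L → L = M :=
    (hU.bg13.s1420 hG M hM E d.compl).2.2.2 a (d.compl.1 (hAE haA)) ha1
      (fun q hq hd => haτ q hq hd ▸ hr') ⟨d.compl.1 (hAE haA), y, (mem_inf.1 hy).1,
        fun e => hy1 (Subtype.ext e), (mem_centralizer_singleton_iff.1 (mem_inf.1 hy).2).symm⟩
  -- an element of prime order of `K`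
  obtain ⟨q, hq, -, Y, hYK, hYc⟩ := BG13.exists_card_prime d.K_ne
  haveI := Fact.mk hq
  obtain ⟨k, hkY, hk1⟩ : ∃ k ∈ Y, k ≠ 1 := by
    obtain ⟨⟨k, hk⟩, hk1⟩ := ne_bot_iff_exists_ne_one.1 (BG13.ne_bot_of_card_prime hYc)
    exact ⟨k, hk, fun e => hk1 (Subtype.ext e)⟩
  have hkMs : k ∈ sigmaCore Ms := (mem_inf.1 (d.cstar_eq.ge (hYK hkY))).1
  have hka : Commute a k :=
    congrArg Subtype.val (hEc.is_comm.comm ⟨a, hAE haA⟩ ⟨k, d.K_le (hYK hkY)⟩)
  have haMs : a ∈ Ms := (mem_inf.1 (d.compl_eq.le (hAE haA))).2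
  have hrσ : r' ∈ sigma Ms := by
    by_contra hσ
    rcases hU.s1432 hG Ms d.max' k hkMs hk1 a (mem_inf.2 ⟨haMs,
      mem_centralizer_singleton_iff.2 hka.eq⟩) ha1 (fun q hq hd => haτ q hq hd ▸ hσ) with
      ⟨h1, -⟩ | ⟨-, -, h2, -⟩
    · refine hr'.2.2.2 ?_
      have h3 := (tau13_of_kappa hG (h1 r' hr'.1 (hao ▸ dvd_rfl))).2.2.2
      have h4 := CfsgLib.Base.pRankLE_subgroup_iff.1 h3 A
        (fun b hb => (mem_inf.1 (d.compl_eq.le (hAE hb))).2) hAe
      rw [hA2, pow_one] at h4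
      have := Nat.pow_lt_pow_right hr'.1.one_lt (show 1 < 2 by norm_num)
      rw [pow_one] at this
      omega
    · exact d.ne (hCaM.2 Ms d.max' h2)
  have haS : a ∈ sigmaCore Ms :=
    BG13.mem_sigmaCore_of_orderOf hU.bg13 hG d.max' haMs fun s hs hd => haτ s hs hd ▸ hrσ
  -- it suffices that `a` centralises a Sylow `q`-subgroup of `M*_σ`
  have hqd : q ∣ Nat.card ↥(sigmaCore Ms ⊓ centralizer (Ks : Set G)) := by
    rw [d.cstar_eq, ← hYc]; exact card_dvd_of_le hYK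
  suffices h : ∃ T : Subgroup G, SylIn q T (sigmaCore Ms) ∧ T ≤ centralizer ({a} : Set G) by
    obtain ⟨T, hT, hTa⟩ := h
    obtain ⟨S, hS⟩ := exists_sylow_of_sylIn hT
    obtain ⟨hu, hTM, -⟩ := (hU.s1431 hG Ms d.max' Ks d.hallK d.Ks_ne).2.2.1 q hq hqd S
    rw [hS] at hu hTM
    exact d.ne (eq_of_inUniqueMaximal hu d.max' hTM hM (hTa.trans hCaM.1)).symm
  by_cases hqr : q = r'
  · subst hqr
    obtain ⟨T, hT, haT⟩ := exists_sylIn_ge (p := q) (H := sigmaCore Ms)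
      (IsPGroup.of_card (n := 1) (by rw [Nat.card_zpowers, hao, pow_one]) : IsPGroup q (zpowers a))
      (zpowers_le.2 haS)
    exact ⟨T, hT, fun b hb => mem_centralizer_singleton_iff.2
      (congrArg Subtype.val ((hab T hT.isPGroup).is_comm.comm ⟨b, hb⟩
        ⟨a, haT (mem_zpowers a)⟩) :)⟩
  by_cases hn : fittingHallOf Ms = sigmaCore Ms
  · have hn' := (fittingHallOf_eq_iff hU hG d.max').1 hn
    have h1 := piCoreOf_hall_nilpotent {q} hn'
    refine ⟨hallPart q (sigmaCore Ms), ⟨h1.1, isPGroup_hallPart _, h1.2.2 q hq rfl⟩, fun b hb => ?_⟩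
    exact mem_centralizer_singleton_iff.2 (commute_hallPart hn' hb
      (mem_piCoreOf_nilpotent hn' haS fun s hs hd =>
        ⟨hs, fun e => hqr (e.symm.trans (haτ s hs hd))⟩)).eq
  exfalso
  obtain ⟨U'', hD''⟩ := exists_decomposition_of_hall hU hG d.max'
    ((hU.s1351 hG Ms d.max').2 Ks d.hallK) d.hallK
  obtain ⟨q₀, Q, hQ⟩ := exists_fcoreData hU hG d.max' hD'' hn
  have hKc : Nat.card K = q₀ := by rw [← d.cstar_eq]; exact hQ.cstar_card
  have hqq : q = q₀ := (Nat.prime_dvd_prime_iff_eq hq hQ.hq).1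
    (hKc ▸ hYc ▸ card_dvd_of_le hYK)
  subst hqq
  obtain ⟨D₀, hD₀, hsupD, hD₀q⟩ := hQ.exists_compl
  -- a complement containing `a`
  haveI := minSimple_solvable hG (ne_top_of_le_maximal d.max' (sigmaCore_le Ms))
  have hDhall : IsPiHallOf {s | s.Prime ∧ s ≠ q} D₀ (sigmaCore Ms) := by
    refine ⟨hD₀.2.1, fun s hs hd => ⟨hs, fun e => hD₀q (e ▸ hd)⟩, fun s hs hπ hd => ?_⟩
    have h2 : D₀.relIndex (sigmaCore Ms) = Nat.card Q := Nat.eq_of_mul_eq_mul_right Nat.card_pos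
      ((relIndex_mul_card_of_le hD₀.2.1).trans (card_mul_card_of_isComplIn hD₀).symm)
    rw [h2] at hd
    exact hπ.2 (BG13.eq_of_dvd_card_pGroup hQ.pgroup hs hd)
  obtain ⟨s, hs⟩ := (CfsgLib.Coprime.hallD_of_solvable (G := sigmaCore Ms)
    {s | s.Prime ∧ s ≠ q}).conj_le (U := zpowers (⟨a, haS⟩ : sigmaCore Ms))
    (H := D₀.subgroupOf (sigmaCore Ms))
    (fun t ht hd => by
      rw [Nat.card_zpowers, orderOf_mk] at hd
      exact ⟨ht, fun e => hqr (e.symm.trans (haτ t ht hd))⟩)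
    (CfsgLib.Coprime.piHallOf_iff.1 hDhall).2
  have has : (s : G) * a * (s : G)⁻¹ ∈ D₀ :=
    mem_subgroupOf.1 (hs (Subgroup.smul_mem_pointwise_smul _ (MulAut.conj s) _ (mem_zpowers _)))
  set D := cj (s : G)⁻¹ D₀ with hDdef
  have haD : a ∈ D := mem_cj.2 (by rwa [inv_inv])
  have hsQ : cj (s : G)⁻¹ Q = Q :=
    mem_normalizer_iff_cj.1 (inv_mem (hQ.normal (sigmaCore_le Ms s.2)))
  have hsS : cj (s : G)⁻¹ (sigmaCore Ms) = sigmaCore Ms := cj_eq_self_of_mem (inv_mem s.2)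
  have hD : IsComplIn Q D (sigmaCore Ms) := by
    refine ⟨hQ.le, hsS ▸ cj_mono hD₀.2.1, ?_, fun b hb => ?_⟩
    · rw [← hsQ, ← cj_inf, hD₀.2.2.1, cj_bot]
    · obtain ⟨u, hu, v, hv, he⟩ := hD₀.2.2.2 ((s : G) * b * (s : G)⁻¹)
        (mul_mem (mul_mem s.2 hb) (inv_mem s.2))
      refine ⟨(s : G)⁻¹ * u * (s : G), hsQ ▸ mem_cj.2 (by simpa [mul_assoc] using hu),
        (s : G)⁻¹ * v * (s : G), mem_cj.2 (by simpa [mul_assoc] using hv), ?_⟩
      calc b = (s : G)⁻¹ * ((s : G) * b * (s : G)⁻¹) * (s : G) := by group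
        _ = _ := by rw [he]; group
  haveI hDn := (hQ.compl D hD).1
  have hDa : D ≤ centralizer ({a} : Set G) := by
    refine le_of_parts (p := r') hDn (fun b hb => mem_centralizer_singleton_iff.2 ?_)
      (hallCompl_le_centralizer hDn haD haτ)
    exact (congrArg Subtype.val ((hab _ (isPGroup_hallPart D)).is_comm.comm ⟨b, hb⟩
      ⟨a, mem_piCoreOf_nilpotent hDn haD haτ⟩) :)
  have hDE : D ≤ E :=
    (le_inf (hDa.trans hCaM.1) (hD.2.1.trans (sigmaCore_le Ms))).trans d.compl_eq.ge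
  refine hQ.cstar_not_le D hD (le_inf hQ.cstar_le fun u hu => mem_centralizer_iff.2 fun v hv => ?_)
  have huE : u ∈ E := d.K_le (d.cstar_eq.le hu)
  exact congrArg Subtype.val (hEc.is_comm.comm ⟨v, hDE hv⟩ ⟨u, huE⟩)

include hU hG hM in
theorem SignalizerData.frobenius (d : SignalizerData M x E Ms Ks K) (hx1 : x ≠ 1) :
    IsCyclic E ∧ IsFrobeniusComplement (E.subgroupOf M) ∧
      frobeniusKernel (E.subgroupOf M) = ((Cfsg.fittingHall ↥M : Subgroup ↥M) : Set ↥M) := by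
  have hτ := d.tau2_empty hU hG hM hx1
  have hcyc : IsCyclic E := by
    refine isCyclic_of_comm_rankLE_one ((maximal_odd hG M).of_dvd_nat (card_dvd_of_le d.compl.1))
      (d.comm hU hG hM hx1) fun q hq => ?_
    haveI := Fact.mk hq
    by_contra hr
    obtain ⟨B, hB, hBe, hB2⟩ := exists_elementary_sq (M := E) hr
    have hd : q ∣ Nat.card E := (hB2 ▸ dvd_pow_self q two_ne_zero).trans (card_dvd_of_le hB)
    rcases BG13.tau_cases hU.bg13 hG hM (hd.trans (card_dvd_of_le d.compl.1))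
      (BG13.compl_primes hU.bg13 hG hM d.compl hq hd) with h | h
    · exact hr (CfsgLib.Base.pRankLE_of_injective (inclusion d.compl.1) (inclusion_injective _)
        h.2.2.2)
    · rw [hτ] at h; exact h
  have hH := d.nilpotent hU hG hM
  have hE1 : E ≠ ⊥ := fun e => d.K_ne (le_bot_iff.1 (e ▸ d.K_le))
  have hc := (CfsgLib.FT.isComplement'_sigmaCompl d.compl).symm
  have hcore : piCore (sigma M) ↥M = Cfsg.fittingHall ↥M := map_injective M.subtype_injective hH.symm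
  rw [hcore] at hc
  have hfr : IsFrobeniusComplement (E.subgroupOf M) := by
    refine (CfsgLib.Base.Frobenius.isFrobeniusComplement_iff _ _ hc
      (fun e => fittingHallOf_ne_bot hU hG hM (by rw [fittingHallOf, e, Subgroup.map_bot]))
      (fun e => hE1 ?_)).2 fun h hh hh1 => ?_
    · rw [← map_subgroupOf_eq_of_le d.compl.1, e, Subgroup.map_bot]
    rw [eq_bot_iff]
    rintro ⟨y, hyM⟩ ⟨hyF, hyc⟩
    rw [mem_bot]
    by_contra hy1
    have hyS : y ∈ sigmaCore M := hH ▸ mem_map_of_mem M.subtype hyF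
    have hh1' : (h : G) ≠ 1 := fun e => hh1 (Subtype.ext e)
    obtain ⟨q, hq, hqd⟩ := Nat.exists_prime_and_dvd fun e => hh1' (orderOf_eq_one_iff.1 e)
    rcases hU.s1432 hG M hM y hyS (fun e => hy1 (Subtype.ext e)) (h : G)
      (mem_inf.2 ⟨h.2, mem_centralizer_singleton_iff.2
        (congrArg Subtype.val (mem_centralizer_singleton_iff.1 hyc).symm :)⟩) hh1'
      (fun s hs hd => BG13.compl_primes hU.bg13 hG hM d.compl hs
        (hd.trans (Subgroup.orderOf_dvd_natCard E (mem_subgroupOf.1 hh)))) with ⟨h1, -⟩ | ⟨h1, -⟩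
    · have := h1 q hq hqd; rw [d.kappa_empty] at this; exact this
    · have := h1 q hq hqd; rw [hτ] at this; exact this
  exact ⟨hcyc, hfr, CfsgLib.Base.Frobenius.frobeniusKernel_eq hfr _ hc⟩

include hU hG hM in
/-- BG 15.8, 15.9. -/
theorem nonTI_of_typeP_signalizer {x : G} (hx : x ∈ sigmaCore M) (hx1 : x ≠ 1)
    (hxM : ¬ centralizer ({x} : Set G) ≤ M) {N : Subgroup G} (hN : IsCoatom N)
    (hxN : centralizer ({x} : Set G) ≤ N) (hkN : (kappa N).Nonempty) :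
    kappa M = ∅ ∧ (∃ E : Subgroup G, IsComplIn E (sigmaCore M) M ∧ IsCyclic E ∧
      IsFrobeniusComplement (E.subgroupOf M) ∧
        frobeniusKernel (E.subgroupOf M) = ((Cfsg.fittingHall ↥M : Subgroup ↥M) : Set ↥M)) ∧
      ¬ IsTISubset (fittingHallOf M : Set G) := by
  obtain ⟨r, n, hr, -, hn⟩ := exists_pow_prime hx1
  have hle : centralizer ({x} : Set G) ≤ centralizer ({x ^ n} : Set G) :=
    centralizer_singleton_le_of_mem_zpowers (pow_mem (mem_zpowers x) n)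
  set y := x ^ n
  have hy1 : y ≠ 1 := fun e => hr.one_lt.ne (by rw [← hn, e, orderOf_one])
  have hyS : y ∈ sigmaCore M := pow_mem hx n
  have hyM : ¬ centralizer ({y} : Set G) ≤ M := fun h => hxM (hle.trans h)
  obtain ⟨N', hN', hy'⟩ := exists_maximal_ge (minSimple_centralizer_singleton_ne_top hG hy1)
  obtain ⟨N₀, -, huniq, -⟩ := hU.s1375 hG M hM x hx hx1 hxM
  obtain rfl : N' = N := (huniq N' hN' (hle.trans hy')).trans (huniq N hN hxN).symm
  obtain ⟨E, Ms, Ks, K, d⟩ := exists_signalizerData hU hG hM hyS hr hn hyM hN hy' hkN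
  obtain ⟨h1, h2, h3⟩ := d.frobenius hU hG hM hy1
  refine ⟨d.kappa_empty, ⟨E, d.compl, h1, h2, h3⟩, fun hTI => ?_⟩
  obtain ⟨g, hgM, hgy, -⟩ := d.exists_conj hU hG hM hy1
  have hn' : normalizer (fittingHallOf M : Set G) = M := normalizer_eq_maximal hG hM
    (fittingHallOf_le M) (fittingHallOf_ne_bot hU hG hM) (le_normalizer_fittingHallOf M)
  have hyF : y ∈ fittingHallOf M := (d.nilpotent hU hG hM).ge d.mem
  exact hy1 (hTI g (by rw [hn']; exact hgM) y hyF (by rwa [hgy, mul_inv_cancel_right]))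

end CfsgLib.FT.BG15
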